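import Cfsg.Agent.H932.MtThreeF

/-!
# Characteristic three: `2.M₁₂` has no irreducible representation of dimension 12, conclusion (helper932)

* `Odd12.three_false`.
-/

set_option autoImplicit false
set_option linter.unusedSectionVars false

namespace Cfsg.Agent.H932.Mt

open Module

variable {F V : Type*} [Field F] [AddCommGroup V] [Module F V] [FiniteDimensional F V]
variable {ρ : Γ →* Module.End F V} {v : V}

theorem H00 : Hm 0 0 = 1 := by decide +kernel

theorem form_tab' : ∀ k j : Fin 12, Hm k 0 * (Hm 0 j * Hm k j) = if ty k j = 4 then -1 else 1 := by decide +kernel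

namespace Dat

variable {φ : Module.Dual F V} (D : Dat ρ v φ)
include D

theorem R_cases (hR : D.R 1 = D.R 0 ∧ D.R 2 = D.R 0 ∧ D.R 3 = D.R 0) (t : Fin 5) :
    D.R t = if t = 4 then D.R 4 else D.R 0 := by
  fin_cases t
  · rfl
  · exact hR.1
  · exact hR.2.1
  · exact hR.2.2
  · rfl

theorem form_neg (hn : ρ neg = -1) (k : Fin 24) (j : Fin 12) :
    2 * φ (vs ρ v k j) = (D.R 0 + D.R 4) * ((Hh k (pos 0) : ℤ) : F)
      + (D.R 0 - D.R 4) * ((sgn k * Hm (idx k) j * Hm 0 j : ℤ) : F) := by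
  have key : ∀ i : Fin 12, 2 * φ (vs ρ v (pos i) j) = (D.R 0 + D.R 4) * ((Hm i 0 : ℤ) : F)
      + (D.R 0 - D.R 4) * ((Hm i j * Hm 0 j : ℤ) : F) := by
    intro i
    rw [D.val_neg hn, D.R_cases (D.eqs_neg hn)]
    obtain ⟨h1, h2⟩ := form_tab i j
    have h1' := congrArg (fun z : ℤ => (z : F)) h1
    have h2' := congrArg (fun z : ℤ => (z : F)) h2
    simp only [Int.cast_add, Int.cast_sub] at h1' h2'
    split_ifs at h1' h2' ⊢ with h
    · rw [Int.cast_zero] at h1'
      rw [Int.cast_mul 2, Int.cast_ofNat] at h2'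
      linear_combination -D.R 0 * h1' - D.R 4 * h2'
    · rw [Int.cast_zero] at h2'
      rw [Int.cast_mul 2, Int.cast_ofNat] at h1'
      linear_combination -D.R 0 * h1' - D.R 4 * h2'
  rcases eq_pos_or k with hk | hk
  · rw [hk, key, Hh_pos, sgn_pos, idx_pos, one_mul]
  · rw [hk, Hh_ngpos, sgn_ng, sgn_pos, idx_ng, idx_pos, vs_ng, hn]
    have h3 : φ ((-1 : Module.End F V) (vs ρ v (pos (idx k)) j)) = -φ (vs ρ v (pos (idx k)) j) := by
      rw [← map_neg]
      rfl
    rw [h3]
    have h4 := key (idx k)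
    push_cast at h4 ⊢
    linear_combination -h4

/-- the term of the second kind -/
theorem bp_eq (g : Γ) (i j : Fin 12) :
    sgn (g.1.1 (pos i)) * Hm (idx (g.1.1 (pos i))) (ci g j) * Hm 0 (ci g j)
      = Hm i j * Hh (pos 0) ((out g).1.1 (pos j)) := by
  have h1 := inter_out g (pos i) (pos j)
  rw [Hh_pos] at h1
  rw [← h1]
  unfold Hh ci
  rw [sgn_pos, idx_pos]
  linear_combination -(sgn (g.1.1 (pos i)) * Hm (idx (g.1.1 (pos i))) (idx ((out g).1.1 (pos j))) *
    Hm 0 (idx ((out g).1.1 (pos j)))) * sgn_sq ((out g).1.1 (pos j))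

theorem form_neg' (hn : ρ neg = -1) (g : Γ) (i j : Fin 12) :
    2 * φ (ρ g (vs ρ v (pos i) j)) = (D.R 0 + D.R 4) * ((Hh (g.1.1 (pos i)) (pos 0) : ℤ) : F)
      + (D.R 0 - D.R 4) * ((Hm i j * Hh (pos 0) ((out g).1.1 (pos j)) : ℤ) : F) := by
  rw [act2 D.fix, D.form_neg hn, D.bp_eq]

theorem A_zero (hn : ρ neg = -1) : D.R 0 + D.R 4 = 0 := by
  set w : V := vs ρ v (pos 0) 0 + vs ρ v (pos 0) 2 - vs ρ v (pos 1) 0 + vs ρ v (pos 1) 2 with hw
  have key : ∀ g, 2 * φ (ρ g w) = 2 * ((D.R 0 + D.R 4) * ((Hh (g.1.1 (pos 0)) (pos 0) : ℤ) : F)) := by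
    intro g
    have e1 := D.form_neg' hn g 0 0
    have e2 := D.form_neg' hn g 0 2
    have e3 := D.form_neg' hn g 1 0
    have e4 := D.form_neg' hn g 1 2
    have h1 : Hm 0 2 = -1 := by decide +kernel
    have h2 : Hm 1 0 = 1 := by decide +kernel
    have h3 : Hm 1 2 = 1 := by decide +kernel
    rw [H00] at e1
    rw [h1] at e2
    rw [h2] at e3
    rw [h3] at e4
    rw [hw, map_add, map_sub, map_add, map_add, map_sub, map_add]
    push_cast at e1 e2 e3 e4 ⊢
    linear_combination e1 + e2 - e3 + e4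
  have hfix : w = 0 := by
    apply no_fix_three'' D.two D.three D.dim D.irr
    intro h hh
    rw [← sub_eq_zero]
    apply D.sep
    intro g
    rw [map_sub, map_sub, sub_eq_zero, ← rmul]
    apply mul_left_cancel₀ D.two
    rw [key, key]
    have h1 : (g * h).1.1 (pos 0) = g.1.1 (h.1.1 (pos 0)) := rfl
    rw [h1, hh]
  have h1 := key 1
  rw [hfix, map_zero, map_zero, mul_zero] at h1
  have h2 : Hh ((1 : Γ).1.1 (pos 0)) (pos 0) = 1 := by
    change Hh (pos 0) (pos 0) = 1
    rw [Hh_pos, H00]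
  rw [h2, Int.cast_one, mul_one] at h1
  exact (mul_eq_zero.1 h1.symm).resolve_left D.two

theorem B_zero (hn : ρ neg = -1) : D.R 0 - D.R 4 = 0 := by
  set w : V := vs ρ v (pos 0) 0 + vs ρ v (pos 1) 0 - vs ρ v (pos 0) 2 - vs ρ v (pos 1) 2 with hw
  have key : ∀ g, 2 * φ (ρ g w) = 2 * ((D.R 0 - D.R 4) * ((Hh (pos 0) ((out g).1.1 (pos 0)) : ℤ) : F)) := by
    intro g
    have e1 := D.form_neg' hn g 0 0
    have e2 := D.form_neg' hn g 0 2
    have e3 := D.form_neg' hn g 1 0
    have e4 := D.form_neg' hn g 1 2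
    have h1 : Hm 0 2 = -1 := by decide +kernel
    have h2 : Hm 1 0 = 1 := by decide +kernel
    have h3 : Hm 1 2 = 1 := by decide +kernel
    rw [H00] at e1
    rw [h1] at e2
    rw [h2] at e3
    rw [h3] at e4
    rw [hw]
    simp only [map_sub, map_add]
    push_cast at e1 e2 e3 e4 ⊢
    linear_combination e1 - e2 + e3 - e4
  have hfix : w = 0 := by
    apply no_fix_three' D.two D.three D.dim D.irr
    intro h hh
    rw [← sub_eq_zero]
    apply D.sep
    intro g
    rw [map_sub, map_sub, sub_eq_zero, ← rmul]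
    apply mul_left_cancel₀ D.two
    rw [key, key, map_mul]
    have h1 : (out g * out h).1.1 (pos 0) = (out g).1.1 ((out h).1.1 (pos 0)) := rfl
    rw [h1, hh]
  have h1 := key 1
  rw [hfix, map_zero, map_zero, mul_zero] at h1
  have h2 : Hh (pos 0) ((out (1 : Γ)).1.1 (pos 0)) = 1 := by
    rw [map_one]
    change Hh (pos 0) (pos 0) = 1
    rw [Hh_pos, H00]
  rw [h2, Int.cast_one, mul_one] at h1
  exact (mul_eq_zero.1 h1.symm).resolve_left D.two

theorem false_neg (hn : ρ neg = -1) : False := by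
  apply D.v0
  apply D.sep
  intro g
  have h1 := D.form_neg' hn g 0 0
  rw [D.A_zero hn, D.B_zero hn, zero_mul, zero_mul, add_zero, vs_zero] at h1
  exact (mul_eq_zero.1 h1).resolve_left D.two

theorem form_pos (hn : ρ neg = 1) (k : Fin 24) (j : Fin 12) :
    2 * φ (vs ρ v k j) = (D.R 0 + D.R 4) + (D.R 0 - D.R 4) * ((PP (pos 0) (pos 0) k (pos j) : ℤ) : F) := by
  have key : ∀ i : Fin 12, 2 * φ (vs ρ v (pos i) j) = (D.R 0 + D.R 4)
      + (D.R 0 - D.R 4) * ((Hm i 0 * (Hm 0 j * Hm i j) : ℤ) : F) := by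
    intro i
    rw [D.val_pos hn, D.R_cases (D.eqs_pos hn), form_tab']
    split_ifs
    · push_cast
      ring
    · push_cast
      ring
  have h1 : φ (vs ρ v k j) = φ (vs ρ v (pos (idx k)) j) := by
    rcases eq_pos_or k with hk | hk
    · rw [← hk]
    · nth_rewrite 1 [hk]
      rw [vs_ng, hn]
      rfl
  rw [h1, key, PP_idx, idx_pos, idx_pos, H00, one_mul]

theorem form_pos' (hn : ρ neg = 1) (i j k l : Fin 12) :
    2 * φ (ρ (rp2 i j)⁻¹ (vs ρ v (pos k) l)) = (D.R 0 + D.R 4)
      + (D.R 0 - D.R 4) * ((PP (pos i) (pos j) (pos k) (pos l) : ℤ) : F) := by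
  rw [act2 D.fix, D.form_pos hn]
  congr 3
  rw [← PP_inv (rp2 i j)]
  have h1 : (rp2 i j).1.1 (((rp2 i j)⁻¹).1.1 (pos k)) = pos k := (rp2 i j).1.1.apply_symm_apply _
  rw [PP_idx, PP_idx, h1, rp2_apply, ← ci_idx, ← ci_idx, idx_pos, idx_pos, idx_pos, idx_pos, idx_pos, ci_rp2, ci_inv,
    idx_pos]

theorem false_pos (hn : ρ neg = 1) : False := by
  by_cases hB : D.R 0 - D.R 4 = 0
  · apply D.v0
    apply no_fix_three'' D.two D.three D.dim D.irr
    intro h _
    rw [← sub_eq_zero]
    apply D.sep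
    intro g
    rw [map_sub, map_sub, sub_eq_zero, ← rmul]
    apply mul_left_cancel₀ D.two
    have key : ∀ g, 2 * φ (ρ g v) = D.R 0 + D.R 4 := by
      intro g
      have h1 : ρ g v = vs ρ v (g.1.1 (pos 0)) (ci g 0) := by
        rw [← act2 D.fix, vs_zero]
      rw [h1, D.form_pos hn, hB, zero_mul, add_zero]
    rw [key, key]
  · let Dn : Fin 13 → V := fun n => vs ρ v (pos (f12 (cp n).1)) (f12 (cp n).2) - vs ρ v (pos 0) 0
    have hM : ∀ q n, 2 * φ (ρ (rp2 (f12 (rwp q).1) (f12 (rwp q).2))⁻¹ (Dn n)) = (D.R 0 - D.R 4) * ((MM q n : ℤ) : F) := by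
      intro q n
      change 2 * φ (ρ _ (_ - _)) = _
      rw [map_sub, map_sub, mul_sub, D.form_pos' hn, D.form_pos' hn]
      unfold MM
      push_cast
      ring
    have hli : LinearIndependent F Dn := by
      rw [Fintype.linearIndependent_iff]
      intro a ha m
      have h1 : ∀ q, ∑ n, ((MM q n : ℤ) : F) * a n = 0 := by
        intro q
        have h2 := congrArg (fun w => 2 * φ (ρ (rp2 (f12 (rwp q).1) (f12 (rwp q).2))⁻¹ w)) ha
        simp only [map_sum, map_smul, map_zero, mul_zero, smul_eq_mul, Finset.mul_sum] at h2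
        have h3 : ∑ n, (D.R 0 - D.R 4) * (((MM q n : ℤ) : F) * a n) = 0 := by
          rw [← h2]
          apply Finset.sum_congr rfl
          intro n _
          linear_combination (-a n) * hM q n
        rw [← Finset.mul_sum] at h3
        exact (mul_eq_zero.1 h3).resolve_left hB
      have h2 : ∑ q, ((NN m q : ℤ) : F) * ∑ n, ((MM q n : ℤ) : F) * a n = a m := by
        simp only [Finset.mul_sum]
        rw [Finset.sum_comm]
        have h3 : ∀ n, ∑ q, ((NN m q : ℤ) : F) * (((MM q n : ℤ) : F) * a n) = (if m = n then 1 else 0) * a n := by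
          intro n
          have h4 : ((∑ q, NN m q * MM q n : ℤ) : F) = if m = n then 1 else 0 := by
            have h5 := Int.emod_add_mul_ediv (∑ q, NN m q * MM q n) 3
            rw [← h5, NM]
            push_cast
            rw [D.three, zero_mul, add_zero]
          rw [← h4, Int.cast_sum, Finset.sum_mul]
          apply Finset.sum_congr rfl
          intro q _
          push_cast
          ring
        simp only [h3, ite_mul, one_mul, zero_mul, Finset.sum_ite_eq, Finset.mem_univ, if_true]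
      rw [← h2]
      simp only [h1, mul_zero, Finset.sum_const_zero]
    have h3 := hli.fintype_card_le_finrank
    rw [D.dim, Fintype.card_fin] at h3
    norm_num at h3

end Dat

/-- **Characteristic three.** -/
theorem Odd12.three_false (H : Odd12 ρ) (h3 : (3 : F) = 0) (hI : Irr ρ) : False := by
  have hn := neg_cases hI
  obtain ⟨v, hv, hK⟩ := H.exists_fixK hn
  obtain ⟨φ, hφ, ft, fu, fc⟩ := H.exists_functional hI
  have D : Dat ρ v φ := ⟨H.two, h3, H.dim, hI, hv, hφ, hK, ft, fu, fc⟩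
  rcases hn with hn | hn
  · exact D.false_pos hn
  · exact D.false_neg hn

end Cfsg.Agent.H932.Mt
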