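import Cfsg.Agent.H932.MtTwo

/-!
# Characteristic two: `M₁₂` has no irreducible representation of dimension 12 (helper932)

* `Ev12.false`.
-/

set_option autoImplicit false
set_option linter.unusedSectionVars false

namespace Cfsg.Agent.H932.Mt

open Module

theorem lpe_X (a : Fin 12) : lpe gX a = li lX a := by rw [lpe_apply, lX_eq]; rfl
theorem lpe_i (a : Fin 12) : lpe gi a = li lI a := by rw [lpe_apply, lI_eq]; rfl
theorem lpe_j (a : Fin 12) : lpe gj a = li lJ a := by rw [lpe_apply, lJ_eq]; rfl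
theorem lpe_S (a : Fin 12) : lpe gS a = li lS a := by rw [lpe_apply, lS_eq]; rfl
theorem lpe_c (a : Fin 12) : lpe gc a = li lC a := by rw [lpe_apply, lC_eq]; rfl
theorem lpe_neg (a : Fin 12) : lpe neg a = a := by rw [lpe_apply, neg_apply, idx_ng, idx_pos]
theorem lpe_one (a : Fin 12) : lpe 1 a = a := idx_pos a
theorem lpe_evL (w : List ℕ) (a : Fin 12) : lpe (evL w) a = li (evT w) a := by
  rw [lpe_apply, evT_eq]; rfl

theorem lpe_inv (g : Γ) (a : Fin 12) : lpe g (lpe g⁻¹ a) = a := by rw [← lpe_mul, mul_inv_cancel, lpe_one]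
theorem lpe_inv' (g : Γ) (a : Fin 12) : lpe g⁻¹ (lpe g a) = a := by rw [← lpe_mul, inv_mul_cancel, lpe_one]

/-- fixing the first row -/
def fix0 : Subgroup Γ where
  carrier := {g | lpe g 0 = 0}
  one_mem' := lpe_one 0
  mul_mem' := by
    intro a c ha hc
    change lpe (a * c) 0 = 0
    rw [lpe_mul, show lpe c 0 = 0 from hc, show lpe a 0 = 0 from ha]
  inv_mem' := by
    intro a ha
    change lpe a⁻¹ 0 = 0
    nth_rewrite 1 [← show lpe a 0 = 0 from ha]
    rw [lpe_inv']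

theorem LL_le : LL ≤ fix0 := by
  unfold LL
  rw [Subgroup.closure_le]
  rintro g (rfl | rfl | rfl | rfl | rfl)
  · exact (lpe_X 0).trans li_zero.1
  · exact (lpe_i 0).trans li_zero.2.1
  · exact (lpe_j 0).trans li_zero.2.2.1
  · exact (lpe_S 0).trans li_zero.2.2.2.1
  · exact (lpe_c 0).trans li_zero.2.2.2.2

theorem ne_zero_of {g : Γ} (hg : g ∈ fix0) {a : Fin 12} (ha : a ≠ 0) : lpe g a ≠ 0 := by
  intro h
  apply ha
  apply (lpe g).injective
  rw [h]
  exact (show lpe g 0 = 0 from hg).symm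

theorem rqw_comm {a b : Fin 12} (h : a ≠ b) : rqw a b = rqw b a := by
  unfold rqw
  rcases lt_or_gt_of_ne h with h1 | h1
  · rw [if_pos h1, if_neg (not_lt_of_gt h1)]
  · rw [if_neg (not_lt_of_gt h1), if_pos h1]

variable {F V : Type*} [Field F] [AddCommGroup V] [Module F V] [FiniteDimensional F V]
variable {ρ : Γ →* Module.End F V} {v : V}

/-- fixed by `N` -/
structure FixN (ρ : Γ →* Module.End F V) (v : V) : Prop where
  x : ρ gX v = v
  i : ρ gi v = v
  j : ρ gj v = v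
  s : ρ gS v = v
  n : ∀ w, ρ neg w = w

/-- the images of `v` -/
def vp (ρ : Γ →* Module.End F V) (v : V) (a b : Fin 12) : V := ρ (evL (rqw a b)) v

theorem vp_comm {a b : Fin 12} (h : a ≠ b) : vp ρ v a b = vp ρ v b a := by
  unfold vp
  rw [rqw_comm h]

theorem evN_fix (hN : FixN ρ v) (w : List ℕ) (hw : isN w = true) : ρ (evL w) v = v := by
  induction w with
  | nil => exact rone ρ v
  | cons a w ih =>
    unfold isN at hw
    rw [List.all_cons, Bool.and_eq_true] at hw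
    have ih' := ih hw.2
    have ha := hw.1
    rcases a with _ | _ | _ | _ | _ | a
    · rw [evL_c0, rmul, ih', hN.x]
    · rw [evL_c1, rmul, ih', hN.i]
    · rw [evL_c2, rmul, ih', hN.j]
    · rw [evL_c3, rmul, ih', hN.s]
    · simp at ha
    · rw [evL_c5, rmul, ih', hN.n]

theorem act3_lt (hN : FixN ρ v) {g : Γ} {π : Equiv.Perm (Fin 24)} (hg : g.1.1 = π) {t : List (List (List ℕ))}
    (ht : ∀ a b : Fin 12, isN (gt2 [] t a b) = true) {a b : Fin 12} (hab : a < b) (hs : schk π t a b = true) :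
    ρ g (vp ρ v a b) = vp ρ v (lpe g a) (lpe g b) := by
  unfold schk at hs
  rw [decide_eq_true_eq] at hs
  have h1 : g * evL (gt2 [] trq a b) = evL (rqw (li π a) (li π b)) * evL (gt2 [] t a b) := by
    apply gext
    change g.1.1 * (evL _).1.1 = (evL _).1.1 * (evL _).1.1
    rw [hg, evT_eq, evT_eq, evT_eq, hs]
  have h2 : lpe g a = li π a := by rw [lpe_apply, hg]; rfl
  have h3 : lpe g b = li π b := by rw [lpe_apply, hg]; rfl
  unfold vp
  rw [h2, h3]
  have h4 : rqw a b = gt2 [] trq a b := by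
    unfold rqw
    rw [if_pos hab]
  rw [h4, ← rmul, h1, rmul, evN_fix hN _ (ht a b)]

theorem act3_gen (hN : FixN ρ v) {g : Γ} {π : Equiv.Perm (Fin 24)} (hg : g.1.1 = π) {t : List (List (List ℕ))}
    (ht : ∀ a b : Fin 12, isN (gt2 [] t a b) = true) (hs : ∀ a b : Fin 12, 0 < a → a < b → schk π t a b = true)
    {a b : Fin 12} (ha : a ≠ 0) (hb : b ≠ 0) (hab : a ≠ b) :
    ρ g (vp ρ v a b) = vp ρ v (lpe g a) (lpe g b) := by
  rcases lt_or_gt_of_ne hab with h | h
  · exact act3_lt hN hg ht h (hs a b (Fin.pos_iff_ne_zero.2 ha) h)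
  · rw [vp_comm hab, act3_lt hN hg ht h (hs b a (Fin.pos_iff_ne_zero.2 hb) h)]
    exact vp_comm (fun h' => hab ((lpe g).injective h').symm)

/-- elements acting as expected -/
def good (ρ : Γ →* Module.End F V) (v : V) : Subgroup Γ where
  carrier := {g | lpe g 0 = 0 ∧ ∀ a b, a ≠ 0 → b ≠ 0 → a ≠ b → ρ g (vp ρ v a b) = vp ρ v (lpe g a) (lpe g b)}
  one_mem' := ⟨lpe_one 0, fun a b _ _ _ => by rw [rone, lpe_one, lpe_one]⟩
  mul_mem' := by
    rintro a c ⟨ha, ha'⟩ ⟨hc, hc'⟩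
    refine ⟨fix0.mul_mem ha hc, fun p q hp hq hpq => ?_⟩
    rw [rmul, hc' p q hp hq hpq, ha' _ _ (ne_zero_of hc hp) (ne_zero_of hc hq) (fun h => hpq ((lpe c).injective h)),
      lpe_mul, lpe_mul]
  inv_mem' := by
    rintro a ⟨ha, ha'⟩
    have hi : a⁻¹ ∈ fix0 := fix0.inv_mem ha
    refine ⟨hi, fun p q hp hq hpq => ?_⟩
    have h1 := ha' _ _ (ne_zero_of hi hp) (ne_zero_of hi hq) (fun h => hpq ((lpe a⁻¹).injective h))
    rw [lpe_inv, lpe_inv] at h1
    rw [← h1, rinv]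

theorem good_all (hN : FixN ρ v) : gX ∈ good ρ v ∧ gi ∈ good ρ v ∧ gj ∈ good ρ v ∧ gS ∈ good ρ v ∧ gc ∈ good ρ v ∧
    neg ∈ good ρ v := by
  refine ⟨⟨(lpe_X 0).trans li_zero.1, fun a b ha hb hab => ?_⟩, ⟨(lpe_i 0).trans li_zero.2.1, fun a b ha hb hab => ?_⟩,
    ⟨(lpe_j 0).trans li_zero.2.2.1, fun a b ha hb hab => ?_⟩, ⟨(lpe_S 0).trans li_zero.2.2.2.1, fun a b ha hb hab => ?_⟩,
    ⟨(lpe_c 0).trans li_zero.2.2.2.2, fun a b ha hb hab => ?_⟩, ⟨lpe_neg 0, fun a b ha hb hab => ?_⟩⟩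
  · exact act3_gen hN lX_eq (fun a b => (tq_N a b).1) sq0 ha hb hab
  · exact act3_gen hN lI_eq (fun a b => (tq_N a b).2.1) sq1 ha hb hab
  · exact act3_gen hN lJ_eq (fun a b => (tq_N a b).2.2.1) sq2 ha hb hab
  · exact act3_gen hN lS_eq (fun a b => (tq_N a b).2.2.2.1) sq3 ha hb hab
  · exact act3_gen hN lC_eq (fun a b => (tq_N a b).2.2.2.2) sq4 ha hb hab
  · rw [hN.n, lpe_neg, lpe_neg]

theorem good_LL (hN : FixN ρ v) : LL ≤ good ρ v := by
  obtain ⟨h1, h2, h3, h4, h5, -⟩ := good_all hN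
  unfold LL
  rw [Subgroup.closure_le]
  rintro g (rfl | rfl | rfl | rfl | rfl)
  · exact h1
  · exact h2
  · exact h3
  · exact h4
  · exact h5

theorem good_evL (hN : FixN ρ v) (w : List ℕ) : evL w ∈ good ρ v := by
  obtain ⟨h1, h2, h3, h4, h5, h6⟩ := good_all hN
  induction w with
  | nil => exact Subgroup.one_mem _
  | cons a w ih =>
    rcases a with _ | _ | _ | _ | _ | a
    · rw [evL_c0]; exact Subgroup.mul_mem _ h1 ih
    · rw [evL_c1]; exact Subgroup.mul_mem _ h2 ih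
    · rw [evL_c2]; exact Subgroup.mul_mem _ h3 ih
    · rw [evL_c3]; exact Subgroup.mul_mem _ h4 ih
    · rw [evL_c4]; exact Subgroup.mul_mem _ h5 ih
    · rw [evL_c5]; exact Subgroup.mul_mem _ h6 ih

/-- the data of the argument -/
structure Dt2 (ρ : Γ →* Module.End F V) (v : V) (φ : Module.Dual F V) : Prop where
  ev : Ev12 ρ
  v0 : v ≠ 0
  φ0 : φ ≠ 0
  fix : FixN ρ v
  fX : ∀ w, φ (ρ gX w) = φ w
  fi : ∀ w, φ (ρ gi w) = φ w
  fj : ∀ w, φ (ρ gj w) = φ w
  fS : ∀ w, φ (ρ gS w) = φ w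

/-- the indicator of `{1, 2}` -/
def chi2 (F : Type*) [Field F] (a : Fin 12) : F := if a = 1 ∨ a = 2 then 1 else 0

/-- thirteen pairs -/
def pa (n : Fin 13) : Fin 12 := if (n : ℕ) < 8 then 3 else 4
/-- thirteen pairs -/
def pb (n : Fin 13) : Fin 12 := if (n : ℕ) < 8 then ⟨(n + 4) % 12, Nat.mod_lt _ (by norm_num)⟩
  else ⟨(n - 3) % 12, Nat.mod_lt _ (by norm_num)⟩

theorem pab : ∀ n, pa n ≠ 0 ∧ pa n ≠ 1 ∧ pa n ≠ 2 ∧ pb n ≠ 0 ∧ pb n ≠ 1 ∧ pb n ≠ 2 ∧ pa n < pb n := by decide +kernel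
theorem pab_eq : ∀ m n, ((pb n = pa m ∨ pb n = pb m) ∧ (pa n = pa m ∨ pa n = pb m)) ↔ m = n := by decide +kernel
theorem trq_lt : ∀ n : Fin 13, ∀ a ∈ gt2 [] trq (pa n) (pb n), a < 5 := by decide +kernel

namespace Dt2

variable {φ : Module.Dual F V} (D : Dt2 ρ v φ)
include D

theorem sep {w : V} (hw : ∀ g ∈ LL, φ (ρ g w) = 0) : w = 0 := by
  let W : Submodule F V :=
    { carrier := {w | ∀ g ∈ LL, φ (ρ g w) = 0}
      add_mem' := fun {a b} ha hb g hg => by rw [map_add, map_add, ha g hg, hb g hg, add_zero]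
      zero_mem' := fun g _ => by rw [map_zero, map_zero]
      smul_mem' := fun c a ha g hg => by rw [map_smul, map_smul, ha g hg, smul_zero] }
  rcases D.ev.irrL (W := W) (by
    intro g hg a ha h hh
    rw [← rmul]
    exact ha _ (LL.mul_mem hh hg)) with h | h
  · have h1 : w ∈ W := hw
    rw [h] at h1
    exact h1
  · exfalso
    apply D.φ0
    apply LinearMap.ext
    intro a
    have h1 : a ∈ W := by rw [h]; trivial
    have h2 := h1 1 LL.one_mem
    rw [rone] at h2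
    exact h2

theorem fN (w : List ℕ) (hw : isN w = true) (x : V) : φ (ρ (evL w) x) = φ x := by
  induction w with
  | nil =>
    have h1 : evL [] = 1 := by with_unfolding_all rfl
    rw [h1, rone]
  | cons a w ih =>
    unfold isN at hw
    rw [List.all_cons, Bool.and_eq_true] at hw
    have ih' := ih hw.2
    have ha := hw.1
    rcases a with _ | _ | _ | _ | _ | a
    · rw [evL_c0, rmul, D.fX, ih']
    · rw [evL_c1, rmul, D.fi, ih']
    · rw [evL_c2, rmul, D.fj, ih']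
    · rw [evL_c3, rmul, D.fS, ih']
    · simp at ha
    · rw [evL_c5, rmul, D.fix.n, ih']

/-- the values at the representatives -/
def q (_ : Dt2 ρ v φ) (n : Fin 3) : F := φ (vp ρ v (rt n).1 (rt n).2)

theorem rt_ne (n : Fin 3) : (rt n).1 ≠ (rt n).2 := by
  revert n
  decide +kernel

theorem val_lt {a b : Fin 12} (ha : a ≠ 0) (hab : a < b) : φ (vp ρ v a b) = D.q (nc a b) := by
  have ha' : 0 < a := Fin.pos_iff_ne_zero.2 ha
  have hb : b ≠ 0 := (ha'.trans hab).ne'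
  rw [← D.fN (gt2 [] tow a b) (tow_N a b), (good_evL D.fix _).2 a b ha hb hab.ne]
  rw [lpe_evL, lpe_evL]
  unfold q
  rcases orb2_tab a b ha' hab with ⟨h1, h2⟩ | ⟨h1, h2⟩
  · rw [h1, h2]
  · rw [h1, h2, vp_comm (fun h => rt_ne D (nc a b) h.symm)]

theorem val {a b : Fin 12} (ha : a ≠ 0) (hb : b ≠ 0) (hab : a ≠ b) :
    φ (vp ρ v a b) = D.q 0 + (D.q 1 + D.q 0) * (chi2 F a + chi2 F b) + (D.q 2 + D.q 0) * (chi2 F a * chi2 F b) := by
  have h2 := D.ev.two
  have h1 : φ (vp ρ v a b) = D.q (nc a b) := by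
    rcases lt_or_gt_of_ne hab with h | h
    · exact D.val_lt ha h
    · rw [vp_comm hab, D.val_lt hb h]
      congr 1
      unfold nc
      rw [add_comm]
  rw [h1]
  unfold nc chi2
  by_cases h3 : a = 1 ∨ a = 2 <;> by_cases h4 : b = 1 ∨ b = 2
  · rw [if_pos h3, if_pos h4, if_pos h3, if_pos h4]
    change D.q 2 = _
    linear_combination (-D.q 0 - D.q 1 - D.q 0) * h2
  · rw [if_pos h3, if_neg h4, if_pos h3, if_neg h4]
    change D.q 1 = _
    linear_combination (-D.q 0) * h2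
  · rw [if_neg h3, if_pos h4, if_neg h3, if_pos h4]
    change D.q 1 = _
    linear_combination (-D.q 0) * h2
  · rw [if_neg h3, if_neg h4, if_neg h3, if_neg h4]
    change D.q 0 = _
    ring

/-- the cycles -/
theorem cyc {a b c d : Fin 12} (ha : a ≠ 0) (hb : b ≠ 0) (hc : c ≠ 0) (hd : d ≠ 0) (hab : a ≠ b) (hbc : b ≠ c)
    (hcd : c ≠ d) (hda : d ≠ a) {g : Γ} (hg : g ∈ LL) :
    φ (ρ g (vp ρ v a b + vp ρ v b c + vp ρ v c d + vp ρ v d a))
      = (D.q 2 + D.q 0) * ((chi2 F (lpe g a) + chi2 F (lpe g c)) * (chi2 F (lpe g b) + chi2 F (lpe g d))) := by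
  have h2 := D.ev.two
  have hf : g ∈ fix0 := LL_le hg
  have hG := (good_LL D.fix hg).2
  have hi : ∀ {p r : Fin 12}, p ≠ r → lpe g p ≠ lpe g r := fun h h' => h ((lpe g).injective h')
  have e : ρ g (vp ρ v a b + vp ρ v b c + vp ρ v c d + vp ρ v d a) = vp ρ v (lpe g a) (lpe g b)
      + vp ρ v (lpe g b) (lpe g c) + vp ρ v (lpe g c) (lpe g d) + vp ρ v (lpe g d) (lpe g a) := by
    rw [map_add, map_add, map_add, hG a b ha hb hab, hG b c hb hc hbc, hG c d hc hd hcd, hG d a hd ha hda]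
  rw [e, map_add, map_add, map_add, D.val (ne_zero_of hf ha) (ne_zero_of hf hb) (hi hab),
    D.val (ne_zero_of hf hb) (ne_zero_of hf hc) (hi hbc), D.val (ne_zero_of hf hc) (ne_zero_of hf hd) (hi hcd),
    D.val (ne_zero_of hf hd) (ne_zero_of hf ha) (hi hda)]
  linear_combination (2 * D.q 0 + (D.q 1 + D.q 0) * (chi2 F (lpe g a) + chi2 F (lpe g b) + chi2 F (lpe g c)
    + chi2 F (lpe g d))) * h2

/-- the case `α ≠ 0` -/
theorem case_ne (hα : D.q 2 + D.q 0 ≠ 0) : False := by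
  let u : Fin 13 → V := fun n => vp ρ v 1 (pa n) + vp ρ v (pa n) (pb n) + vp ρ v (pb n) 2 + vp ρ v 2 1
  let r : Fin 13 → Γ := fun m => evL (gt2 [] trq (pa m) (pb m))
  have hr : ∀ m, r m ∈ LL := fun m => evL_mem _ (trq_lt m)
  have hchi : ∀ m a, chi2 F (lpe (r m)⁻¹ a) = if a = pa m ∨ a = pb m then 1 else 0 := by
    intro m a
    obtain ⟨ha, -, -, -, -, -, hab⟩ := pab m
    have h1 := rq_tab (pa m) (pb m) (Fin.pos_iff_ne_zero.2 ha) hab
    have e1 : lpe (r m) 1 = pa m := by rw [lpe_evL]; exact h1.1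
    have e2 : lpe (r m) 2 = pb m := by rw [lpe_evL]; exact h1.2
    unfold chi2
    have h3 : (lpe (r m)⁻¹ a = 1 ∨ lpe (r m)⁻¹ a = 2) ↔ (a = pa m ∨ a = pb m) := by
      constructor
      · rintro (h | h)
        · left; rw [← e1, ← h, lpe_inv]
        · right; rw [← e2, ← h, lpe_inv]
      · rintro (h | h)
        · left; rw [h, ← e1, lpe_inv']
        · right; rw [h, ← e2, lpe_inv']
    simp only [h3]
  have hM : ∀ m n, φ (ρ (r m)⁻¹ (u n)) = (D.q 2 + D.q 0) * (if m = n then 1 else 0) := by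
    intro m n
    obtain ⟨a0, a1, a2, b0, b1, b2, hab⟩ := pab n
    obtain ⟨c0, c1, c2, d0, d1, d2, -⟩ := pab m
    rw [D.cyc (by decide) a0 b0 (by decide) a1.symm hab.ne b2 (by decide) (LL.inv_mem (hr m))]
    rw [hchi, hchi, hchi, hchi, if_neg (show ¬ ((1 : Fin 12) = pa m ∨ 1 = pb m) from by
      rintro (h | h)
      · exact c1 h.symm
      · exact d1 h.symm), if_neg (show ¬ ((2 : Fin 12) = pa m ∨ 2 = pb m) from by
      rintro (h | h)
      · exact c2 h.symm
      · exact d2 h.symm), zero_add, add_zero, ite_zero_mul_ite_zero]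
    congr 1
    have h5 := pab_eq m n
    simp only [h5, mul_one]
  have hli : LinearIndependent F u := by
    rw [Fintype.linearIndependent_iff]
    intro c hc m
    have h1 := congrArg (fun w => φ (ρ (r m)⁻¹ w)) hc
    simp only [map_sum, map_smul, map_zero, smul_eq_mul, hM, mul_ite, mul_one, mul_zero, Finset.sum_ite_eq,
      Finset.mem_univ, if_true] at h1
    exact (mul_eq_zero.1 h1).resolve_right hα
  have h3 := hli.fintype_card_le_finrank
  rw [D.ev.dim, Fintype.card_fin] at h3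
  norm_num at h3

/-- the case `α = 0` -/
theorem case_eq (hα : D.q 2 + D.q 0 = 0) : False := by
  have h2 := D.ev.two
  have hcyc : ∀ {a b c d : Fin 12}, a ≠ 0 → b ≠ 0 → c ≠ 0 → d ≠ 0 → a ≠ b → b ≠ c → c ≠ d → d ≠ a →
      vp ρ v a b + vp ρ v b c + vp ρ v c d + vp ρ v d a = 0 := by
    intro a b c d ha hb hc hd hab hbc hcd hda
    apply D.sep
    intro g hg
    rw [D.cyc ha hb hc hd hab hbc hcd hda hg, hα, zero_mul]
  have hk : ∀ {a b c : Fin 12}, a ≠ 0 → b ≠ 0 → c ≠ 0 → a ≠ 1 → b ≠ 1 → c ≠ 1 → a ≠ b → b ≠ c →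
      vp ρ v a b + vp ρ v 1 a + vp ρ v 1 b = vp ρ v b c + vp ρ v 1 b + vp ρ v 1 c := by
    intro a b c ha hb hc ha1 hb1 hc1 hab hbc
    have h1 := hcyc (a := 1) (b := a) (c := b) (d := c) (by decide) ha hb hc ha1.symm hab hbc hc1
    rw [vp_comm hc1] at h1
    have h3 : (vp ρ v a b + vp ρ v 1 a + vp ρ v 1 b) + (vp ρ v b c + vp ρ v 1 b + vp ρ v 1 c)
        = (vp ρ v 1 a + vp ρ v a b + vp ρ v b c + vp ρ v 1 c) + (vp ρ v 1 b + vp ρ v 1 b) := by abel
    rw [h1, add_self_two h2, add_zero, ← neg_eq_iff_add_eq_zero, neg_eq_two h2] at h3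
    exact h3
  have hex : ∀ a b : Fin 12, ∃ c : Fin 12, c ≠ 0 ∧ c ≠ 1 ∧ c ≠ 2 ∧ c ≠ 3 ∧ c ≠ a ∧ c ≠ b := by decide +kernel
  have hconst : ∀ {a b : Fin 12}, a ≠ 0 → b ≠ 0 → a ≠ 1 → b ≠ 1 → a ≠ b →
      vp ρ v a b + vp ρ v 1 a + vp ρ v 1 b = vp ρ v 2 3 + vp ρ v 1 2 + vp ρ v 1 3 := by
    intro a b ha hb ha1 hb1 hab
    obtain ⟨c, c0, c1, c2, c3, ca, cb⟩ := hex a b
    have e3 := hk (a := c) (b := 2) (c := 3) c0 (by decide) (by decide) c1 (by decide) (by decide) c2 (by decide)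
    rw [hk ha hb c0 ha1 hb1 c1 hab cb.symm]
    by_cases hb2 : b = 2
    · rw [← e3, hb2, vp_comm c2]
      abel
    · rw [hk hb c0 (c := 2) (by decide) hb1 c1 (by decide) cb.symm c2, e3]
  let e : Fin 11 → V := fun n => if n = 0 then vp ρ v 2 3 else vp ρ v 1 (Fin.succ n)
  have he : ∀ a : Fin 12, a ≠ 0 → a ≠ 1 → vp ρ v 1 a ∈ Submodule.span F (Set.range e) := by
    intro a ha0 ha1
    obtain ⟨n, rfl⟩ := Fin.exists_succ_eq.2 ha0
    have hn : n ≠ 0 := by
      rintro rfl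
      exact ha1 rfl
    apply Submodule.subset_span
    refine ⟨n, ?_⟩
    change (if n = 0 then _ else _) = _
    rw [if_neg hn]
  have he0 : vp ρ v 2 3 ∈ Submodule.span F (Set.range e) := Submodule.subset_span ⟨0, rfl⟩
  have hall : ∀ a b : Fin 12, a ≠ 0 → b ≠ 0 → a ≠ b → vp ρ v a b ∈ Submodule.span F (Set.range e) := by
    intro a b ha hb hab
    by_cases ha1 : a = 1
    · subst ha1
      exact he b hb hab.symm
    · by_cases hb1 : b = 1
      · subst hb1
        rw [vp_comm hab]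
        exact he a ha ha1
      · have h1 := hconst ha hb ha1 hb1 hab
        have h3 : vp ρ v a b = (vp ρ v 2 3 + vp ρ v 1 2 + vp ρ v 1 3) - vp ρ v 1 a - vp ρ v 1 b := by
          rw [← h1]
          abel
        rw [h3]
        exact Submodule.sub_mem _ (Submodule.sub_mem _ (Submodule.add_mem _ (Submodule.add_mem _ he0
          (he 2 (by decide) (by decide))) (he 3 (by decide) (by decide))) (he a ha ha1)) (he b hb hb1)
  -- the span of all `vp` is everything
  set S : Set V := {w | ∃ a b : Fin 12, a ≠ 0 ∧ b ≠ 0 ∧ a ≠ b ∧ w = vp ρ v a b} with hS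
  have hstab : StabL ρ (Submodule.span F S) := by
    intro g hg w hw
    induction hw using Submodule.span_induction with
    | mem x hx =>
      obtain ⟨a, b, ha, hb, hab, rfl⟩ := hx
      rw [(good_LL D.fix hg).2 a b ha hb hab]
      exact Submodule.subset_span ⟨_, _, ne_zero_of (LL_le hg) ha, ne_zero_of (LL_le hg) hb,
        fun h => hab ((lpe g).injective h), rfl⟩
    | zero => rw [map_zero]; exact Submodule.zero_mem _
    | add x y _ _ hx hy => rw [map_add]; exact Submodule.add_mem _ hx hy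
    | smul c x _ hx => rw [map_smul]; exact Submodule.smul_mem _ _ hx
  have hv : v ∈ Submodule.span F S := by
    apply Submodule.subset_span
    refine ⟨1, 2, by decide, by decide, by decide, ?_⟩
    unfold vp rqw
    rw [if_pos (by decide)]
    have h1 : gt2 [] trq ((1 : Fin 12) : ℕ) ((2 : Fin 12) : ℕ) = [] := rq_base
    rw [h1]
    exact (rone ρ v).symm
  have htop : Submodule.span F S = ⊤ := by
    rcases D.ev.irrL hstab with h | h
    · rw [h] at hv
      exact absurd hv D.v0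
    · exact h
  have hle : Submodule.span F S ≤ Submodule.span F (Set.range e) := by
    rw [Submodule.span_le]
    rintro w ⟨a, b, ha, hb, hab, rfl⟩
    exact hall a b ha hb hab
  rw [htop] at hle
  have h3 : Submodule.span F (Set.range e) = ⊤ := top_le_iff.1 hle
  have h4 := finrank_range_le_card (R := F) e
  rw [Set.finrank, h3, finrank_top, D.ev.dim, Fintype.card_fin] at h4
  norm_num at h4

end Dt2

/-- **Characteristic two.** -/
theorem Ev12.false (H : Ev12 ρ) : False := by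
  obtain ⟨v, hv, h1, h2, h3, h4⟩ := H.exists_fixN
  obtain ⟨φ, hφ, g1, g2, g3, g4⟩ := H.dual.exists_fixN
  have key : ∀ g, Mt.dual ρ g φ = φ → ∀ w, φ (ρ g w) = φ w := by
    intro g hg w
    nth_rewrite 1 [← hg]
    rw [dual_apply, rinv]
  have D : Dt2 ρ v φ := ⟨H, hv, hφ, ⟨h1, h2, h3, h4, H.neg_v⟩, key _ g1, key _ g2, key _ g3, key _ g4⟩
  by_cases hα : D.q 2 + D.q 0 = 0
  · exact D.case_eq hα
  · exact D.case_ne hα

end Cfsg.Agent.H932.Mt
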