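import Cfsg.Agent.H932.MtKill
import Cfsg.Agent.H932.MtThreeG
import Cfsg.Agent.H932.MtTwoF

/-!
# The socle `M₁₂` in dimension 12 (helper932)

`P ≤ GL₁₂(F)` a core, `F` finite, `Soc P ≃* M₁₂`.

* `two_three` : the characteristic is not 2 and not 3;
* `core_fr`, `core_sd` : `Fr P p` and `SD P`;
* `m12_final` : if `P` is the core of a maximal subgroup of `Ω(Q)`, then `Q` is of plus type, `|F| = p` and `p ≡ ±1`
  modulo 24.
-/

set_option autoImplicit false
set_option linter.unusedSectionVars false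

namespace Cfsg.Agent.H932.Mt

open Cfsg Cfsg.Geo Matrix Cfsg.Agent.H915.LD

universe u

variable {F : Type u} [Field F] {P : Subgroup (GL (Fin 12) F)}

/-- **Characteristic not 2, not 3.** -/
theorem two_three [Finite F] (hC : Core P) (e : Soc P ≃* Spor.M12) : (2 : F) ≠ 0 ∧ (3 : F) ≠ 0 := by
  obtain ⟨φ, hφ, hφe⟩ := exists_cover hC e
  have hI := irr_rp hC hφ
  have h2 : (2 : F) ≠ 0 := by
    intro h2
    apply Ev12.false (ρ := rp φ)
    refine ⟨h2, by rw [Module.finrank_fin_fun], hI, ?_⟩
    by_contra hne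
    rw [not_exists] at hne
    apply sig_gX
    rw [← hφe, map_eq_one_iff e e.injective]
    have h3 : φ gX = 1 := by
      apply Subtype.ext
      apply Units.ext
      apply Matrix.toLin'.injective
      apply LinearMap.ext
      intro v
      have h4 := not_not.1 (hne v)
      rw [rp_apply] at h4
      rw [Matrix.toLin'_apply, h4, Subgroup.coe_one, Units.val_one, Matrix.toLin'_one]
      rfl
    rw [h3, map_one]
  exact ⟨h2, fun h3 => (odd12_rp h2 e hφe).three_false h3 hI⟩

theorem core_sd [Finite F] (hC : Core P) (e : Soc P ≃* Spor.M12) : SD P :=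
  sd (two_three hC e).1 (two_three hC e).2 hC e

theorem core_fr [Finite F] (hC : Core P) (e : Soc P ≃* Spor.M12) (p : ℕ) [hp : Fact p.Prime] [CharP F p] : Fr P p :=
  fr (two_three hC e).1 (two_three hC e).2 hC e p

/-- **The socle `M₁₂` in dimension 12.** -/
theorem m12_final [Fintype F] (p : ℕ) [hp : Fact p.Prime] [CharP F p] {Q : (Fin 12 → F) → F}
    (hQ : IsNondegenerateQuadraticForm Q) {H : Subgroup (GL (Fin 12) F)} (hH : IsMaximalIn (omegaGL Q) H)
    (hc : IsResidualCore H P) (e : Soc P ≃* Spor.M12) :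
    IsPlusTypeOn Q ⊤ ∧ Fintype.card F = p ∧ (p % 24 = 1 ∨ p % 24 = 23) := by
  have hC := core_of_residual hc
  obtain ⟨h2, h3⟩ := two_three hC e
  exact m12_core p h2 h3 hQ hH hc e

end Cfsg.Agent.H932.Mt
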