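import Cfsg.Agent.H932.TwelvePlus

/-!
Maximal subgroups of `Ω₁₂⁻(q)` (H932).
-/

set_option autoImplicit false
set_option linter.unusedSectionVars false

namespace Cfsg.Agent.H932

open Cfsg Cfsg.Geo Module
open QuadraticMap hiding proj
open Cfsg.Agent.LieClassical.OrthCore Cfsg.Agent.LieClassical.OrthTrans Cfsg.Agent.LieClassical.OrthFinite
open Cfsg.Agent.H919 (HermForm)
open Cfsg.Agent.H925 Cfsg.Agent.H922
open scoped Matrix MatrixGroups

variable {F : Type*} [Field F] [Fintype F]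

/-- the conclusion of S5874 -/
def ConclM (Q : (Fin 12 → F) → F) (H : Subgroup (Matrix.GeneralLinearGroup (Fin 12) F)) : Prop :=
    (∃ W : Submodule F (Fin 12 → F), W ≠ ⊥ ∧ Cfsg.Geo.IsTotallySingularQuad Q W ∧ H = Cfsg.Geo.subspaceStabilizer W ⊓ Cfsg.Geo.omegaGL Q) ∨
    (Odd (Fintype.card F) ∧ ∃ W : Submodule F (Fin 12 → F), W ≠ ⊥ ∧ W ≠ ⊤ ∧ Odd (Module.finrank F W) ∧ 2 * Module.finrank F W ≠ 12 ∧ Cfsg.Geo.IsNondegenerateOn (QuadraticMap.polar Q) W ∧ H = Cfsg.Geo.subspaceStabilizer W ⊓ Cfsg.Geo.omegaGL Q) ∨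
    (∃ W : Submodule F (Fin 12 → F), Module.finrank F W = 2 ∧ Cfsg.Geo.IsNondegenerateOn (QuadraticMap.polar Q) W ∧ ¬ Cfsg.Geo.IsPlusTypeOn Q W ∧ H = Cfsg.Geo.subspaceStabilizer W ⊓ Cfsg.Geo.omegaGL Q) ∨
    (4 ≤ Fintype.card F ∧ ∃ W : Submodule F (Fin 12 → F), Module.finrank F W = 2 ∧ Cfsg.Geo.IsNondegenerateOn (QuadraticMap.polar Q) W ∧ Cfsg.Geo.IsPlusTypeOn Q W ∧ H = Cfsg.Geo.subspaceStabilizer W ⊓ Cfsg.Geo.omegaGL Q) ∨
    (∃ W : Submodule F (Fin 12 → F), Module.finrank F W = 4 ∧ Cfsg.Geo.IsNondegenerateOn (QuadraticMap.polar Q) W ∧ H = Cfsg.Geo.subspaceStabilizer W ⊓ Cfsg.Geo.omegaGL Q) ∨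
    (∃ W : Submodule F (Fin 12 → F), Module.finrank F W = 6 ∧ Cfsg.Geo.IsNondegenerateOn (QuadraticMap.polar Q) W ∧ H = Cfsg.Geo.subspaceStabilizer W ⊓ Cfsg.Geo.omegaGL Q) ∨
    (¬ Odd (Fintype.card F) ∧ ∃ v : (Fin 12 → F), Q v ≠ 0 ∧ H = Cfsg.Geo.subspaceStabilizer (Submodule.span F {v}) ⊓ Cfsg.Geo.omegaGL Q) ∨
    (∃ D : Fin 3 → Submodule F (Fin 12 → F), Cfsg.Geo.IsOrthogonalMDecomposition Q 4 D ∧ (∀ i, ¬ Cfsg.Geo.IsPlusTypeOn Q (D i)) ∧ H = Cfsg.Geo.decompositionStabilizer D ⊓ Cfsg.Geo.omegaGL Q) ∨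
    (∃ K : Subalgebra F (Matrix (Fin 12) (Fin 12) F), Cfsg.Geo.IsFieldSubalgebra 2 K ∧ H = Cfsg.Geo.subalgebraNormalizer K ⊓ Cfsg.Geo.omegaGL Q) ∨
    (∃ K : Subalgebra F (Matrix (Fin 12) (Fin 12) F), Cfsg.Geo.IsFieldSubalgebra 3 K ∧ H = Cfsg.Geo.subalgebraNormalizer K ⊓ Cfsg.Geo.omegaGL Q) ∨
    (Odd (Fintype.card F) ∧ 5 ≤ Fintype.card F ∧ ∃ (e : Fin 12 ≃ Fin 3 × Fin 4) (P : Matrix.GeneralLinearGroup (Fin 12) F) (f₁ : (Fin 3 → F) → (Fin 3 → F) → F) (f₂ : (Fin 4 → F) → (Fin 4 → F) → F), Cfsg.Geo.IsSymmetricForm f₁ ∧ Cfsg.Geo.IsSymmetricForm f₂ ∧ ¬ Cfsg.Geo.IsPlusTypeOn (fun v : Fin 4 → F => f₂ v v) ⊤ ∧ Cfsg.Geo.IsTensorFormStructure id (QuadraticMap.polar Q) f₁ f₂ e P ∧ H = Cfsg.Geo.tensorProductSubgroup 3 4 e P ⊓ Cfsg.Geo.omegaGL Q) ∨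
    (∃ (F₀ : Subfield F) (r : ℕ) (P : Matrix.GeneralLinearGroup (Fin 12) F) (ζ : F), r.Prime ∧ Odd r ∧ Fintype.card F = Nat.card F₀ ^ r ∧ ζ ≠ 0 ∧ Cfsg.Geo.IsQuadFormRationalStructure (fun v : Fin 12 → F => ζ * Q v) F₀ P ∧ H = Cfsg.Geo.subfieldSubgroup F₀ P ⊓ Cfsg.Geo.omegaGL Q) ∨
    Cfsg.Geo.InOrthogonalResidualClass H

section

variable {Q : (Fin 12 → F) → F} {H : Subgroup (Matrix.GeneralLinearGroup (Fin 12) F)}

theorem cM_ts (hQ : IsNondegenerateQuadraticForm Q) (hH : IsMaximalIn (omegaGL Q) H)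
    {W : Submodule F (Fin 12 → F)} (h0 : W ≠ ⊥) (hW : IsTotallySingularQuad Q W) (h : H ≤ subspaceStabilizer W) :
    ConclM Q H := by
  left
  have h1 := two_mul_finrank_le hQ hW
  rw [hc12] at h1
  exact ⟨W, h0, hW, eq_sub hQ hH h0 (ne_top_of_finrank (by omega)) h⟩

theorem cM_nsv (hQ : IsNondegenerateQuadraticForm Q) (hH : IsMaximalIn (omegaGL Q) H)
    (h2 : (2 : F) = 0) {v : Fin 12 → F} (hv : Q v ≠ 0) (h : H ≤ subspaceStabilizer (Submodule.span F {v})) :
    ConclM Q H := by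
  iterate 6 right
  left
  have hv0 : v ≠ 0 := by
    rintro rfl
    exact hv (Q_zero hQ)
  have hf := finrank_span_singleton (K := F) hv0
  exact ⟨not_odd_of_two_eq_zero h2, v, hv,
    eq_sub hQ hH (ne_bot_of_finrank (by omega)) (ne_top_of_finrank (by omega)) h⟩

theorem cM_odd (hQ : IsNondegenerateQuadraticForm Q) (hH : IsMaximalIn (omegaGL Q) H) (h2 : (2 : F) ≠ 0)
    {W : Submodule F (Fin 12 → F)} (hodd : Odd (finrank F W)) (hlt : finrank F W < 12)
    (hW : IsNondegenerateOn (polar Q) W) (h : H ≤ subspaceStabilizer W) : ConclM Q H := by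
  right; left
  refine ⟨odd_of_two_ne_zero h2, W, ne_bot_of_finrank hodd.pos, ne_top_of_finrank hlt, hodd, ?_, hW,
    eq_sub hQ hH (ne_bot_of_finrank hodd.pos) (ne_top_of_finrank hlt) h⟩
  intro h3
  have h4 : finrank F W = 6 := by omega
  rw [h4] at hodd
  exact absurd hodd (by decide)

/-- reducible maximal subgroups -/
theorem cM_red (hQ : IsNondegenerateQuadraticForm Q) (hH : IsMaximalIn (omegaGL Q) H)
    (hred : ¬ ActsIrreducibly (matrixSet H)) : ConclM Q H := by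
  have hI : H ≤ isometryGroup F Q := hH.1.le.trans (H925.omegaGL_le_iso Q)
  rcases reducible_cases hQ hI hred with ⟨W, h0, hW, h⟩ | ⟨W, h0, hW, hd, h⟩ | ⟨h2, v, hv, h⟩
  · exact cM_ts hQ hH h0 hW h
  · rw [hc12] at hd
    have hpos : 0 < finrank F W := by
      rw [Nat.pos_iff_ne_zero]
      intro h3
      exact h0 (Submodule.finrank_eq_zero.1 h3)
    by_cases hodd : Odd (finrank F W)
    · by_cases h2 : (2 : F) = 0
      · exact absurd (even_of_two hQ h2 hW) (Nat.not_even_iff_odd.2 hodd)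
      · exact cM_odd hQ hH h2 hodd (by omega) hW h
    · rw [Nat.not_odd_iff_even] at hodd
      obtain ⟨k, hk⟩ := hodd
      have hk3 : k ≤ 3 := by omega
      have heq : H = subspaceStabilizer W ⊓ omegaGL Q := eq_sub hQ hH h0 (ne_top_of_finrank (by omega)) h
      interval_cases k
      · omega
      · -- planes
        have hd2 : finrank F W = 2 := by omega
        by_cases hp : IsPlusTypeOn Q W
        · by_cases h4 : 4 ≤ Fintype.card F
          · iterate 3 right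
            left
            exact ⟨h4, W, hd2, hW, hp, heq⟩
          · have h1 := Fintype.one_lt_card (α := F)
            have h23 : Fintype.card F = 2 ∨ Fintype.card F = 3 := by omega
            rcases h23 with hq | hq
            · obtain ⟨v, hv, hle⟩ := plus_plane_two hq hQ hW hd2 hp hI h
              exact cM_nsv hQ hH (two_zero_of_card_two hq) hv hle
            · obtain ⟨W', hd', hW', hle⟩ := plus_plane_le hq hQ hW hd2 hp
              rw [hc12] at hd'
              have h20 : (2 : F) ≠ 0 := two_ne_zero_of_odd_card (by rw [hq]; decide)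
              have hfr : finrank F W' = 11 := by omega
              exact cM_odd hQ hH h20 (by rw [hfr]; decide) (by omega) hW'
                (fun g hg => (hle ⟨h hg, hI hg⟩).1)
        · iterate 2 right
          left
          exact ⟨W, hd2, hW, hp, heq⟩
      · iterate 4 right
        left
        exact ⟨W, by omega, hW, heq⟩
      · iterate 5 right
        left
        exact ⟨W, by omega, hW, heq⟩
  · exact cM_nsv hQ hH h2 hv h

/-- orthogonal decompositions -/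
theorem cM_orth (hQ : IsNondegenerateQuadraticForm Q) (hminus : ¬ IsPlusTypeOn Q ⊤) (hH : IsMaximalIn (omegaGL Q) H)
    {t m : ℕ} {D : Fin t → Submodule F (Fin 12 → F)} (htm : t * m = 12)
    (hD : IsOrthogonalMDecomposition Q m D) (h : H ≤ decompositionStabilizer D) : ConclM Q H := by
  have h2t := hD.decomp.decomp.two_le
  have hm0 := hD.decomp.decomp.pos
  have hm6 : m ≤ 6 := by
    by_contra hc
    have : 2 * 7 ≤ t * m := Nat.mul_le_mul h2t (by omega)
    omega
  interval_cases m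
  · have : t = 12 := by omega
    subst this
    exact absurd (Cfsg.Agent.H920.plus_of_decomposition hQ hD (Or.inr (by norm_num))) hminus
  · have : t = 6 := by omega
    subst this
    exact absurd (Cfsg.Agent.H920.plus_of_decomposition hQ hD (Or.inl ⟨by decide, by decide⟩)) hminus
  · have : t = 4 := by omega
    subst this
    exact absurd (Cfsg.Agent.H920.plus_of_decomposition hQ hD (Or.inr (by norm_num))) hminus
  · have : t = 3 := by omega
    subst this
    iterate 7 right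
    left
    exact ⟨D, hD, fun i hi => hminus (plus_of_plus_part hQ hD i hi), eq_dec hQ hH hD.decomp.decomp h⟩
  · omega
  · have : t = 2 := by omega
    subst this
    exact absurd (Cfsg.Agent.H920.plus_of_decomposition hQ hD (Or.inl ⟨by decide, by decide⟩)) hminus

/-- isotropic vectors of symmetric forms in dimension at least three -/
theorem exists_isotropic (h2 : (2 : F) ≠ 0) {n : ℕ} (hn : 3 ≤ n) {f : (Fin n → F) → (Fin n → F) → F}
    (hf : HermForm (RingEquiv.refl F) 1 f) : ∃ v : Fin n → F, v ≠ 0 ∧ f v v = 0 := by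
  have hS := isSymmetricForm_of_herm hf
  let q : QuadraticForm F (Fin n → F) := (toBilin hS.bilinear).toQuadraticMap
  obtain ⟨x, -, hx0, hx⟩ := exists_sing_mem (Q := q) ⊤
    (by rw [finrank_top, Module.finrank_fintype_fun_eq_card, Fintype.card_fin]; exact hn)
  exact ⟨x, hx0, hx⟩

/-- **Maximal subgroups of `Ω₁₂⁻(q)`.** -/
theorem minus_concl (hQ : IsNondegenerateQuadraticForm Q) (hminus : ¬ IsPlusTypeOn Q ⊤)
    (hH : IsMaximalIn (omegaGL Q) H) : ConclM Q H := by
  by_cases hirr : ActsIrreducibly (matrixSet H)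
  swap
  · exact cM_red hQ hH hirr
  have hI : H ≤ isometryGroup F Q := hH.1.le.trans (H925.omegaGL_le_iso Q)
  rcases irr_cases hc12 hQ hH.1.le hirr with ⟨t, m, D, htm, hD, h⟩ | ⟨D, hD, hs, h⟩ | ⟨r, K, hr, hK, h⟩ |
    ⟨e, P, f₁, f₂, ε, hq, h1, h2, ha1, ha2, hT, hpure, h⟩ | ⟨e, P, f₁, f₂, hodd, h1, h2, hm, hT, h⟩ |
    ⟨F₀, r, P, ζ, hr, hc, hζ, hR, h⟩ | h
  · exact cM_orth hQ hminus hH htm hD h
  · exfalso
    apply hminus
    refine ⟨D 0, le_top, hs 0, ?_⟩
    rw [hD.finrank_eq, finrank_top, Module.finrank_fintype_fun_eq_card, hc12]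
  · rcases hr with rfl | rfl
    · iterate 8 right
      left
      exact ⟨K, hK, eq_fld hQ hH le_rfl hK h⟩
    · iterate 9 right
      left
      exact ⟨K, hK, eq_fld hQ hH (by norm_num) hK h⟩
  · exact absurd (plus_of_pure rfl hpure) hminus
  · by_cases h5 : 5 ≤ Fintype.card F
    · iterate 10 right
      left
      obtain ⟨v₁, hv₁, hv⟩ := exists_isotropic hodd (by norm_num) h1
      obtain ⟨w₂, hw₂, hw⟩ := exists_isotropic hodd (by norm_num) h2
      refine ⟨odd_of_two_ne_zero hodd, h5, e, P, f₁, f₂, isSymmetricForm_of_herm h1, isSymmetricForm_of_herm h2, hm,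
        hT, eq_inf_of_isMaximalIn hH h ?_⟩
      exact omegaGL_not_le_tensor_symm hodd hQ (by rw [hc12]; norm_num) h1 h2 (by norm_num) (by norm_num) hv₁ hw₂ hv
        hw hT
    · have h1' := Fintype.one_lt_card (α := F)
      obtain ⟨k, hk⟩ := odd_of_two_ne_zero hodd
      have hq : Fintype.card F = 3 := by omega
      have hsw := Cfsg.Agent.H912.isTensorFormStructure_swap hT
      have hHsw : H ≤ tensorProductSubgroup 4 3 (e.trans (Equiv.prodComm (Fin 3) (Fin 4))) P := by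
        rw [Cfsg.Agent.H912.tensorProductSubgroup_swap]; exact h
      obtain ⟨D, hD, hle⟩ := Cfsg.Agent.H914.frame_of_tensor_three hq hQ.polar_bilinear (by norm_num) h2
        (isSymmetricForm_of_herm h1) hsw
      have hHD : H ≤ decompositionStabilizer D := fun g hg => hle g (hHsw hg) (polar_iso (hI hg))
      exact cM_orth hQ hminus hH (by norm_num) (isOrthogonalMDecomposition_of_irreducible hirr hI hD hHD) hHD
  · rcases hr.eq_two_or_odd' with rfl | hro
    · exact absurd (Cfsg.Agent.H926.plusType_of_index_two hQ (by rw [hc12]; decide) hc hζ hR) hminus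
    · iterate 11 right
      left
      exact ⟨F₀, r, P, ζ, hr, hro, hc, hζ, hR, eq_sfd hQ hH hr hc h⟩
  · iterate 12 right
    exact h

end

end Cfsg.Agent.H932
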