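import Cfsg.Agent.H932.MtOut
import Cfsg.Agent.H932.MtCov
import Cfsg.Agent.S2061

/-!
# Groups normalising a core with socle `M₁₂`, monomial model (helper932)

* `scalars_of_comm` : an element of `GL` which centralises a core modulo scalars is a scalar;
* `exists_aut` : an element normalising `P` induces an automorphism of `M₁₂`;
* `out_two` : two automorphisms of `M₁₂` which are not inner differ by an inner one;
* `dichotomy` : `P` the core of `H`: either `H ≤ F P`, or `c A0 ∈ H` for some `c`.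
-/

set_option autoImplicit false
set_option linter.unusedSectionVars false

namespace Cfsg.Agent.H932.Mt

open Cfsg Cfsg.Geo Matrix Cfsg.Agent.H915.LD

universe u

open scoped commutatorElement

theorem center_M12 : Subgroup.center Spor.M12 = ⊥ := by
  have hs := Schreier.MTwelve.isSimpleGroup
  rcases (Subgroup.Normal.eq_bot_or_eq_top (inferInstance : (Subgroup.center Spor.M12).Normal)) with h | h
  · exact h
  · exfalso
    apply Schreier.MTwelve.not_isMulCommutative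
    refine ⟨⟨fun a b => ?_⟩⟩
    have ha : a ∈ Subgroup.center Spor.M12 := by rw [h]; trivial
    exact (Subgroup.mem_center_iff.1 ha b).symm

section gen

variable {ι : Type} [Fintype ι] [DecidableEq ι] {F : Type u} [Field F] {P : Subgroup (GL ι F)}

theorem scalar_central {z : GL ι F} (hz : z ∈ scalars ι F) (g : GL ι F) : g * z = z * g := by
  obtain ⟨c, hc⟩ := (mem_scalars_iff z).1 hz
  apply Units.ext
  rw [Units.val_mul, Units.val_mul, hc, Matrix.mul_smul, Matrix.smul_mul, mul_one, one_mul]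

/-- an element centralising a core modulo scalars is a scalar -/
theorem scalars_of_comm (hC : Core P) {z : GL ι F} (h : ∀ x ∈ P, z * x * z⁻¹ * x⁻¹ ∈ scalars ι F) :
    z ∈ scalars ι F := by
  let κ : P →* GL ι F :=
    { toFun := fun x => z * x * z⁻¹ * (x : GL ι F)⁻¹
      map_one' := by rw [Subgroup.coe_one]; group
      map_mul' := by
        intro x y
        have h1 := scalar_central (h y y.2) (z * x * z⁻¹)
        have h2 := scalar_central (h y y.2) (z * x * z⁻¹ * (x : GL ι F)⁻¹)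
        rw [h2, Subgroup.coe_mul]
        have h3 : z * ((x : GL ι F) * y) * z⁻¹ * ((x : GL ι F) * y)⁻¹
            = z * x * z⁻¹ * (z * y * z⁻¹ * (y : GL ι F)⁻¹) * (x : GL ι F)⁻¹ := by group
        rw [h3, h1]
        group }
  have hκ : ∀ x : P, κ x = z * x * z⁻¹ * (x : GL ι F)⁻¹ := fun x => rfl
  have h1 : commutator P ≤ κ.ker := by
    rw [commutator_def, Subgroup.commutator_le]
    intro a _ b _
    rw [MonoidHom.mem_ker, map_commutatorElement, commutatorElement_eq_one_iff_mul_comm]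
    exact scalar_central (h b b.2) _
  rw [hC.commutator_top] at h1
  have h2 : ∀ s ∈ matrixSet P, (z : Matrix ι ι F) * s = s * (z : Matrix ι ι F) := by
    rintro _ ⟨g, hg, rfl⟩
    have h3 : κ ⟨g, hg⟩ = 1 := h1 (Subgroup.mem_top _)
    rw [hκ, mul_inv_eq_one, mul_inv_eq_iff_eq_mul] at h3
    have h4 := congrArg Units.val h3
    rw [Units.val_mul, Units.val_mul] at h4
    exact h4
  obtain ⟨c, hc⟩ := hC.absIrred.2 _ h2
  rw [mem_scalars_iff]
  have hc0 : c ≠ 0 := by
    intro h0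
    rw [h0, zero_smul] at hc
    obtain ⟨i⟩ := hC.nonempty
    have h5 : ((z : GL ι F) : Matrix ι ι F) * ((z⁻¹ : GL ι F) : Matrix ι ι F) = 1 := by
      rw [← Units.val_mul, mul_inv_cancel, Units.val_one]
    rw [hc, zero_mul] at h5
    have h6 := congrFun (congrFun h5 i) i
    rw [Matrix.one_apply_eq] at h6
    exact zero_ne_one h6
  exact ⟨Units.mk0 c hc0, hc⟩

/-- conjugation by a normalising element -/
def cnj (h : GL ι F) (hn : ∀ x ∈ P, h * x * h⁻¹ ∈ P) : P →* P where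
  toFun x := ⟨h * x * h⁻¹, hn x x.2⟩
  map_one' := Subtype.ext (by
    change h * 1 * h⁻¹ = 1
    rw [mul_one, mul_inv_cancel])
  map_mul' x y := Subtype.ext (by
    change h * ((x * y : P) : GL ι F) * h⁻¹ = (h * x * h⁻¹) * (h * y * h⁻¹)
    rw [Subgroup.coe_mul]
    group)

theorem cnj_coe {h : GL ι F} (hn : ∀ x ∈ P, h * x * h⁻¹ ∈ P) (x : P) :
    (cnj h hn x : GL ι F) = h * x * h⁻¹ := rfl

theorem cnj_surjective [Finite F] {h : GL ι F} (hn : ∀ x ∈ P, h * x * h⁻¹ ∈ P) : Function.Surjective (cnj h hn) := by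
  apply Finite.injective_iff_surjective.1
  intro x y hxy
  have h1 := congrArg Subtype.val hxy
  rw [cnj_coe, cnj_coe] at h1
  exact Subtype.ext (mul_left_cancel (mul_right_cancel h1))

theorem toSoc_eq_iff {u v : P} : toSoc P u = toSoc P v ↔ (u : GL ι F)⁻¹ * v ∈ scalars ι F := by
  have h1 : toSoc P u = toSoc P v ↔ u⁻¹ * v ∈ (scalars ι F).subgroupOf P := QuotientGroup.eq
  rw [h1, Subgroup.mem_subgroupOf]
  rfl

/-- elements inducing the same automorphism -/
theorem scalars_of_eq (hC : Core P) {h k : GL ι F} (hh : ∀ x ∈ P, h * x * h⁻¹ ∈ P) (hk : ∀ x ∈ P, k * x * k⁻¹ ∈ P)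
    (heq : ∀ x : P, toSoc P (cnj h hh x) = toSoc P (cnj k hk x)) : k⁻¹ * h ∈ scalars ι F := by
  apply scalars_of_comm hC
  intro x hx
  have h1 := toSoc_eq_iff.1 (heq ⟨x, hx⟩)
  rw [cnj_coe, cnj_coe] at h1
  change (h * x * h⁻¹)⁻¹ * (k * x * k⁻¹) ∈ scalars ι F at h1
  have h2 := (scalars ι F).inv_mem h1
  set s : GL ι F := ((h * x * h⁻¹)⁻¹ * (k * x * k⁻¹))⁻¹ with hs
  have h3 : k⁻¹ * h * x * (k⁻¹ * h)⁻¹ * x⁻¹ = k⁻¹ * ((k * x * k⁻¹) * s * (k * x * k⁻¹)⁻¹) * k := by
    rw [hs]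
    group
  rw [h3, scalar_central h2 (k * x * k⁻¹), mul_inv_cancel_right, scalar_central h2 k⁻¹, inv_mul_cancel_right]
  exact h2

/-- the automorphism of `M₁₂` induced by a normalising element -/
theorem exists_aut [Finite F] (e : Soc P ≃* Spor.M12) {φ : Γ →* P} (hφ : Function.Surjective φ)
    (hφe : ∀ x, e (toSoc P (φ x)) = sig x) {h : GL ι F} (hn : ∀ x ∈ P, h * x * h⁻¹ ∈ P) :
    ∃ α : MulAut Spor.M12, ∀ g, e (toSoc P (cnj h hn (φ g))) = α (sig g) := by
  let f : Γ →* Spor.M12 := e.toMonoidHom.comp ((toSoc P).comp ((cnj h hn).comp φ))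
  have hf : ∀ g, f g = e (toSoc P (cnj h hn (φ g))) := fun g => rfl
  have hfs : Function.Surjective f :=
    e.surjective.comp ((toSoc_surjective P).comp ((cnj_surjective hn).comp hφ))
  have hneg : f neg = 1 := by
    have h1 : f neg ∈ Subgroup.center Spor.M12 := by
      rw [Subgroup.mem_center_iff]
      intro m
      obtain ⟨g, rfl⟩ := hfs m
      rw [← map_mul, ← map_mul, neg_comm]
    rw [center_M12] at h1
    exact h1
  have hker : sig.ker ≤ f.ker := by
    intro g hg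
    rcases eq_of_sig hg with h | h
    · rw [h]; exact Subgroup.one_mem _
    · rw [h]; exact hneg
  let α0 : Spor.M12 →* Spor.M12 := sig.liftOfSurjective sig_surjective ⟨f, hker⟩
  have hα0 : ∀ g, α0 (sig g) = f g := fun g =>
    MonoidHom.liftOfRightInverse_comp_apply sig _ _ ⟨f, hker⟩ g
  have hs : Function.Surjective α0 := by
    intro m
    obtain ⟨g, rfl⟩ := hfs m
    exact ⟨sig g, hα0 g⟩
  refine ⟨MulEquiv.ofBijective α0 ⟨Finite.injective_iff_surjective.2 hs, hs⟩, fun g => ?_⟩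
  rw [← hf, ← hα0]
  rfl

end gen

/-- **`|Out(M₁₂)| = 2`.** -/
theorem out_two {α β : MulAut Spor.M12} (hα : ∀ m, α ≠ MulAut.conj m) (hβ : ∀ m, β ≠ MulAut.conj m) :
    ∃ m, ∀ x, α x = β (m * x * m⁻¹) := by
  have h2 := S2061.result
  have hne : ∀ {γ : MulAut Spor.M12}, (∀ m, γ ≠ MulAut.conj m) → (QuotientGroup.mk γ : Cfsg.Out Spor.M12) ≠ 1 := by
    intro γ hγ h
    rw [QuotientGroup.eq_one_iff] at h
    obtain ⟨m, hm⟩ := h
    exact hγ m hm.symm
  have h3 : (QuotientGroup.mk β : Cfsg.Out Spor.M12) = QuotientGroup.mk α := by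
    have h4 := (Nat.card_eq_two_iff' (1 : Cfsg.Out Spor.M12)).1 h2
    exact h4.unique (hne hβ) (hne hα)
  rw [QuotientGroup.eq] at h3
  obtain ⟨m, hm⟩ := h3
  refine ⟨m, fun x => ?_⟩
  have h4 : α = β * MulAut.conj m := by rw [hm, mul_inv_cancel_left]
  rw [h4, MulAut.mul_apply, MulAut.conj_apply]

section model

variable {F : Type u} [Field F] {P : Subgroup (GL (Fin 12) F)}

/-- `A0` as an invertible matrix -/
noncomputable def AG (b : Module.Basis (Fin 12) F (Fin 12 → F)) (h12 : (12 : F) ≠ 0) : GL (Fin 12) F where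
  val := A0 b
  inv := (12 : F)⁻¹ • A0 b
  val_inv := by rw [Matrix.mul_smul, A0_mul_self, smul_smul, inv_mul_cancel₀ h12, one_smul]
  inv_val := by rw [Matrix.smul_mul, A0_mul_self, smul_smul, inv_mul_cancel₀ h12, one_smul]

variable {b : Module.Basis (Fin 12) F (Fin 12 → F)}

theorem AG_conj (h2 : (2 : F) ≠ 0) (h12 : (12 : F) ≠ 0) {φ : Γ →* P} (hb : IsModel φ b) {g g' : Γ} (h : inter g g') :
    AG b h12 * (φ g : GL (Fin 12) F) * (AG b h12)⁻¹ = (φ g' : GL (Fin 12) F) := by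
  rw [mul_inv_eq_iff_eq_mul]
  apply Units.ext
  rw [Units.val_mul, Units.val_mul]
  exact A0_comm h2 hb h

theorem AG_norm (h2 : (2 : F) ≠ 0) (h12 : (12 : F) ≠ 0) {φ : Γ →* P} (hφ : Function.Surjective φ) (hb : IsModel φ b) :
    ∀ x ∈ P, AG b h12 * x * (AG b h12)⁻¹ ∈ P := by
  intro x hx
  obtain ⟨g, hg⟩ := hφ ⟨x, hx⟩
  obtain ⟨g', hg'⟩ := exists_inter g
  have h1 := AG_conj h2 h12 hb hg'
  rw [hg] at h1
  change AG b h12 * x * (AG b h12)⁻¹ = _ at h1
  rw [h1]
  exact (φ g').2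

/-- **Inner or outer.** -/
theorem dichotomy [Finite F] (h2 : (2 : F) ≠ 0) (h3 : (3 : F) ≠ 0) {H : Subgroup (GL (Fin 12) F)}
    (hc : IsResidualCore H P) (e : Soc P ≃* Spor.M12) {φ : Γ →* P} (hφ : Function.Surjective φ)
    (hφe : ∀ x, e (toSoc P (φ x)) = sig x) (hb : IsModel φ b) :
    (∀ h ∈ H, ∃ (y : Γ) (c : F), (h : Matrix (Fin 12) (Fin 12) F)
      = c • ((φ y : GL (Fin 12) F) : Matrix (Fin 12) (Fin 12) F)) ∨
    (∃ h ∈ H, ∃ c : F, (h : Matrix (Fin 12) (Fin 12) F) = c • A0 b) := by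
  have hC := core_of_residual hc
  have hn : ∀ h ∈ H, ∀ x ∈ P, h * x * h⁻¹ ∈ P := hc.normal
  by_cases hin : ∀ h (hh : h ∈ H), ∃ m, ∀ g, e (toSoc P (cnj h (hn h hh) (φ g))) = m * sig g * m⁻¹
  · left
    intro h hh
    obtain ⟨m, hm⟩ := hin h hh
    obtain ⟨y, rfl⟩ := sig_surjective m
    have hy : ∀ x ∈ P, (φ y : GL (Fin 12) F) * x * (φ y : GL (Fin 12) F)⁻¹ ∈ P :=
      fun x hx => P.mul_mem (P.mul_mem (φ y).2 hx) (P.inv_mem (φ y).2)
    have h4 := scalars_of_eq hC (hn h hh) hy (by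
      intro x
      obtain ⟨g, rfl⟩ := hφ x
      apply e.injective
      rw [hm g]
      have h5 : cnj (φ y : GL (Fin 12) F) hy (φ g) = φ (y * g * y⁻¹) := by
        apply Subtype.ext
        rw [cnj_coe, map_mul, map_mul, map_inv]
        rfl
      rw [h5, hφe, map_mul, map_mul, map_inv])
    obtain ⟨c, hc'⟩ := (mem_scalars_iff _).1 h4
    refine ⟨y, c, ?_⟩
    have h5 : h = (φ y : GL (Fin 12) F) * ((φ y : GL (Fin 12) F)⁻¹ * h) := by rw [mul_inv_cancel_left]
    have h6 := congrArg Units.val h5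
    rw [Units.val_mul, hc', Matrix.mul_smul, mul_one] at h6
    exact h6
  · right
    have h12 : (12 : F) ≠ 0 := by
      have : (12 : F) = 2 * 2 * 3 := by norm_num
      rw [this]
      exact mul_ne_zero (mul_ne_zero h2 h2) h3
    rw [not_forall] at hin
    obtain ⟨h, hin⟩ := hin
    rw [not_forall] at hin
    obtain ⟨hh, hin⟩ := hin
    obtain ⟨α, hα⟩ := exists_aut e hφ hφe (hn h hh)
    obtain ⟨β, hβ⟩ := exists_aut e hφ hφe (AG_norm h2 h12 hφ hb)
    have hα' : ∀ m, α ≠ MulAut.conj m := by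
      rintro m rfl
      exact hin ⟨m, fun g => by rw [hα, MulAut.conj_apply]⟩
    have hβ' : ∀ m, β ≠ MulAut.conj m := by
      rintro m rfl
      obtain ⟨y, rfl⟩ := sig_surjective m
      have h4 := hβ g4
      have h5 : cnj (AG b h12) (AG_norm h2 h12 hφ hb) (φ g4) = φ o4 :=
        Subtype.ext (AG_conj h2 h12 hb inter_o4)
      rw [h5, hφe, MulAut.conj_apply, ← map_inv, ← map_mul, ← map_mul] at h4
      exact not_conj y h4.symm
    obtain ⟨m, hm⟩ := out_two hα' hβ'
    obtain ⟨y, rfl⟩ := sig_surjective m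
    have hy : ∀ x ∈ P, (AG b h12 * (φ y : GL (Fin 12) F)) * x * (AG b h12 * (φ y : GL (Fin 12) F))⁻¹ ∈ P := by
      intro x hx
      have h5 : (AG b h12 * (φ y : GL (Fin 12) F)) * x * (AG b h12 * (φ y : GL (Fin 12) F))⁻¹
          = AG b h12 * ((φ y : GL (Fin 12) F) * x * (φ y : GL (Fin 12) F)⁻¹) * (AG b h12)⁻¹ := by group
      rw [h5]
      exact AG_norm h2 h12 hφ hb _ (P.mul_mem (P.mul_mem (φ y).2 hx) (P.inv_mem (φ y).2))
    have h4 := scalars_of_eq hC hy (hn h hh) (by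
      intro x
      obtain ⟨g, rfl⟩ := hφ x
      apply e.injective
      rw [hα, hm]
      have h5 : cnj (AG b h12 * (φ y : GL (Fin 12) F)) hy (φ g)
          = cnj (AG b h12) (AG_norm h2 h12 hφ hb) (φ (y * g * y⁻¹)) := by
        apply Subtype.ext
        rw [cnj_coe, cnj_coe, map_mul, map_mul, map_inv]
        change _ = AG b h12 * ((φ y : GL (Fin 12) F) * φ g * (φ y : GL (Fin 12) F)⁻¹) * (AG b h12)⁻¹
        group
      have h6 : sig (y * g * y⁻¹) = sig y * sig g * (sig y)⁻¹ := by rw [map_mul, map_mul, map_inv]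
      rw [h5, hβ, h6])
    obtain ⟨c, hc'⟩ := (mem_scalars_iff _).1 h4
    refine ⟨h * (φ y : GL (Fin 12) F)⁻¹, H.mul_mem hh (H.inv_mem (hc.le (φ y).2)), ((c⁻¹ : Fˣ) : F), ?_⟩
    have h5 : AG b h12 = h * (h⁻¹ * (AG b h12 * (φ y : GL (Fin 12) F))) * (φ y : GL (Fin 12) F)⁻¹ := by group
    have h6 := congrArg Units.val h5
    rw [Units.val_mul, Units.val_mul, hc', Matrix.mul_smul, mul_one, Matrix.smul_mul, ← Units.val_mul] at h6
    have h7 : A0 b = (c : F) • ((h * (φ y : GL (Fin 12) F)⁻¹ : GL (Fin 12) F) : Matrix (Fin 12) (Fin 12) F) := h6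
    rw [h7, smul_smul, Units.inv_mul, one_smul]

end model

end Cfsg.Agent.H932.Mt
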