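import Cfsg.Agent.H932.MtSq
import Cfsg.Agent.H932.MtAut
import Cfsg.Agent.H932.MtNum
import Cfsg.Agent.H889.QForm

/-!
# The socle `M₁₂` in `Ω₁₂(q)`, characteristic not 2, 3 (helper932)

* `OrthB.plus` : the invariant form is of plus type;
* `not_inner` : a maximal subgroup of `Ω(Q)` is not contained in `F P`;
* `m12_core` : `H` maximal in `Ω(Q)` with core `P`, `Soc P ≃* M₁₂`: `Q` is of plus type, `|F| = p`, `p ≡ ±1` modulo 24.
-/

set_option autoImplicit false
set_option linter.unusedSectionVars false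

namespace Cfsg.Agent.H932.Mt

open Cfsg Cfsg.Geo Matrix Cfsg.Agent.H915.LD QuadraticMap
open Cfsg.Agent.H932.Spinor Cfsg.Agent.ClassicalGeometry.Reflection

universe u

/-- elements of `Γ` fixing all lines -/
def fixK : Subgroup Γ where
  carrier := {y | ∀ k, idx (y.1.1 k) = idx k}
  one_mem' := fun _ => rfl
  mul_mem' := by
    intro a c ha hc k
    change idx (a.1.1 (c.1.1 k)) = idx k
    rw [ha, hc]
  inv_mem' := by
    intro a ha k
    have h1 := ha ((a⁻¹).1.1 k)
    have h2 : a.1.1 ((a⁻¹).1.1 k) = k := a.1.1.apply_symm_apply k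
    rw [h2] at h1
    exact h1.symm

theorem fixK_normal : fixK.Normal where
  conj_mem := by
    intro a ha g k
    change idx (g.1.1 (a.1.1 ((g⁻¹).1.1 k))) = idx k
    have h1 : g.1.1 ((g⁻¹).1.1 k) = k := g.1.1.apply_symm_apply k
    nth_rewrite 2 [← h1]
    exact idx_congr g (ha _)

theorem gt_moves : ∃ k, idx (gt.1.1 k) ≠ idx k := by decide +kernel

theorem of_fixK {y : Γ} (hy : y ∈ fixK) : y = 1 ∨ y = neg := by
  have hs := Schreier.MTwelve.isSimpleGroup
  have hn : (fixK.map sig).Normal := fixK_normal.map sig sig_surjective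
  rcases hn.eq_bot_or_eq_top with h | h
  · apply eq_of_sig
    have h1 : sig y ∈ fixK.map sig := ⟨y, hy, rfl⟩
    rw [h] at h1
    exact h1
  · exfalso
    have h1 : sig gt ∈ fixK.map sig := by rw [h]; trivial
    obtain ⟨z, hz, hzt⟩ := h1
    have h2 : gt ∈ fixK := by
      have h3 : sig (z⁻¹ * gt) = 1 := by rw [map_mul, map_inv, hzt, inv_mul_cancel]
      rcases eq_of_sig h3 with h4 | h4
      · rw [inv_mul_eq_one] at h4
        rw [← h4]
        exact hz
      · rw [inv_mul_eq_iff_eq_mul] at h4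
        rw [h4]
        apply fixK.mul_mem hz
        intro k
        rw [neg_apply, idx_ng]
    obtain ⟨k, hk⟩ := gt_moves
    exact hk (h2 k)

theorem of_diag {y : Γ} (hy : ∀ i, idx (y.1.1 (pos i)) = i) : y = 1 ∨ y = neg := by
  apply of_fixK
  intro k
  have h1 : idx (y.1.1 k) = idx (y.1.1 (pos (idx k))) := idx_congr y (by rw [idx_pos])
  rw [h1, hy]

/-- the permutation of the lines -/
def lp (y : Γ) : Equiv.Perm (Fin 12) where
  toFun i := idx (y.1.1 (pos i))
  invFun i := idx ((y⁻¹).1.1 (pos i))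
  left_inv i := by
    have h1 : idx ((y⁻¹).1.1 (pos (idx (y.1.1 (pos i))))) = idx ((y⁻¹).1.1 (y.1.1 (pos i))) :=
      idx_congr y⁻¹ (by rw [idx_pos])
    have h2 : (y⁻¹).1.1 (y.1.1 (pos i)) = pos i := y.1.1.symm_apply_apply _
    change idx ((y⁻¹).1.1 (pos (idx (y.1.1 (pos i))))) = i
    rw [h1, h2, idx_pos]
  right_inv i := by
    have h1 : idx (y.1.1 (pos (idx ((y⁻¹).1.1 (pos i))))) = idx (y.1.1 ((y⁻¹).1.1 (pos i))) :=
      idx_congr y (by rw [idx_pos])
    have h2 : y.1.1 ((y⁻¹).1.1 (pos i)) = pos i := y.1.1.apply_symm_apply _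
    change idx (y.1.1 (pos (idx ((y⁻¹).1.1 (pos i))))) = i
    rw [h1, h2, idx_pos]

/-- the vector `(1,1,1,1,0,…)` -/
def v4 : Fin 12 → ℤ := fun i => if (i : ℕ) < 4 then 1 else 0
/-- the first unit vector -/
def v1 : Fin 12 → ℤ := fun i => if i = 0 then 1 else 0
/-- the sixth unit vector -/
def v5 : Fin 12 → ℤ := fun i => if i = 5 then 1 else 0

section kill

variable {F : Type u} [Field F] [Fintype F] {P : Subgroup (GL (Fin 12) F)}
  {b : Module.Basis (Fin 12) F (Fin 12 → F)} {Q : QuadraticForm F (Fin 12 → F)}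

theorem bx_unit (j : Fin 12) : bx b (fun i => if i = j then 1 else 0) = b j := by
  unfold bx
  rw [Finset.sum_eq_single j]
  · dsimp only
    rw [if_pos rfl, Int.cast_one, one_smul]
  · intro i _ hi
    dsimp only
    rw [if_neg hi, Int.cast_zero, zero_smul]
  · intro h
    exact absurd (Finset.mem_univ _) h

theorem repr_bx (x : Fin 12 → ℤ) (i : Fin 12) : b.repr (bx b x) i = ((x i : ℤ) : F) := by
  unfold bx
  exact Module.Basis.repr_sum_self b (fun i => ((x i : ℤ) : F)) ▸ rfl

/-- the embedding of a totally singular subspace -/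
def gl (a c : F) : (Fin 6 → F) →ₗ[F] (Fin 12 → F) where
  toFun x := ![x 0, a * x 0 - c * x 1, c * x 0 + a * x 1, x 1, x 2, a * x 2 - c * x 3, c * x 2 + a * x 3, x 3,
    x 4, a * x 4 - c * x 5, c * x 4 + a * x 5, x 5]
  map_add' x y := by
    ext i
    fin_cases i <;> simp <;> ring
  map_smul' r x := by
    ext i
    fin_cases i <;> simp <;> ring

theorem OrthB.plus (h2 : (2 : F) ≠ 0) (hO : OrthB Q b) : IsPlusTypeOn (⇑Q) ⊤ := by
  obtain ⟨a, c, hac⟩ : ∃ a c : F, a ^ 2 + c ^ 2 = -1 := by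
    have hF : Odd (Fintype.card F) := by
      rw [← Nat.not_even_iff_odd]
      intro he
      apply h2
      have h1 : ((Fintype.card F : ℕ) : F) = 0 := FiniteField.cast_card_eq_zero F
      have hc : ringChar F = 2 := (FiniteField.even_card_iff_char_two).2 (Nat.even_iff.1 he)
      have := ringChar.Nat.cast_ringChar (R := F)
      rw [hc] at this
      exact_mod_cast this
    have h := FiniteField.exists_root_sum_quadratic (R := F) (f := Polynomial.X ^ 2)
      (g := Polynomial.X ^ 2 - Polynomial.C (-1)) (Polynomial.degree_X_pow 2)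
      (Polynomial.degree_X_pow_sub_C (by decide) _) (Nat.odd_iff.mp hF)
    obtain ⟨a, b, hab⟩ := h
    refine ⟨a, b, ?_⟩
    simp only [Polynomial.eval_pow, Polynomial.eval_X, Polynomial.eval_sub, Polynomial.eval_C] at hab
    linear_combination hab
  let f : (Fin 6 → F) →ₗ[F] (Fin 12 → F) := b.equivFun.symm.toLinearMap ∘ₗ gl a c
  have hf : ∀ x, f x = ∑ i, gl a c x i • b i := fun x => by
    change b.equivFun.symm (gl a c x) = _
    rw [Module.Basis.equivFun_symm_apply]
  have hinj : Function.Injective f := by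
    apply b.equivFun.symm.injective.comp
    rw [← LinearMap.coe_toAddHom]
    intro x y hxy
    have h1 : gl a c x = gl a c y := hxy
    have e0 := congrFun h1 0
    have e3 := congrFun h1 3
    have e4 := congrFun h1 4
    have e7 := congrFun h1 7
    have e8 := congrFun h1 8
    have e11 := congrFun h1 11
    ext i
    fin_cases i
    · exact e0
    · exact e3
    · exact e4
    · exact e7
    · exact e8
    · exact e11
  refine ⟨LinearMap.range f, le_top, ?_, ?_⟩
  · rintro _ ⟨x, rfl⟩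
    rw [hf, hO.Q_sum h2]
    have h1 : ∑ i, gl a c x i * gl a c x i = 0 := by
      unfold gl
      simp [Fin.sum_univ_succ]
      linear_combination (x 0 ^ 2 + x 1 ^ 2 + x 2 ^ 2 + x 3 ^ 2 + x 4 ^ 2 + x 5 ^ 2) * hac
    rw [h1, mul_zero]
  · rw [LinearMap.finrank_range_of_inj hinj, finrank_top, Module.finrank_fin_fun, Module.finrank_fin_fun]

/-- monomial elements preserve the lines -/
theorem mono_mem {φ : Γ →* P} (hb : IsModel φ b) {h : GL (Fin 12) F} {y : Γ} {c : F}
    (hc : (h : Matrix (Fin 12) (Fin 12) F) = c • ((φ y : GL (Fin 12) F) : Matrix (Fin 12) (Fin 12) F)) :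
    h ∈ decompositionStabilizer (fun i : Fin 12 => Submodule.span F {b i}) := by
  have hc0 : c ≠ 0 := by
    rintro rfl
    rw [zero_smul] at hc
    exact h.ne_zero hc
  refine ⟨lp y, fun i => ?_⟩
  rw [Submodule.map_span, Set.image_singleton, Matrix.toLin'_apply, hc, Matrix.smul_mulVec, hb]
  rw [Submodule.span_singleton_smul_eq (isUnit_iff_ne_zero.2 hc0)]
  have h1 : ((sgn (y.1.1 (pos i)) : ℤ) : F) ≠ 0 := by
    rcases sgn_cases (y.1.1 (pos i)) with h | h <;> rw [h] <;> simp
  rw [Submodule.span_singleton_smul_eq (isUnit_iff_ne_zero.2 h1)]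
  rfl

/-- the reflection in `b i` -/
theorem refl_b [DecidableEq F] (hO : OrthB Q b) (hQ0 : Q (b 0) ≠ 0) (i j : Fin 12) (hi : Q (b i) ≠ 0) :
    ac (reflIso Q (b i) hi) (b j) = if i = j then -b j else b j := by
  rw [ac_reflIso, hO.polar_eq]
  split_ifs with h
  · subst h
    rw [hO.const i]
    have h1 : (Q (b 0))⁻¹ * (2 * Q (b 0)) = 2 := by
      field_simp
    rw [h1, two_smul]
    abel
  · rw [mul_zero, zero_smul, sub_zero]

/-- **A maximal subgroup of `Ω(Q)` does not consist of multiples of elements of `P`.** -/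
theorem not_inner (h2 : (2 : F) ≠ 0) (hO : OrthB Q b) (hQ0 : Q (b 0) ≠ 0)
    {φ : Γ →* P} (hb : IsModel φ b) {H : Subgroup (GL (Fin 12) F)} (hH : IsMaximalIn (omegaGL (⇑Q)) H)
    (hin : ∀ h ∈ H, ∃ (y : Γ) (c : F), (h : Matrix (Fin 12) (Fin 12) F)
      = c • ((φ y : GL (Fin 12) F) : Matrix (Fin 12) (Fin 12) F)) : False := by
  classical
  set D : Fin 12 → Submodule F (Fin 12 → F) := fun i => Submodule.span F {b i} with hD
  have hle : H ≤ decompositionStabilizer D ⊓ omegaGL (⇑Q) := by
    intro h hh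
    obtain ⟨y, c, hc⟩ := hin h hh
    exact ⟨mono_mem hb hc, hH.1.le hh⟩
  have hq : ∀ i, Q (b i) ≠ 0 := fun i => by rw [hO.const]; exact hQ0
  rcases hH.2 _ hle inf_le_right with hM | hM
  · -- a diagonal element
    have h1 := refl_mem (Q := Q) h2 (hq 0) (hq 1) ⟨Q (b 0), by rw [hO.const 1]⟩
    set r := reflIso Q (b 0) (hq 0) * reflIso Q (b 1) (hq 1) with hr
    have hac : ∀ i, ac r (b i) = if i = 0 ∨ i = 1 then -b i else b i := by
      intro i
      rw [hr, ac_mul, refl_b hO hQ0 1 i]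
      by_cases h10 : (1 : Fin 12) = i
      · rw [if_pos h10, if_pos (Or.inr h10.symm)]
        have h3 : ac (reflIso Q (b 0) (hq 0)) (-b i) = -ac (reflIso Q (b 0) (hq 0)) (b i) := Matrix.mulVec_neg _ _
        rw [h3, refl_b hO hQ0 0 i, if_neg (by rw [← h10]; decide)]
      · rw [if_neg h10, refl_b hO hQ0 0 i]
        by_cases h00 : (0 : Fin 12) = i
        · rw [if_pos h00, if_pos (Or.inl h00.symm)]
        · rw [if_neg h00, if_neg]
          rintro (h | h)
          · exact h00 h.symm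
          · exact h10 h.symm
    have h3 : ((r : GL (Fin 12) F)) ∈ decompositionStabilizer D := by
      refine ⟨1, fun i => ?_⟩
      have h4 : Matrix.toLin' ((r : GL (Fin 12) F) : Matrix (Fin 12) (Fin 12) F) (b i) = if i = 0 ∨ i = 1 then -b i else b i :=
        hac i
      rw [hD]
      change Submodule.map _ (Submodule.span F {b i}) = Submodule.span F {b i}
      rw [Submodule.map_span, Set.image_singleton, h4]
      split_ifs
      · rw [← Set.neg_singleton, Submodule.span_neg]
      · rfl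
    have h4 : (r : GL (Fin 12) F) ∈ H := by
      rw [← hM]
      exact ⟨h3, h1⟩
    obtain ⟨y, c, hc⟩ := hin _ h4
    have h5 : ∀ i, c • ((sgn (y.1.1 (pos i)) : ℤ) : F) • b (idx (y.1.1 (pos i))) = if i = 0 ∨ i = 1 then -b i else b i := by
      intro i
      rw [← hac i]
      change _ = ((r : GL (Fin 12) F) : Matrix (Fin 12) (Fin 12) F) *ᵥ b i
      rw [hc, Matrix.smul_mulVec, hb]
    have h6 : ∀ i, idx (y.1.1 (pos i)) = i := by
      intro i
      by_contra hne
      have h7 := congrArg (fun v => b.repr v i) (h5 i)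
      simp only [map_smul, Finsupp.smul_apply, Module.Basis.repr_self, Finsupp.single_apply, if_neg hne, smul_zero] at h7
      split_ifs at h7
      · rw [map_neg, Finsupp.neg_apply, Module.Basis.repr_self, Finsupp.single_apply, if_pos rfl] at h7
        exact one_ne_zero (neg_eq_zero.1 h7.symm)
      · rw [Module.Basis.repr_self, Finsupp.single_apply, if_pos rfl] at h7
        exact one_ne_zero h7.symm
    have h7 : sgn (y.1.1 (pos 0)) = sgn (y.1.1 (pos 2)) := by
      rcases of_diag h6 with h | h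
      · rw [h]; rfl
      · rw [h, neg_apply, neg_apply]; rfl
    have h8 := h5 0
    have h9 := h5 2
    rw [h6, if_pos (Or.inl rfl), smul_smul] at h8
    rw [h6, if_neg (by decide), smul_smul, ← h7] at h9
    have h10 : c * ((sgn (y.1.1 (pos 0)) : ℤ) : F) = -1 := by
      have h11 := congrArg (fun v => b.repr v 0) h8
      simpa using h11
    have h12 : c * ((sgn (y.1.1 (pos 0)) : ℤ) : F) = 1 := by
      have h11 := congrArg (fun v => b.repr v 2) h9
      simpa using h11
    rw [h12] at h10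
    apply h2
    linear_combination h10
  · -- a non-monomial element
    have e1 : bx b v1 = b 0 := bx_unit 0
    have hQ4 : Q (bx b v4) = 4 * Q (b 0) := by
      have h3 : Q (bx b v4) = Q (b 0) * ∑ i, ((v4 i : ℤ) : F) * ((v4 i : ℤ) : F) := hO.Q_sum h2 _
      have h4 : ∑ i, ((v4 i : ℤ) : F) * ((v4 i : ℤ) : F) = 4 := by
        have h5 : ∑ i, ((v4 i : ℤ) : F) * ((v4 i : ℤ) : F) = ((∑ i, v4 i * v4 i : ℤ) : F) := by
          rw [Int.cast_sum]
          apply Finset.sum_congr rfl
          intro k _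
          rw [Int.cast_mul]
        rw [h5, show ∑ i, v4 i * v4 i = 4 from by decide +kernel]
        norm_num
      rw [h3, h4, mul_comm]
    have h4 : (4 : F) ≠ 0 := by
      have : (4 : F) = 2 * 2 := by norm_num
      rw [this]
      exact mul_ne_zero h2 h2
    have hQ4' : Q (bx b v4) ≠ 0 := by rw [hQ4]; exact mul_ne_zero h4 hQ0
    have h1 := refl_mem (Q := Q) h2 hQ4' (hq 5) ⟨2 * Q (b 0), by rw [hQ4, hO.const 5]; ring⟩
    set r := reflIso Q (bx b v4) hQ4' * reflIso Q (b 5) (hq 5) with hr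
    rw [← hM] at h1
    obtain ⟨σ, hσ⟩ := h1.1
    have h5 : ac r (b 0) = b 0 - (2 : F)⁻¹ • bx b v4 := by
      rw [hr, ac_mul, refl_b hO hQ0 5 0, if_neg (by decide), ac_reflIso]
      have h6 : polar Q (bx b v4) (b 0) = 2 * Q (b 0) := by
        rw [← e1, hO.polar_bx, show dot v4 v1 = 1 from by decide +kernel, Int.cast_one, mul_one, e1]
      rw [h6, hQ4]
      congr 2
      field_simp
      norm_num
    have h6 : ac r (b 0) ∈ D (σ 0) := by
      rw [← hσ 0]
      exact ⟨b 0, Submodule.mem_span_singleton_self _, rfl⟩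
    rw [h5, hD] at h6
    obtain ⟨t, ht⟩ := Submodule.mem_span_singleton.1 h6
    have h7 : ∀ i, t * (if σ 0 = i then 1 else 0) = (if (0 : Fin 12) = i then 1 else 0) - (2 : F)⁻¹ * ((v4 i : ℤ) : F) := by
      intro i
      have h8 := congrArg (fun v => b.repr v i) ht
      simp only [map_smul, map_sub, Finsupp.smul_apply, Finsupp.sub_apply, Module.Basis.repr_self,
        Finsupp.single_apply, repr_bx, smul_eq_mul] at h8
      exact h8
    have h8 := h7 0
    have h9 := h7 1
    have v40 : v4 0 = 1 := rfl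
    have v41 : v4 1 = 1 := rfl
    rw [v40] at h8
    rw [v41] at h9
    have h22 : (2 : F) * 2⁻¹ = 1 := mul_inv_cancel₀ h2
    by_cases hs : σ 0 = 0
    · rw [hs] at h9
      rw [if_neg (by decide : ¬ (0 : Fin 12) = 1), mul_zero, Int.cast_one] at h9
      have h10 : (2 : F)⁻¹ = 0 := by linear_combination h9
      rw [h10, mul_zero] at h22
      exact zero_ne_one h22
    · rw [if_neg hs, if_pos rfl, mul_zero, Int.cast_one] at h8
      have h10 : (2 : F)⁻¹ = 1 := by linear_combination h8
      rw [h10] at h22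
      apply one_ne_zero (α := F)
      linear_combination h22

/-- **The socle `M₁₂` in dimension 12.** -/
theorem m12_core (p : ℕ) [hp : Fact p.Prime] [CharP F p] (h2 : (2 : F) ≠ 0) (h3 : (3 : F) ≠ 0)
    {Q : (Fin 12 → F) → F} (hQ : IsNondegenerateQuadraticForm Q) {H : Subgroup (GL (Fin 12) F)}
    (hH : IsMaximalIn (omegaGL Q) H) (hc : IsResidualCore H P) (e : Soc P ≃* Spor.M12) :
    IsPlusTypeOn Q ⊤ ∧ Fintype.card F = p ∧ (p % 24 = 1 ∨ p % 24 = 23) := by
  have hC := core_of_residual hc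
  obtain ⟨φ, hφ, hφe⟩ := exists_cover hC e
  obtain ⟨b, hb⟩ := exists_model h2 h3 hC e hφ hφe
  have hQn := H889.bundleQ_nondegenerate Q hQ
  have hP : ∀ x ∈ P, ∀ v, H889.bundleQ Q hQ ((x : Matrix (Fin 12) (Fin 12) F) *ᵥ v) = H889.bundleQ Q hQ v := by
    intro x hx v
    exact (mem_isometryGroup_iff _ _).1 (mem_iso_of_omega (Q := H889.bundleQ Q hQ) (hH.1.le (hc.le hx))) v
  have hO : OrthB (H889.bundleQ Q hQ) b := ⟨fun i j hij => polar_b h2 hb hP hij, fun i => Q_b hb hP i⟩
  have hQ0 := hO.ne_zero hQn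
  have hplus := hO.plus h2
  rcases dichotomy h2 h3 hc e hφ hφe hb with hin | ⟨h, hh, c, hcA⟩
  · exact (not_inner h2 hO hQ0 hb hH hin).elim
  · obtain ⟨s2, s3⟩ := squares h2 h3 hQn hO (hH.1.le hh) hcA
    have hcard := hC.card_eq p (fr_of hφ hb p)
    exact ⟨hplus, hcard, mod24 p hcard h2 h3 s2 s3⟩

end kill

end Cfsg.Agent.H932.Mt
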