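import Cfsg.Agent.LieClassical.OrthFinite
import Cfsg.Agent.ClassicalGeometry.Discriminant
import Cfsg.Agent.ClassicalGeometry.SymmNormalForm
import Cfsg.Agent.H884.SingMaxPlus
import Cfsg.Agent.S0763

/-!
Classification of even-dimensional quadratic spaces over finite fields by their type (H932), any characteristic.

* `Pl Q`: some totally singular subspace has half the dimension;
* `exists_isometry`: two nondegenerate spaces of the same even dimension and the same type are isometric;
* `pl_hp_iff`: the type does not change if a hyperbolic plane is split off;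
* `pl_right`: `V = W ⊥ U`, `V` and `W` of plus type: `U` is of plus type.
-/

set_option autoImplicit false
set_option linter.unusedSectionVars false

namespace Cfsg.Agent.H932

open QuadraticMap hiding proj
open Module
open Cfsg.Agent.LieClassical.OrthCore Cfsg.Agent.LieClassical.OrthTrans Cfsg.Agent.LieClassical.OrthFinite

variable {F : Type*} [Field F]

section Split

variable {V : Type*} [AddCommGroup V] [Module F V] {Q : QuadraticForm F V}

theorem finrank_map_subtype (W : Submodule F V) (U : Submodule F W) :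
    finrank F (U.map W.subtype) = finrank F U :=
  (LinearEquiv.finrank_eq (Submodule.equivMapOfInjective W.subtype (Submodule.subtype_injective _) U)).symm

/-- plus type: a totally singular subspace of half the dimension -/
def Pl (Q : QuadraticForm F V) : Prop :=
  ∃ U : Submodule F V, (∀ u ∈ U, Q u = 0) ∧ 2 * finrank F U = finrank F V

/-- orthogonal complement of two vectors -/
def hp (Q : QuadraticForm F V) (x y : V) : Submodule F V :=
  LinearMap.ker (polarBilin Q x) ⊓ LinearMap.ker (polarBilin Q y)

theorem mem_hp {x y v : V} : v ∈ hp Q x y ↔ polar Q x v = 0 ∧ polar Q y v = 0 := Iff.rfl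

theorem proj_mem_hp {x y : V} (h : Hyp Q x y) (v : V) : proj Q x y v ∈ hp Q x y :=
  ⟨polar_proj_left h v, polar_proj_right h v⟩

theorem polar_comp (W : Submodule F V) (a b : W) : polar (Q.comp W.subtype) a b = polar Q (a : V) (b : V) := rfl

theorem comp_apply (W : Submodule F V) (a : W) : (Q.comp W.subtype) a = Q (a : V) := rfl

theorem nondeg_hp (hQ : Nondeg Q) {x y : V} (h : Hyp Q x y) : Nondeg (Q.comp (hp Q x y).subtype) := by
  intro a ha
  apply Subtype.ext
  apply hQ
  intro v
  have h1 := ha ⟨proj Q x y v, proj_mem_hp h v⟩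
  rw [polar_comp] at h1
  have h2 := polar_proj_of_perp (mem_hp.1 a.2).1 (mem_hp.1 a.2).2 v
  rw [← h2]
  exact h1

/-- Splitting off a hyperbolic plane. -/
def splitEquiv {x y : V} (h : Hyp Q x y) : V ≃ₗ[F] (F × F) × hp Q x y where
  toFun v := ((polar Q y v, polar Q x v), ⟨proj Q x y v, proj_mem_hp h v⟩)
  map_add' u v := by
    refine Prod.ext (Prod.ext ?_ ?_) (Subtype.ext ?_)
    · exact polar_add_right _ _ _ _
    · exact polar_add_right _ _ _ _
    · change proj Q x y (u + v) = proj Q x y u + proj Q x y v
      simp only [proj, polar_add_right]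
      module
  map_smul' c v := by
    refine Prod.ext (Prod.ext ?_ ?_) (Subtype.ext ?_)
    · change polar Q y (c • v) = c * polar Q y v
      rw [polar_smul_right, smul_eq_mul]
    · change polar Q x (c • v) = c * polar Q x v
      rw [polar_smul_right, smul_eq_mul]
    · change proj Q x y (c • v) = c • proj Q x y v
      simp only [proj, polar_smul_right, smul_eq_mul]
      module
  invFun p := p.1.1 • x + p.1.2 • y + (p.2 : V)
  left_inv v := by
    change polar Q y v • x + polar Q x v • y + proj Q x y v = v
    rw [proj]; module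
  right_inv p := by
    obtain ⟨⟨a, b⟩, ⟨w, hw⟩⟩ := p
    obtain ⟨hw1, hw2⟩ := mem_hp.1 hw
    have e1 : polar Q y (a • x + b • y + w) = a := by
      rw [polar_add_right, polar_add_right, polar_smul_right, polar_smul_right, h.pair', h.polar_right, hw2]
      simp
    have e2 : polar Q x (a • x + b • y + w) = b := by
      rw [polar_add_right, polar_add_right, polar_smul_right, polar_smul_right, h.pair, h.polar_left, hw1]
      simp
    refine Prod.ext (Prod.ext ?_ ?_) (Subtype.ext ?_)
    · exact e1
    · exact e2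
    · change proj Q x y (a • x + b • y + w) = w
      rw [proj, e1, e2]; module

theorem splitEquiv_symm_apply {x y : V} (h : Hyp Q x y) (p : (F × F) × hp Q x y) :
    (splitEquiv h).symm p = p.1.1 • x + p.1.2 • y + (p.2 : V) := rfl

theorem Q_split {x y : V} (h : Hyp Q x y) (p : (F × F) × hp Q x y) :
    Q ((splitEquiv h).symm p) = p.1.1 * p.1.2 + Q (p.2 : V) := by
  obtain ⟨⟨a, b⟩, ⟨w, hw⟩⟩ := p
  obtain ⟨hw1, hw2⟩ := mem_hp.1 hw
  rw [splitEquiv_symm_apply]
  change Q (a • x + b • y + w) = a * b + Q w
  rw [Q_add, Q_add, QuadraticMap.map_smul, QuadraticMap.map_smul, h.left, h.right, polar_smul_left, polar_smul_right,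
    h.pair, polar_add_left, polar_smul_left, polar_smul_left, hw1, hw2]
  simp

theorem finrank_hp [FiniteDimensional F V] {x y : V} (h : Hyp Q x y) :
    finrank F (hp Q x y) + 2 = finrank F V := by
  have h1 := (splitEquiv h).finrank_eq
  rw [finrank_prod, finrank_prod, finrank_self] at h1
  omega

/-- The type does not change when a hyperbolic plane is split off. -/
theorem pl_hp_iff [FiniteDimensional F V] (hQ : Nondeg Q) {x y : V} (h : Hyp Q x y) :
    Pl (Q.comp (hp Q x y).subtype) ↔ Pl Q := by
  have hfr := finrank_hp h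
  constructor
  · rintro ⟨U, hU, hd⟩
    let W : Submodule F V := U.map (hp Q x y).subtype
    have hW : ∀ w ∈ W, Q w = 0 := by
      rintro _ ⟨u, hu, rfl⟩
      exact hU u hu
    have hWp : ∀ w ∈ W, w ∈ hp Q x y := by
      rintro _ ⟨u, hu, rfl⟩
      exact u.2
    have hWd : finrank F W = finrank F U :=
      finrank_map_subtype _ _
    refine ⟨W ⊔ Submodule.span F {x}, ?_, ?_⟩
    · intro w hw
      rw [Submodule.mem_sup] at hw
      obtain ⟨w', hw', z, hz, rfl⟩ := hw
      rw [Submodule.mem_span_singleton] at hz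
      obtain ⟨c, rfl⟩ := hz
      rw [Q_add, hW w' hw', QuadraticMap.map_smul, h.left, polar_smul_right, polar_comm, (mem_hp.1 (hWp w' hw')).1]
      simp
    · have hx : x ∉ W := by
        intro hx
        have h1 := (mem_hp.1 (hWp x hx)).2
        rw [h.pair'] at h1
        exact one_ne_zero h1
      have h2 := Cfsg.Agent.H884.SingMaxPlus.finrank_sup_span hx
      omega
  · rintro ⟨U, hU, hd⟩
    -- a totally singular `U₁` of the same dimension with `x ∈ U₁`
    obtain ⟨U₁, hU₁, hd₁, hx⟩ : ∃ U₁ : Submodule F V, (∀ u ∈ U₁, Q u = 0) ∧ 2 * finrank F U₁ = finrank F V ∧ x ∈ U₁ := by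
      by_cases hxU : x ∈ U
      · exact ⟨U, hU, hd, hxU⟩
      · let K : Submodule F V := U ⊓ LinearMap.ker (polarBilin Q x)
        have hK : ∀ u ∈ K, Q u = 0 := fun u hu => hU u hu.1
        have hxK : x ∉ K := fun hx => hxU hx.1
        have hKd : finrank F U ≤ finrank F K + 1 := by
          have h1 := LinearMap.finrank_range_add_finrank_ker ((polarBilin Q x).domRestrict U)
          have h2 : finrank F (LinearMap.range ((polarBilin Q x).domRestrict U)) ≤ 1 := by
            refine le_trans (Submodule.finrank_le _) ?_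
            rw [finrank_self]
          have h3 : finrank F (LinearMap.ker ((polarBilin Q x).domRestrict U)) = finrank F K := by
            have e1 : (LinearMap.ker ((polarBilin Q x).domRestrict U)).map U.subtype = K := by
              ext v
              rw [Submodule.mem_map]
              constructor
              · rintro ⟨u, hu, rfl⟩
                exact ⟨u.2, hu⟩
              · rintro ⟨hv1, hv2⟩
                exact ⟨⟨v, hv1⟩, hv2, rfl⟩
            rw [← e1]
            exact (finrank_map_subtype _ _).symm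
          omega
        have hsing : ∀ w ∈ K ⊔ Submodule.span F {x}, Q w = 0 := by
          intro w hw
          rw [Submodule.mem_sup] at hw
          obtain ⟨w', hw', z, hz, rfl⟩ := hw
          rw [Submodule.mem_span_singleton] at hz
          obtain ⟨c, rfl⟩ := hz
          have h4 : polar Q x w' = 0 := hw'.2
          rw [Q_add, hK w' hw', QuadraticMap.map_smul, h.left, polar_smul_right, polar_comm, h4]
          simp
        have h5 := Cfsg.Agent.H884.SingMaxPlus.finrank_sup_span hxK
        have h6 := Cfsg.Agent.H884.SingMaxPlus.two_mul_finrank_le hQ hsing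
        exact ⟨K ⊔ Submodule.span F {x}, hsing, by omega, Submodule.mem_sup_right (Submodule.mem_span_singleton_self x)⟩
    -- cut with `y^⊥`
    have hperp : ∀ u ∈ U₁, polar Q x u = 0 := by
      intro u hu
      have h1 := hU₁ (x + u) (U₁.add_mem hx hu)
      rw [Q_add, h.left, hU₁ u hu, zero_add, zero_add] at h1
      exact h1
    let K : Submodule F V := U₁ ⊓ LinearMap.ker (polarBilin Q y)
    have hKp : K ≤ hp Q x y := fun u hu => ⟨hperp u hu.1, hu.2⟩
    have hKd : finrank F U₁ ≤ finrank F K + 1 := by
      have h1 := LinearMap.finrank_range_add_finrank_ker ((polarBilin Q y).domRestrict U₁)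
      have h2 : finrank F (LinearMap.range ((polarBilin Q y).domRestrict U₁)) ≤ 1 := by
        refine le_trans (Submodule.finrank_le _) ?_
        rw [finrank_self]
      have h3 : finrank F (LinearMap.ker ((polarBilin Q y).domRestrict U₁)) = finrank F K := by
        have e1 : (LinearMap.ker ((polarBilin Q y).domRestrict U₁)).map U₁.subtype = K := by
          ext v
          rw [Submodule.mem_map]
          constructor
          · rintro ⟨u, hu, rfl⟩
            exact ⟨u.2, hu⟩
          · rintro ⟨hv1, hv2⟩
            exact ⟨⟨v, hv1⟩, hv2, rfl⟩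
        rw [← e1]
        exact (finrank_map_subtype _ _).symm
      omega
    let K' : Submodule F (hp Q x y) := K.comap (hp Q x y).subtype
    have hK' : ∀ u ∈ K', (Q.comp (hp Q x y).subtype) u = 0 := fun u hu => hU₁ _ hu.1
    have hK'd : finrank F K' = finrank F K := by
      have e1 : K'.map (hp Q x y).subtype = K := by
        rw [Submodule.map_comap_subtype]
        exact inf_eq_right.2 hKp
      rw [← e1]
      exact (finrank_map_subtype _ _).symm
    have h7 := Cfsg.Agent.H884.SingMaxPlus.two_mul_finrank_le (nondeg_hp hQ h) hK'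
    exact ⟨K', hK', by omega⟩

end Split

/-! ### Anisotropic planes -/

section Planes

variable {V V' : Type*} [AddCommGroup V] [Module F V] [AddCommGroup V'] [Module F V']
variable {Q : QuadraticForm F V} {Q' : QuadraticForm F V'}

theorem nondegenerate_polarBilin (hQ : Nondeg Q) : (polarBilin Q).Nondegenerate := by
  refine ⟨fun x hx => hQ x hx, fun x hx => hQ x fun y => ?_⟩
  rw [polar_comm]
  exact hx y

theorem isSymm_polarBilin (Q : QuadraticForm F V) :
    LinearMap.BilinForm.IsSymm (polarBilin Q : LinearMap.BilinForm F V) :=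
  ⟨fun _ _ => polar_comm _ _ _⟩

theorem not_isSquare_neg_det [Finite F] (h2 : (2 : F) ≠ 0) [FiniteDimensional F V] (hQ : Nondeg Q)
    (hd : finrank F V = 2) (ha : ∀ v, Q v = 0 → v = 0) {κ : Type*} [Fintype κ] [DecidableEq κ] (b : Basis κ F V) :
    ¬ IsSquare (-(LinearMap.BilinForm.toMatrix b (polarBilin Q : LinearMap.BilinForm F V)).det) := by
  rintro ⟨s, hs⟩
  obtain ⟨X, hX1, hX2⟩ := Cfsg.Agent.ClassicalGeometry.Discriminant.exists_isotropic_half_of_det h2
    (polarBilin Q : LinearMap.BilinForm F V) (isSymm_polarBilin Q) (nondegenerate_polarBilin hQ) 1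
    (by rw [hd]) b s (by rw [pow_one]; linear_combination -hs)
  have hX0 : X = ⊥ := by
    rw [eq_bot_iff]
    intro x hx
    have h3 : polar Q x x = 0 := hX2 x hx x hx
    rw [polar_self'] at h3
    exact ha x ((mul_eq_zero.1 h3).resolve_left h2)
  rw [hX0, finrank_bot] at hX1
  exact zero_ne_one hX1

theorem isometry_of_diag (h2 : (2 : F) ≠ 0) {κ : Type*} [Fintype κ] [DecidableEq κ] {c : κ → F}
    (v : Basis κ F V) (v' : Basis κ F V')
    (hv : ∀ i j, polar Q (v i) (v j) = if i = j then c i else 0)
    (hv' : ∀ i j, polar Q' (v' i) (v' j) = if i = j then c i else 0) :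
    ∃ e : V ≃ₗ[F] V', ∀ x, Q' (e x) = Q x := by
  let e : V ≃ₗ[F] V' := v.equiv v' (Equiv.refl κ)
  have he : ∀ i, e (v i) = v' i := fun i => by simp [e]
  have hB : LinearMap.BilinForm.comp (polarBilin Q' : LinearMap.BilinForm F V') (e : V →ₗ[F] V') (e : V →ₗ[F] V') =
      (polarBilin Q : LinearMap.BilinForm F V) := by
    apply LinearMap.BilinForm.ext_basis v
    intro i j
    rw [LinearMap.BilinForm.comp_apply]
    change polar Q' (e (v i)) (e (v j)) = polar Q (v i) (v j)
    rw [he, he, hv, hv']
  refine ⟨e, fun x => ?_⟩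
  have h1 : polar Q' (e x) (e x) = polar Q x x := by
    have := congrArg (fun B : LinearMap.BilinForm F V => B x x) hB
    exact this
  rw [polar_self', polar_self'] at h1
  exact mul_left_cancel₀ h2 h1

theorem isometry_plane_odd [Finite F] (h2 : (2 : F) ≠ 0) [FiniteDimensional F V] [FiniteDimensional F V']
    (hQ : Nondeg Q) (hQ' : Nondeg Q') (hd : finrank F V = 2) (hd' : finrank F V' = 2)
    (ha : ∀ v, Q v = 0 → v = 0) (ha' : ∀ v, Q' v = 0 → v = 0) : ∃ e : V ≃ₗ[F] V', ∀ x, Q' (e x) = Q x := by
  let b := finBasis F V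
  let b' := finBasis F V'
  set d := (LinearMap.BilinForm.toMatrix b (polarBilin Q : LinearMap.BilinForm F V)).det with hdd
  set d' := (LinearMap.BilinForm.toMatrix b' (polarBilin Q' : LinearMap.BilinForm F V')).det with hdd'
  have hd0' : d' ≠ 0 := (LinearMap.BilinForm.nondegenerate_iff_det_ne_zero b').1 (nondegenerate_polarBilin hQ')
  obtain ⟨r, hr⟩ := Cfsg.Agent.ClassicalGeometry.SymmNormalForm.isSquare_div_of_not
    (not_isSquare_neg_det h2 hQ hd ha b) (not_isSquare_neg_det h2 hQ' hd' ha' b')
  rw [← hdd, ← hdd'] at hr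
  have hc : ∀ i : Fin 2, (![1, d'] : Fin 2 → F) i ≠ 0 := by
    intro i
    fin_cases i
    · exact one_ne_zero
    · exact hd0'
  obtain ⟨v, hv⟩ := Cfsg.Agent.ClassicalGeometry.Discriminant.exists_basis_diag h2
    (polarBilin Q : LinearMap.BilinForm F V) (isSymm_polarBilin Q) (nondegenerate_polarBilin hQ) b
    (![1, d'] : Fin 2 → F) (by rw [hd]; rfl) hc (r / d') (by
      rw [← hdd, Fin.prod_univ_two]
      change d = (r / d') ^ 2 * (1 * d')
      field_simp
      linear_combination hr)
  obtain ⟨v', hv'⟩ := Cfsg.Agent.ClassicalGeometry.Discriminant.exists_basis_diag h2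
    (polarBilin Q' : LinearMap.BilinForm F V') (isSymm_polarBilin Q') (nondegenerate_polarBilin hQ') b'
    (![1, d'] : Fin 2 → F) (by rw [hd']; rfl) hc 1 (by
      rw [← hdd', Fin.prod_univ_two]
      change d' = 1 ^ 2 * (1 * d')
      ring)
  exact isometry_of_diag h2 v v' hv hv'

/-- Artin–Schreier: `{x² + x}` has index two. -/
theorem artin_two [Finite F] (h2 : (2 : F) = 0) {a b : F} (ha : ∀ x : F, x ^ 2 + x ≠ a) (hb : ∀ x : F, x ^ 2 + x ≠ b) :
    ∃ s : F, s ^ 2 + s = a + b := by
  let f : F →+ F :=
    { toFun := fun x => x ^ 2 + x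
      map_zero' := by ring
      map_add' := fun x y => by
        have : (x + y) ^ 2 + (x + y) = x ^ 2 + x + (y ^ 2 + y) + 2 * (x * y) := by ring
        rw [this, h2, zero_mul, add_zero] }
  have hker : Nat.card f.ker = 2 := by
    have h1 : (f.ker : Set F) = {0, 1} := by
      ext x
      simp only [SetLike.mem_coe, AddMonoidHom.mem_ker, Set.mem_insert_iff, Set.mem_singleton_iff]
      change x ^ 2 + x = 0 ↔ _
      constructor
      · intro hx
        have h3 : x * (x + 1) = 0 := by linear_combination hx
        rcases mul_eq_zero.1 h3 with h4 | h4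
        · exact Or.inl h4
        · right
          linear_combination h4 - h2
      · rintro (rfl | rfl)
        · ring
        · linear_combination h2
    change Nat.card (f.ker : Set F) = 2
    rw [h1, Nat.card_coe_set_eq, Set.ncard_pair zero_ne_one]
  have hindex : f.range.index = 2 := by
    have h3 := AddSubgroup.card_mul_index f.ker
    rw [AddSubgroup.index_ker, hker] at h3
    have h4 := AddSubgroup.card_mul_index f.range
    have h5 : 0 < Nat.card f.range := Nat.card_pos
    have h6 : Nat.card f.range * f.range.index = Nat.card f.range * 2 := by rw [h4, ← h3, mul_comm]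
    exact Nat.eq_of_mul_eq_mul_left h5 h6
  have h7 := AddSubgroup.add_mem_iff_of_index_two hindex (a := a) (b := b)
  have ha' : a ∉ f.range := fun ⟨x, hx⟩ => ha x hx
  have hb' : b ∉ f.range := fun ⟨x, hx⟩ => hb x hx
  have h8 : a + b ∈ f.range := h7.2 (by simp [ha', hb'])
  obtain ⟨s, hs⟩ := h8
  exact ⟨s, hs⟩

theorem isometry_plane_two [Finite F] (h2 : (2 : F) = 0) [FiniteDimensional F V] [FiniteDimensional F V']
    (hQ : Nondeg Q) (hQ' : Nondeg Q') (hd : finrank F V = 2) (hd' : finrank F V' = 2)
    (ha : ∀ v, Q v = 0 → v = 0) (ha' : ∀ v, Q' v = 0 → v = 0) : ∃ e : V ≃ₗ[F] V', ∀ x, Q' (e x) = Q x := by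
  have hchar : CharP F 2 := CharTwo.of_one_ne_zero_of_two_eq_zero one_ne_zero h2
  rcases Cfsg.Agent.S0763.result Q hd (nondegenerate_polarBilin hQ) with ⟨v, w, hli, hv, -⟩ | ⟨v, w, μ, hli, hμ, hv, hw, hvw⟩
  · exact absurd (ha v hv) (hli.ne_zero 0)
  rcases Cfsg.Agent.S0763.result Q' hd' (nondegenerate_polarBilin hQ') with ⟨v', w', hli', hv', -⟩ |
    ⟨v', w', μ', hli', hμ', hv', hw', hvw'⟩
  · exact absurd (ha' v' hv') (hli'.ne_zero 0)
  obtain ⟨s, hs⟩ := artin_two h2 (a := μ) (b := μ') (fun x hx => hμ x (by linear_combination hx + μ * h2))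
    (fun x hx => hμ' x (by linear_combination hx + μ' * h2))
  set w₂ := w' + s • v' with hw₂
  have hli₂ : LinearIndependent F ![v', w₂] := by
    rw [LinearIndependent.pair_iff] at hli' ⊢
    intro a b hab
    have h3 : (a + b * s) • v' + b • w' = 0 := by
      rw [← hab, hw₂]; module
    obtain ⟨h4, h5⟩ := hli' _ _ h3
    refine ⟨?_, h5⟩
    rw [h5, zero_mul, add_zero] at h4
    exact h4
  have hQw₂ : Q' w₂ = μ := by
    rw [hw₂, Q_add, QuadraticMap.map_smul, hw', hv', polar_smul_right, polar_comm, hvw']
    simp only [smul_eq_mul, mul_one]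
    linear_combination hs + μ' * h2
  have hpw₂ : polar Q' v' w₂ = 1 := by
    rw [hw₂, polar_add_right, hvw', polar_smul_right, polar_self', h2]
    simp
  let b : Basis (Fin 2) F V := basisOfLinearIndependentOfCardEqFinrank hli (by rw [hd]; rfl)
  let b' : Basis (Fin 2) F V' := basisOfLinearIndependentOfCardEqFinrank hli₂ (by rw [hd']; rfl)
  have hb : ∀ i, b i = ![v, w] i := fun i => by simp [b]
  have hb' : ∀ i, b' i = ![v', w₂] i := fun i => by simp [b']
  let e : V ≃ₗ[F] V' := b.equiv b' (Equiv.refl _)
  have he : ∀ i, e (b i) = b' i := fun i => by simp [e]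
  refine ⟨e, fun x => ?_⟩
  rw [← b.sum_repr x, Fin.sum_univ_two, map_add, map_smul, map_smul, he, he, hb, hb, hb', hb']
  change Q' ((b.repr x) 0 • v' + (b.repr x) 1 • w₂) = Q ((b.repr x) 0 • v + (b.repr x) 1 • w)
  rw [Q_add, Q_add, QuadraticMap.map_smul, QuadraticMap.map_smul, QuadraticMap.map_smul, QuadraticMap.map_smul,
    polar_smul_left, polar_smul_left, polar_smul_right, polar_smul_right, hv, hw, hv', hQw₂, hvw, hpw₂]

end Planes

/-! ### The classification -/

section Classification

universe u v

theorem exists_isometry_aux [Finite F] (n : ℕ) : ∀ {V : Type u} {V' : Type v} [AddCommGroup V] [Module F V]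
    [AddCommGroup V'] [Module F V'] [FiniteDimensional F V] [FiniteDimensional F V']
    {Q : QuadraticForm F V} {Q' : QuadraticForm F V'} (_ : Nondeg Q) (_ : Nondeg Q')
    (_ : finrank F V = 2 * n) (_ : finrank F V' = 2 * n) (_ : Pl Q ↔ Pl Q'),
    ∃ e : V ≃ₗ[F] V', ∀ x, Q' (e x) = Q x := by
  induction n with
  | zero =>
    intro V V' _ _ _ _ _ _ Q Q' hQ hQ' hd hd' _
    have h1 : Subsingleton V := finrank_zero_iff.1 (by simpa using hd)
    have h2 : Subsingleton V' := finrank_zero_iff.1 (by simpa using hd')
    refine ⟨LinearEquiv.ofFinrankEq V V' (by rw [hd, hd']), fun x => ?_⟩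
    rw [Subsingleton.elim (LinearEquiv.ofFinrankEq V V' (by rw [hd, hd']) x) 0, Subsingleton.elim x 0,
      QuadraticMap.map_zero, QuadraticMap.map_zero]
  | succ n ih =>
    intro V V' _ _ _ _ _ _ Q Q' hQ hQ' hd hd' hpl
    -- an anisotropic space has dimension two, and is not of plus type
    have key : ∀ {W : Type u} [AddCommGroup W] [Module F W] [FiniteDimensional F W] {R : QuadraticForm F W},
        finrank F W = 2 * (n + 1) → (¬ ∃ u : W, u ≠ 0 ∧ R u = 0) → finrank F W = 2 ∧ ¬ Pl R := by
      intro W _ _ _ R hW han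
      push Not at han
      have h1 : finrank F W < 3 := by
        by_contra hge
        obtain ⟨w, -, hw0, hw⟩ := exists_sing_mem (Q := R) (⊤ : Submodule F W) (by rw [finrank_top]; omega)
        exact han w hw0 hw
      refine ⟨by omega, ?_⟩
      rintro ⟨U, hU, hUd⟩
      have hU0 : U ≠ ⊥ := by
        rintro rfl
        rw [finrank_bot] at hUd
        omega
      obtain ⟨u, hu, hu0⟩ := Submodule.exists_mem_ne_zero_of_ne_bot hU0
      exact han u hu0 (hU u hu)
    have key' : ∀ {W : Type v} [AddCommGroup W] [Module F W] [FiniteDimensional F W] {R : QuadraticForm F W},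
        finrank F W = 2 * (n + 1) → (¬ ∃ u : W, u ≠ 0 ∧ R u = 0) → finrank F W = 2 ∧ ¬ Pl R := by
      intro W _ _ _ R hW han
      push Not at han
      have h1 : finrank F W < 3 := by
        by_contra hge
        obtain ⟨w, -, hw0, hw⟩ := exists_sing_mem (Q := R) (⊤ : Submodule F W) (by rw [finrank_top]; omega)
        exact han w hw0 hw
      refine ⟨by omega, ?_⟩
      rintro ⟨U, hU, hUd⟩
      have hU0 : U ≠ ⊥ := by
        rintro rfl
        rw [finrank_bot] at hUd
        omega
      obtain ⟨u, hu, hu0⟩ := Submodule.exists_mem_ne_zero_of_ne_bot hU0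
      exact han u hu0 (hU u hu)
    have plane : ∀ {u : V}, finrank F V = 2 → u ≠ 0 → Q u = 0 → Pl Q := by
      intro u h1 hu0 hu
      refine ⟨Submodule.span F {u}, ?_, by rw [finrank_span_singleton hu0, h1]⟩
      intro z hz
      rw [Submodule.mem_span_singleton] at hz
      obtain ⟨c, rfl⟩ := hz
      rw [QuadraticMap.map_smul, hu, smul_zero]
    have plane' : ∀ {u : V'}, finrank F V' = 2 → u ≠ 0 → Q' u = 0 → Pl Q' := by
      intro u h1 hu0 hu
      refine ⟨Submodule.span F {u}, ?_, by rw [finrank_span_singleton hu0, h1]⟩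
      intro z hz
      rw [Submodule.mem_span_singleton] at hz
      obtain ⟨c, rfl⟩ := hz
      rw [QuadraticMap.map_smul, hu, smul_zero]
    by_cases hs : ∃ u : V, u ≠ 0 ∧ Q u = 0
    · by_cases hs' : ∃ u : V', u ≠ 0 ∧ Q' u = 0
      · obtain ⟨x, hx0, hx⟩ := hs
        obtain ⟨x', hx0', hx'⟩ := hs'
        obtain ⟨y, hxy⟩ := exists_hyp hQ hx hx0
        obtain ⟨y', hxy'⟩ := exists_hyp hQ' hx' hx0'
        have h1 := finrank_hp hxy
        have h2 := finrank_hp hxy'
        obtain ⟨e, he⟩ := ih (nondeg_hp hQ hxy) (nondeg_hp hQ' hxy') (by omega) (by omega)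
          ((pl_hp_iff hQ hxy).trans (hpl.trans (pl_hp_iff hQ' hxy').symm))
        refine ⟨(splitEquiv hxy).trans (((LinearEquiv.refl F (F × F)).prodCongr e).trans (splitEquiv hxy').symm),
          fun v => ?_⟩
        rw [LinearEquiv.trans_apply, LinearEquiv.trans_apply, Q_split]
        have h3 : Q v = Q ((splitEquiv hxy).symm (splitEquiv hxy v)) := by rw [LinearEquiv.symm_apply_apply]
        rw [h3, Q_split]
        have h4 := he (splitEquiv hxy v).2
        rw [comp_apply, comp_apply] at h4
        rw [← h4]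
        rfl
      · obtain ⟨h1, h2⟩ := key' hd' hs'
        obtain ⟨u, hu0, hu⟩ := hs
        exact absurd (hpl.1 (plane (by omega) hu0 hu)) h2
    · obtain ⟨h1, h2⟩ := key hd hs
      by_cases hs' : ∃ u : V', u ≠ 0 ∧ Q' u = 0
      · obtain ⟨u, hu0, hu⟩ := hs'
        exact absurd (hpl.2 (plane' (by omega) hu0 hu)) h2
      · push Not at hs hs'
        have ha : ∀ v, Q v = 0 → v = 0 := fun v hv => by
          by_contra h0
          exact hs v h0 hv
        have ha' : ∀ v, Q' v = 0 → v = 0 := fun v hv => by
          by_contra h0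
          exact hs' v h0 hv
        by_cases h20 : (2 : F) = 0
        · exact isometry_plane_two h20 hQ hQ' h1 (by omega) ha ha'
        · exact isometry_plane_odd h20 hQ hQ' h1 (by omega) ha ha'

/-- **Even-dimensional nondegenerate quadratic spaces over a finite field are classified by dimension and type.** -/
theorem exists_isometry [Finite F] {V : Type u} {V' : Type v} [AddCommGroup V] [Module F V]
    [AddCommGroup V'] [Module F V'] [FiniteDimensional F V] [FiniteDimensional F V']
    {Q : QuadraticForm F V} {Q' : QuadraticForm F V'} (hQ : Nondeg Q) (hQ' : Nondeg Q')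
    (he : Even (finrank F V)) (hd : finrank F V = finrank F V') (hpl : Pl Q ↔ Pl Q') :
    ∃ e : V ≃ₗ[F] V', ∀ x, Q' (e x) = Q x := by
  obtain ⟨n, hn⟩ := he
  exact exists_isometry_aux n hQ hQ' (by omega) (by omega) hpl

end Classification

end Cfsg.Agent.H932
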