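import Cfsg.Agent.ClassicalGeometry.OmegaIndex
import Cfsg.Prelude.Def_GeometricClasses

/-!
# The spinor sign of an isometry of order two, odd characteristic (helper932)

`Q` a quadratic form on `ι → F`, `F` finite of odd characteristic, `g` an isometry.

* `spinor_orth` : `g` is `-1` on pairwise orthogonal non-singular vectors `w 0, …, w (k-1)` and trivial on their
  orthogonal space: `spinorSign Q 1 g = (-1)^k χ(∏ Q (w i))`, `det g = (-1)^k`;
* `spinor_gram` : `g * g = 1`, `v : Fin k → ker (g + 1)` with Gram determinant `D ≠ 0`, `dim ker (g + 1) ≤ k`: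
  `spinorSign Q 1 g = (-1)^k χ(2^k D)`;
* `spinor_gram'` : the dimension bound follows from vectors in `ker (g - 1)`;
* `isSquare_of_mem` : if moreover `g ∈ Ω(Q)` (`omegaGL`), then `k` is even and `D` is a square; `mem_of_isSquare` is the
  converse;
* `neg_one_mem_iff` : `-1 ∈ Ω(Q)` iff the dimension is even and the discriminant is a square.
-/

set_option autoImplicit false
set_option linter.unusedSectionVars false

namespace Cfsg.Agent.H932.Spinor

open QuadraticMap Matrix Cfsg.Agent.ClassicalGeometry.Reflection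
open Cfsg.Agent.ClassicalGeometry.SpinorSign Cfsg.Agent.ClassicalGeometry.OmegaIndex

variable {ι : Type} [Fintype ι] [DecidableEq ι] {F : Type*} [Field F] [Fintype F] [DecidableEq F]

/-- the action of an isometry -/
abbrev ac {Q : (ι → F) → F} (g : Cfsg.isometryGroup F Q) (x : ι → F) : ι → F :=
  ((g : Matrix.GeneralLinearGroup ι F) : Matrix ι ι F) *ᵥ x

theorem ac_mul {Q : (ι → F) → F} (g h : Cfsg.isometryGroup F Q) (x : ι → F) : ac (g * h) x = ac g (ac h x) :=
  coe_mul_mulVec Q g h x

theorem ac_reflIso (Q : QuadraticForm F (ι → F)) (v : ι → F) (hv : Q v ≠ 0) (x : ι → F) :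
    ac (reflIso Q v hv) x = x - ((Q v)⁻¹ * polar (⇑Q) v x) • v := by
  unfold ac
  rw [coe_reflIso, reflectionMatrix_mulVec]

theorem ac_add {Q : (ι → F) → F} (g : Cfsg.isometryGroup F Q) (x y : ι → F) : ac g (x + y) = ac g x + ac g y :=
  Matrix.mulVec_add _ _ _

theorem ac_smul {Q : (ι → F) → F} (g : Cfsg.isometryGroup F Q) (c : F) (x : ι → F) : ac g (c • x) = c • ac g x :=
  Matrix.mulVec_smul _ _ _

theorem polar_ac (Q : QuadraticForm F (ι → F)) (g : Cfsg.isometryGroup F (⇑Q)) (x y : ι → F) :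
    polar (⇑Q) (ac g x) (ac g y) = polar (⇑Q) x y :=
  polar_mulVec_of_isometry Q _ (fun x => (mem_isometryGroup_iff _ _).1 g.2 x) x y

theorem two_qc_sign (h2 : (2 : F) ≠ 0) (Q : QuadraticForm F (ι → F)) (v : ι → F) (hv : Q v ≠ 0) :
    ((spinorSign (⇑Q) 1 (reflIso Q v hv) : ℤˣ) : ℤ) = - quadraticChar F (Q v) := by
  classical
  rw [spinorSign_reflIso h2 Q one_ne_zero v hv, one_mul, quadraticChar_apply, quadraticCharFun, if_neg hv]
  by_cases h : IsSquare (Q v)
  · rw [if_pos h, if_pos h]; rfl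
  · rw [if_neg h, if_neg h]; rfl

/-- product of orthogonal reflections -/
theorem spinor_orth (h2 : (2 : F) ≠ 0) (Q : QuadraticForm F (ι → F)) {k : ℕ} (w : Fin k → ι → F)
    (hw : ∀ i, Q (w i) ≠ 0) (ho : ∀ i j, i ≠ j → polar (⇑Q) (w i) (w j) = 0) (g : Cfsg.isometryGroup F (⇑Q))
    (hg : ∀ i, ac g (w i) = - w i) (hg' : ∀ x, (∀ i, polar (⇑Q) (w i) x = 0) → ac g x = x) :
    ((spinorSign (⇑Q) 1 g : ℤˣ) : ℤ) = (-1) ^ k * quadraticChar F (∏ i, Q (w i)) ∧
      ((g : Matrix.GeneralLinearGroup ι F) : Matrix ι ι F).det = (-1) ^ k := by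
  induction k generalizing g with
  | zero =>
    have h1 : g = 1 := by
      apply isometryGroup_ext
      intro x
      have := hg' x (fun i => i.elim0)
      unfold ac at this
      rw [this]
      simp
    subst h1
    simp
  | succ k ih =>
    set r := reflIso Q (w 0) (hw 0) with hr
    have hrr : r * r = 1 := reflIso_mul_self Q (w 0) (hw 0)
    have hpol : polar (⇑Q) (w 0) (w 0) = 2 * Q (w 0) := polar_self' Q (w 0)
    obtain ⟨h3, h4⟩ := ih (fun i => w i.succ) (fun i => hw _) (fun i j hij => ho _ _ (fun h => hij (Fin.succ_injective _ h)))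
      (r * g) (fun i => by
        change ac (r * g) (w i.succ) = _
        rw [ac_mul, hg, hr, ac_reflIso, QuadraticMap.polar_neg_right, ho 0 i.succ (Fin.succ_ne_zero i).symm]
        simp) (fun x hx => by
        change ∀ i : Fin k, polar (⇑Q) (w i.succ) x = 0 at hx
        set a : F := polar (⇑Q) (w 0) x / (2 * Q (w 0)) with ha
        have hq0 := hw 0
        have ha' : a * (2 * Q (w 0)) = polar (⇑Q) (w 0) x := by
          rw [ha]; field_simp
        set y : ι → F := x - a • w 0 with hy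
        have hxy : x = a • w 0 + y := by rw [hy]; abel
        have h5 : ac g y = y := by
          apply hg'
          intro i
          rw [hy, QuadraticMap.polar_sub_right, QuadraticMap.polar_smul_right]
          refine Fin.cases ?_ (fun i => ?_) i
          · rw [hpol, smul_eq_mul, ha', sub_self]
          · rw [hx, ho i.succ 0 (Fin.succ_ne_zero i), smul_zero, sub_zero]
        have h6 : polar (⇑Q) (w 0) y = 0 := by
          rw [hy, QuadraticMap.polar_sub_right, QuadraticMap.polar_smul_right, hpol, smul_eq_mul, ha', sub_self]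
        rw [ac_mul, hxy, ac_add, ac_smul, hg, h5, hr, ac_reflIso, QuadraticMap.polar_add_right,
          QuadraticMap.polar_smul_right, QuadraticMap.polar_neg_right, hpol, h6, add_zero, smul_eq_mul]
        have h7 : (Q (w 0))⁻¹ * (a * -(2 * Q (w 0))) = - (2 * a) := by field_simp
        rw [h7, smul_neg, neg_smul, two_mul, add_smul]
        abel)
    have hgr : g = r * (r * g) := by rw [← mul_assoc, hrr, one_mul]
    constructor
    · have h8 := congrArg (fun z => ((spinorSign (⇑Q) 1 z : ℤˣ) : ℤ)) hgr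
      change ((spinorSign (⇑Q) 1 g : ℤˣ) : ℤ) = ((spinorSign (⇑Q) 1 (r * (r * g)) : ℤˣ) : ℤ) at h8
      rw [h8, map_mul, Units.val_mul, h3, hr, two_qc_sign h2, Fin.prod_univ_succ, map_mul, pow_succ]
      ring
    · have h8 := congrArg (fun z : Cfsg.isometryGroup F (⇑Q) =>
        ((z : Matrix.GeneralLinearGroup ι F) : Matrix ι ι F).det) hgr
      change ((g : Matrix.GeneralLinearGroup ι F) : Matrix ι ι F).det
        = (((r * (r * g) : Cfsg.isometryGroup F (⇑Q)) : Matrix.GeneralLinearGroup ι F) : Matrix ι ι F).det at h8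
      rw [h8]
      have h9 : (((r * (r * g) : Cfsg.isometryGroup F (⇑Q)) : Matrix.GeneralLinearGroup ι F) : Matrix ι ι F)
          = ((r : Matrix.GeneralLinearGroup ι F) : Matrix ι ι F) *
            (((r * g : Cfsg.isometryGroup F (⇑Q)) : Matrix.GeneralLinearGroup ι F) : Matrix ι ι F) := rfl
      rw [h9, Matrix.det_mul, h4, hr, det_reflIso, pow_succ]
      ring

/-- the `-1`-eigenspace -/
def em {Q : (ι → F) → F} (g : Cfsg.isometryGroup F Q) : Submodule F (ι → F) where
  carrier := {x | ac g x = -x}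
  add_mem' {x y} hx hy := by
    change ac g (x + y) = -(x + y)
    rw [ac_add, show ac g x = -x from hx, show ac g y = -y from hy]
    abel
  zero_mem' := by
    change ac g 0 = -0
    unfold ac
    simp
  smul_mem' c x hx := by
    change ac g (c • x) = -(c • x)
    rw [ac_smul, show ac g x = -x from hx, smul_neg]

/-- the `1`-eigenspace -/
def ep {Q : (ι → F) → F} (g : Cfsg.isometryGroup F Q) : Submodule F (ι → F) where
  carrier := {x | ac g x = x}
  add_mem' {x y} hx hy := by
    change ac g (x + y) = (x + y)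
    rw [ac_add, show ac g x = x from hx, show ac g y = y from hy]
  zero_mem' := by
    change ac g 0 = 0
    unfold ac
    simp
  smul_mem' c x hx := by
    change ac g (c • x) = (c • x)
    rw [ac_smul, show ac g x = x from hx]

theorem mem_em {Q : (ι → F) → F} {g : Cfsg.isometryGroup F Q} {x : ι → F} : x ∈ em g ↔ ac g x = -x := Iff.rfl

theorem mem_ep {Q : (ι → F) → F} {g : Cfsg.isometryGroup F Q} {x : ι → F} : x ∈ ep g ↔ ac g x = x := Iff.rfl

theorem polar_em_ep (h2 : (2 : F) ≠ 0) (Q : QuadraticForm F (ι → F)) {g : Cfsg.isometryGroup F (⇑Q)} {x y : ι → F}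
    (hx : x ∈ em g) (hy : y ∈ ep g) : polar (⇑Q) x y = 0 := by
  have h1 := polar_ac Q g x y
  rw [mem_em.1 hx, mem_ep.1 hy, QuadraticMap.polar_neg_left] at h1
  have h3 : 2 * polar (⇑Q) x y = 0 := by linear_combination -h1
  exact (mul_eq_zero.1 h3).resolve_left h2

/-- the Gram matrix -/
def gram (Q : (ι → F) → F) {k : ℕ} (v : Fin k → ι → F) : Matrix (Fin k) (Fin k) F :=
  Matrix.of fun i j => polar Q (v i) (v j)

theorem gram_mul (Q : QuadraticForm F (ι → F)) {k l : ℕ} (w : Fin l → ι → F) (v : Fin k → ι → F)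
    (M : Matrix (Fin k) (Fin l) F) (hM : ∀ i, v i = ∑ j, M i j • w j) :
    gram (⇑Q) v = M * gram (⇑Q) w * Mᵀ := by
  ext i j
  have h1 : ∀ x y : ι → F, polar (⇑Q) x y = polarBilin Q x y := fun x y => rfl
  have h3 : polarBilin Q (v i) (v j) = ∑ a, ∑ b, M i a * M j b * polarBilin Q (w a) (w b) := by
    have h4 : polarBilin Q (v i) (v j) = ∑ b, M j b * polarBilin Q (v i) (w b) := by
      conv_lhs => rw [hM j]
      rw [map_sum]
      refine Finset.sum_congr rfl fun b _ => ?_
      rw [map_smul, smul_eq_mul]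
    have h5 : ∀ b, polarBilin Q (v i) (w b) = ∑ a, M i a * polarBilin Q (w a) (w b) := by
      intro b
      have h6 : polarBilin Q (v i) (w b) = polarBilin Q (w b) (v i) := polar_comm _ _ _
      rw [h6]
      conv_lhs => rw [hM i]
      rw [map_sum]
      refine Finset.sum_congr rfl fun a _ => ?_
      rw [map_smul, smul_eq_mul]
      congr 1
      exact polar_comm _ _ _
    rw [h4, Finset.sum_comm]
    refine Finset.sum_congr rfl fun b _ => ?_
    rw [h5, Finset.mul_sum]
    refine Finset.sum_congr rfl fun a _ => ?_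
    ring
  change polarBilin Q (v i) (v j) = _
  rw [h3, Matrix.mul_apply, Finset.sum_comm]
  refine Finset.sum_congr rfl fun b _ => ?_
  rw [Matrix.mul_apply, Finset.sum_mul]
  refine Finset.sum_congr rfl fun a _ => ?_
  rw [Matrix.transpose_apply]
  change _ = M i a * polarBilin Q (w a) (w b) * M j b
  ring

theorem linInd_of_gram (Q : QuadraticForm F (ι → F)) {k : ℕ} {v : Fin k → ι → F} (hD : (gram (⇑Q) v).det ≠ 0) :
    LinearIndependent F v := by
  rw [Fintype.linearIndependent_iff]
  intro c hc i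
  have h1 : (gram (⇑Q) v) *ᵥ c = 0 := by
    funext j
    rw [Matrix.mulVec, dotProduct]
    have h3 : polarBilin Q (v j) (∑ i, c i • v i) = 0 := by rw [hc, map_zero]
    rw [map_sum] at h3
    rw [Pi.zero_apply, ← h3]
    refine Finset.sum_congr rfl fun a _ => ?_
    rw [map_smul, smul_eq_mul, mul_comm]
    rfl
  have h4 := Matrix.eq_zero_of_mulVec_eq_zero hD h1
  exact congrFun h4 i

open Classical in
/-- **The spinor sign of an isometry of order two.** -/
theorem spinor_gram (h2 : (2 : F) ≠ 0) (Q : QuadraticForm F (ι → F)) (g : Cfsg.isometryGroup F (⇑Q))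
    (hgg : g * g = 1) {k : ℕ} (v : Fin k → ι → F) (hv : ∀ i, ac g (v i) = - v i)
    (hD : (gram (⇑Q) v).det ≠ 0) (hk : Module.finrank F (em g) ≤ k) :
    ((spinorSign (⇑Q) 1 g : ℤˣ) : ℤ) = (-1) ^ k * quadraticChar F (2 ^ k * (gram (⇑Q) v).det) ∧
      ((g : Matrix.GeneralLinearGroup ι F) : Matrix ι ι F).det = (-1) ^ k := by
  have hli := linInd_of_gram Q hD
  have hli' : LinearIndependent F (fun i => (⟨v i, hv i⟩ : em g)) := by
    apply LinearIndependent.of_comp (em g).subtype
    exact hli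
  have hk' : Module.finrank F (em g) = k := by
    apply le_antisymm hk
    have := hli'.fintype_card_le_finrank
    rwa [Fintype.card_fin] at this
  -- orthogonal basis of the eigenspace
  have hinv : Invertible (2 : F) := invertibleOfNonzero h2
  let B : LinearMap.BilinForm F (em g) := (polarBilin Q).compl₁₂ (em g).subtype (em g).subtype
  have hB : ∀ x y : em g, B x y = polar (⇑Q) (x : ι → F) y := fun x y => rfl
  have hsymm : LinearMap.IsSymm B := ⟨fun x y => by
    change B x y = B y x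
    rw [hB, hB, polar_comm]⟩
  obtain ⟨w0, hw0'⟩ := LinearMap.BilinForm.exists_orthogonal_basis (B := B) hsymm
  have hw0 : ∀ i j, i ≠ j → B (w0 i) (w0 j) = 0 := fun i j hij => hw0' hij
  let w : Fin k → ι → F := fun i => ((w0 (Fin.cast hk'.symm i) : em g) : ι → F)
  have hw1 : ∀ i j, i ≠ j → polar (⇑Q) (w i) (w j) = 0 := by
    intro i j hij
    have := hw0 (Fin.cast hk'.symm i) (Fin.cast hk'.symm j) (fun h => hij (by simpa using h))
    rwa [hB] at this
  have hwm : ∀ i, ac g (w i) = - w i := fun i => (w0 (Fin.cast hk'.symm i) : em g).2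
  -- coordinates
  have hM : ∃ M : Matrix (Fin k) (Fin k) F, ∀ i, v i = ∑ j, M i j • w j := by
    refine ⟨Matrix.of fun i j => w0.repr ⟨v i, hv i⟩ (Fin.cast hk'.symm j), fun i => ?_⟩
    have h3 := w0.sum_repr ⟨v i, hv i⟩
    have h4 := congrArg (em g).subtype h3
    rw [map_sum] at h4
    simp only [map_smul, Submodule.subtype_apply] at h4
    rw [← h4]
    refine Fintype.sum_equiv (finCongr hk') _ _ fun a => ?_
    rfl
  obtain ⟨M, hM⟩ := hM
  have hG := gram_mul Q w v M hM
  have hdet : (gram (⇑Q) v).det = M.det ^ 2 * (gram (⇑Q) w).det := by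
    rw [hG, Matrix.det_mul, Matrix.det_mul, Matrix.det_transpose]
    ring
  have hdiag : gram (⇑Q) w = Matrix.diagonal fun i => 2 * Q (w i) := by
    ext i j
    by_cases hij : i = j
    · subst hij
      rw [Matrix.diagonal_apply_eq]
      exact polar_self' Q (w i)
    · rw [Matrix.diagonal_apply_ne _ hij]
      exact hw1 i j hij
  have hdw : (gram (⇑Q) w).det = 2 ^ k * ∏ i, Q (w i) := by
    rw [hdiag, Matrix.det_diagonal, Finset.prod_mul_distrib, Finset.prod_const, Finset.card_univ, Fintype.card_fin]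
  have hM0 : M.det ≠ 0 := by
    intro h
    rw [hdet, h] at hD
    simp at hD
  have hw0' : ∏ i, Q (w i) ≠ 0 := by
    intro h
    rw [hdet, hdw, h] at hD
    simp at hD
  have hq : ∀ i, Q (w i) ≠ 0 := fun i => (Finset.prod_ne_zero_iff.1 hw0') i (Finset.mem_univ i)
  -- the orthogonal space of the `w i` is fixed
  have hsp : ∀ x ∈ em g, x ∈ Submodule.span F (Set.range w) := by
    intro x hx
    have h3 := w0.sum_repr ⟨x, hx⟩
    have h4 := congrArg (em g).subtype h3
    rw [map_sum] at h4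
    simp only [map_smul, Submodule.subtype_apply] at h4
    rw [← h4]
    refine Submodule.sum_mem _ fun a _ => Submodule.smul_mem _ _ (Submodule.subset_span ⟨Fin.cast hk' a, ?_⟩)
    rfl
  have hfix : ∀ x, (∀ i, polar (⇑Q) (w i) x = 0) → ac g x = x := by
    intro x hx
    -- `x - g x` lies in the eigenspace and is orthogonal to it
    have h3 : x - ac g x ∈ em g := by
      rw [mem_em]
      have h4 : ac g (ac g x) = x := by
        rw [← ac_mul, hgg]
        unfold ac
        simp
      have h5 : ac g (x - ac g x) = ac g x - ac g (ac g x) := Matrix.mulVec_sub _ _ _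
      rw [h5, h4]
      abel
    have h6 : ∀ i, polar (⇑Q) (w i) (x - ac g x) = 0 := by
      intro i
      have h7 : polar (⇑Q) (w i) (ac g x) = - polar (⇑Q) (w i) x := by
        have h8 := polar_ac Q g (w i) x
        rw [hwm, QuadraticMap.polar_neg_left] at h8
        rw [← h8, neg_neg]
      rw [QuadraticMap.polar_sub_right, h7, hx]
      simp
    -- write it in the basis
    obtain ⟨c, hc⟩ := (Submodule.mem_span_range_iff_exists_fun F).1 (hsp _ h3)
    have h9 : ∀ i, c i = 0 := by
      intro i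
      have h10 := h6 i
      rw [← hc] at h10
      have h11 : polarBilin Q (w i) (∑ j, c j • w j) = c i * (2 * Q (w i)) := by
        rw [map_sum, Finset.sum_eq_single i]
        · rw [map_smul, smul_eq_mul]
          congr 1
          exact polar_self' Q (w i)
        · intro j _ hj
          rw [map_smul]
          change c j • polar (⇑Q) (w i) (w j) = 0
          rw [hw1 i j hj.symm, smul_zero]
        · intro h; exact absurd (Finset.mem_univ i) h
      change polarBilin Q (w i) (∑ j, c j • w j) = 0 at h10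
      rw [h11] at h10
      exact (mul_eq_zero.1 h10).resolve_right (mul_ne_zero h2 (hq i))
    have h12 : x - ac g x = 0 := by
      rw [← hc]
      exact Finset.sum_eq_zero fun i _ => by rw [h9, zero_smul]
    exact (sub_eq_zero.1 h12).symm
  obtain ⟨h13, h14⟩ := spinor_orth h2 Q w hq hw1 g hwm hfix
  refine ⟨?_, h14⟩
  rw [h13, hdet, hdw]
  congr 1
  have h15 : (2 : F) ^ k * (M.det ^ 2 * (2 ^ k * ∏ i, Q (w i))) = (2 ^ k * M.det) ^ 2 * ∏ i, Q (w i) := by ring
  rw [h15, map_mul, quadraticChar_sq_one' (mul_ne_zero (pow_ne_zero _ h2) hM0), one_mul]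

/-- the dimension bound from vectors in the other eigenspace -/
theorem finrank_em_le (h2 : (2 : F) ≠ 0) (Q : QuadraticForm F (ι → F)) (g : Cfsg.isometryGroup F (⇑Q)) {k l : ℕ}
    (u : Fin l → ι → F) (hu : ∀ i, ac g (u i) = u i) (hD : (gram (⇑Q) u).det ≠ 0) (hkl : Fintype.card ι ≤ k + l) :
    Module.finrank F (em g) ≤ k := by
  have hli := linInd_of_gram Q hD
  have hli' : LinearIndependent F (fun i => (⟨u i, hu i⟩ : ep g)) := by
    apply LinearIndependent.of_comp (ep g).subtype
    exact hli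
  have h1 : l ≤ Module.finrank F (ep g) := by
    have := hli'.fintype_card_le_finrank
    rwa [Fintype.card_fin] at this
  have h3 : em g ⊓ ep g = ⊥ := by
    rw [eq_bot_iff]
    rintro x ⟨hx, hx'⟩
    have h4 : -x = x := (mem_em.1 hx).symm.trans (mem_ep.1 hx')
    have h5 : (2 : F) • x = 0 := by
      rw [two_smul]
      nth_rewrite 1 [← h4]
      abel
    exact (smul_eq_zero.1 h5).resolve_left h2
  have h6 := Submodule.finrank_sup_add_finrank_inf_eq (em g) (ep g)
  rw [h3, finrank_bot, add_zero] at h6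
  have h7 : Module.finrank F ((em g ⊔ ep g : Submodule F (ι → F))) ≤ Fintype.card ι := by
    refine (Submodule.finrank_le _).trans ?_
    rw [Module.finrank_fintype_fun_eq_card]
  omega

open Classical in
/-- **The spinor sign of an isometry of order two**, with vectors in both eigenspaces. -/
theorem spinor_gram' (h2 : (2 : F) ≠ 0) (Q : QuadraticForm F (ι → F)) (g : Cfsg.isometryGroup F (⇑Q))
    (hgg : g * g = 1) {k l : ℕ} (v : Fin k → ι → F) (hv : ∀ i, ac g (v i) = - v i)
    (hD : (gram (⇑Q) v).det ≠ 0) (u : Fin l → ι → F) (hu : ∀ i, ac g (u i) = u i)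
    (hD' : (gram (⇑Q) u).det ≠ 0) (hkl : Fintype.card ι ≤ k + l) :
    ((spinorSign (⇑Q) 1 g : ℤˣ) : ℤ) = (-1) ^ k * quadraticChar F (2 ^ k * (gram (⇑Q) v).det) ∧
      ((g : Matrix.GeneralLinearGroup ι F) : Matrix ι ι F).det = (-1) ^ k :=
  spinor_gram h2 Q g hgg v hv hD (finrank_em_le h2 Q g u hu hD' hkl)

/-- elements of `Ω` -/
theorem of_mem_omegaGL (h2 : (2 : F) ≠ 0) (Q : QuadraticForm F (ι → F))
    (hQ : (QuadraticMap.polarBilin Q).Nondegenerate) (hn : 2 ≤ Fintype.card ι) (g : Cfsg.isometryGroup F (⇑Q)) :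
    (g : Matrix.GeneralLinearGroup ι F) ∈ Cfsg.Geo.omegaGL (⇑Q) ↔
      ((g : Matrix.GeneralLinearGroup ι F) : Matrix ι ι F).det = 1 ∧ spinorSign (⇑Q) 1 g = 1 := by
  rw [← mem_Omega_iff h2 Q hQ hn one_ne_zero g]
  unfold Cfsg.Geo.omegaGL
  constructor
  · rintro ⟨x, hx, hxg⟩
    have : x = g := Subtype.ext hxg
    rwa [← this]
  · intro h
    exact ⟨g, h, rfl⟩

/-- **An element of order two of `Ω` has a `-1`-eigenspace with square discriminant.** -/
theorem isSquare_of_mem (h2 : (2 : F) ≠ 0) (Q : QuadraticForm F (ι → F))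
    (hQ : (QuadraticMap.polarBilin Q).Nondegenerate) (hn : 2 ≤ Fintype.card ι) (g : Cfsg.isometryGroup F (⇑Q))
    (hg : (g : Matrix.GeneralLinearGroup ι F) ∈ Cfsg.Geo.omegaGL (⇑Q))
    (hgg : g * g = 1) {k : ℕ} (v : Fin k → ι → F) (hv : ∀ i, ac g (v i) = - v i)
    (hD : (gram (⇑Q) v).det ≠ 0) (hk : Module.finrank F (em g) ≤ k) :
    Even k ∧ IsSquare (gram (⇑Q) v).det := by
  obtain ⟨h3, h4⟩ := spinor_gram h2 Q g hgg v hv hD hk
  obtain ⟨h5, h6⟩ := (of_mem_omegaGL h2 Q hQ hn g).1 hg
  have hev : Even k := by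
    rw [h5] at h4
    by_contra hodd
    rw [Nat.not_even_iff_odd] at hodd
    rw [hodd.neg_one_pow] at h4
    apply h2
    linear_combination h4
  refine ⟨hev, ?_⟩
  rw [h6, hev.neg_one_pow, one_mul, Units.val_one] at h3
  obtain ⟨m, hm⟩ := hev
  have h7 : (2 : F) ^ k * (gram (⇑Q) v).det ≠ 0 := mul_ne_zero (pow_ne_zero _ h2) hD
  have h8 : IsSquare ((2 : F) ^ k * (gram (⇑Q) v).det) := (quadraticChar_one_iff_isSquare h7).1 h3.symm
  obtain ⟨c, hc⟩ := h8
  refine ⟨c / 2 ^ m, ?_⟩
  have h9 : (2 : F) ^ k = 2 ^ m * 2 ^ m := by rw [← pow_add, ← hm]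
  rw [h9] at hc
  have h10 : (2 : F) ^ m ≠ 0 := pow_ne_zero _ h2
  field_simp
  linear_combination hc

/-- converse: an isometry of order two with `-1`-eigenspace of even dimension and square discriminant is in `Ω` -/
theorem mem_of_isSquare (h2 : (2 : F) ≠ 0) (Q : QuadraticForm F (ι → F))
    (hQ : (QuadraticMap.polarBilin Q).Nondegenerate) (hn : 2 ≤ Fintype.card ι) (g : Cfsg.isometryGroup F (⇑Q))
    (hgg : g * g = 1) {k : ℕ} (v : Fin k → ι → F) (hv : ∀ i, ac g (v i) = - v i)
    (hD : (gram (⇑Q) v).det ≠ 0) (hk : Module.finrank F (em g) ≤ k) (hev : Even k)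
    (hsq : IsSquare (gram (⇑Q) v).det) : (g : Matrix.GeneralLinearGroup ι F) ∈ Cfsg.Geo.omegaGL (⇑Q) := by
  obtain ⟨h3, h4⟩ := spinor_gram h2 Q g hgg v hv hD hk
  rw [of_mem_omegaGL h2 Q hQ hn g]
  rw [hev.neg_one_pow] at h4 h3
  refine ⟨h4, ?_⟩
  rw [one_mul] at h3
  have h7 : (2 : F) ^ k * (gram (⇑Q) v).det ≠ 0 := mul_ne_zero (pow_ne_zero _ h2) hD
  have h8 : IsSquare ((2 : F) ^ k * (gram (⇑Q) v).det) := by
    obtain ⟨m, hm⟩ := hev
    obtain ⟨c, hc⟩ := hsq
    refine ⟨2 ^ m * c, ?_⟩
    have h9 : (2 : F) ^ k = 2 ^ m * 2 ^ m := by rw [← pow_add, ← hm]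
    rw [h9, hc]
    ring
  rw [(quadraticChar_one_iff_isSquare h7).2 h8] at h3
  exact Units.ext h3

/-- `-1` as an isometry -/
def negIso (Q : QuadraticForm F (ι → F)) : Cfsg.isometryGroup F (⇑Q) :=
  ⟨-1, (mem_isometryGroup_iff _ _).2 fun x => by
    rw [Units.val_neg, Units.val_one, Matrix.neg_mulVec, Matrix.one_mulVec, QuadraticMap.map_neg]⟩

theorem ac_negIso (Q : QuadraticForm F (ι → F)) (x : ι → F) : ac (negIso Q) x = -x := by
  unfold ac negIso
  rw [Units.val_neg, Units.val_one, Matrix.neg_mulVec, Matrix.one_mulVec]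

/-- **`-1 ∈ Ω(Q)` iff the dimension is even and the discriminant is a square.** -/
theorem neg_one_mem_iff (h2 : (2 : F) ≠ 0) (Q : QuadraticForm F (ι → F))
    (hQ : (QuadraticMap.polarBilin Q).Nondegenerate) (hn : 2 ≤ Fintype.card ι) {k : ℕ} (hk : Fintype.card ι = k)
    (v : Fin k → ι → F) (hD : (gram (⇑Q) v).det ≠ 0) :
    (-1 : Matrix.GeneralLinearGroup ι F) ∈ Cfsg.Geo.omegaGL (⇑Q) ↔ Even k ∧ IsSquare (gram (⇑Q) v).det := by
  have h1 : negIso Q * negIso Q = 1 := by
    apply Subtype.ext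
    change (-1 : Matrix.GeneralLinearGroup ι F) * -1 = 1
    rw [neg_mul_neg, one_mul]
  have h3 : Module.finrank F (em (negIso Q)) ≤ k := by
    refine (Submodule.finrank_le _).trans ?_
    rw [Module.finrank_fintype_fun_eq_card, hk]
  constructor
  · intro h
    exact isSquare_of_mem h2 Q hQ hn (negIso Q) h h1 v (fun i => ac_negIso Q _) hD h3
  · rintro ⟨h4, h5⟩
    exact mem_of_isSquare h2 Q hQ hn (negIso Q) h1 v (fun i => ac_negIso Q _) hD h3 h4 h5

end Cfsg.Agent.H932.Spinor
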