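import Cfsg.Agent.H912.TensForm4
import Cfsg.Agent.H912.TensForm3
import Cfsg.Agent.H925.OrthRed

/-!
Tensor decompositions of quadratic forms (H932).

* `quad_pure_eq_zero`: `H` irreducible, `n₁ < n₂`, both factor forms alternating: `Q` vanishes on pure tensors;
* `isFieldSubalgebra_quad`, `exists_field_of_two`: over the field with two elements a two-dimensional alternating
  factor gives a normalised field of degree two;
* `omegaGL_not_le_tensor`: `Ω` does not stabilise a tensor decomposition.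
-/

set_option autoImplicit false
set_option linter.unusedSectionVars false

namespace Cfsg.Agent.H932
open Cfsg Cfsg.Geo Matrix Cfsg.Agent.H919 Cfsg.Agent.H912
open scoped Kronecker

variable {ι : Type} [Fintype ι] [DecidableEq ι] {F : Type*} [Field F]

theorem pt_add_right {n₁ n₂ : ℕ} (v : Fin n₁ → F) (w w' : Fin n₂ → F) : pt v (w + w') = pt v w + pt v w' := by
  funext p; simp [pt, mul_add]

theorem pt_smul_right {n₁ n₂ : ℕ} (c : F) (v : Fin n₁ → F) (w : Fin n₂ → F) : pt v (c • w) = c • pt v w := by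
  funext p; simp [pt]; ring

/-- **Pure tensors are singular.** -/
theorem quad_pure_eq_zero [Finite F] {Q : (ι → F) → F} (hQ : IsNondegenerateQuadraticForm Q) {n₁ n₂ : ℕ} {ε₁ ε₂ : F}
    (hn : 0 < n₁) (hlt : n₁ < n₂)
    {f₁ : (Fin n₁ → F) → (Fin n₁ → F) → F} {f₂ : (Fin n₂ → F) → (Fin n₂ → F) → F}
    (h1 : HermForm (RingEquiv.refl F) ε₁ f₁) (h2' : HermForm (RingEquiv.refl F) ε₂ f₂)
    (halt1 : ∀ w, f₁ w w = 0) (halt2 : ∀ w, f₂ w w = 0)
    {e : ι ≃ Fin n₁ × Fin n₂} {P : GL ι F}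
    (h : IsTensorFormStructure (RingEquiv.refl F) (QuadraticMap.polar Q) f₁ f₂ e P)
    {H : Subgroup (GL ι F)} (hirr : ActsIrreducibly (matrixSet H)) (hI : H ≤ isometryGroup F Q)
    (hH : H ≤ tensorProductSubgroup n₁ n₂ e P) (v : Fin n₁ → F) (w : Fin n₂ → F) :
    Q ((P : Matrix ι ι F) *ᵥ ((fun a : Fin n₁ × Fin n₂ => v a.1 * w a.2) ∘ e)) = 0 := by
  change Q ((P : Matrix ι ι F) *ᵥ (pt v w ∘ e)) = 0
  obtain ⟨c, hc, hpt⟩ := form_pt h1 h2' h
  set φ : (Fin n₁ → F) → (Fin n₂ → F) → F := fun v w => Q ((P : Matrix ι ι F) *ᵥ (pt v w ∘ e)) with hφ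
  have hadd1 : ∀ v v' w, φ (v + v') w = φ v w + φ v' w := by
    intro v v' w
    have h3 := hpt v v' w w
    rw [halt2, mul_zero, mul_zero] at h3
    unfold QuadraticMap.polar at h3
    have h4 : (pt (v + v') w ∘ e : ι → F) = pt v w ∘ e + pt v' w ∘ e := by
      rw [pt_add_left]; rfl
    simp only [hφ]
    rw [h4, mulVec_add]
    linear_combination h3
  have hadd2 : ∀ v w w', φ v (w + w') = φ v w + φ v w' := by
    intro v w w'
    have h3 := hpt v v w w'
    rw [halt1, zero_mul, mul_zero] at h3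
    unfold QuadraticMap.polar at h3
    have h4 : (pt v (w + w') ∘ e : ι → F) = pt v w ∘ e + pt v w' ∘ e := by
      rw [pt_add_right]; rfl
    simp only [hφ]
    rw [h4, mulVec_add]
    linear_combination h3
  have hsmul1 : ∀ (r : F) v w, φ (r • v) w = r ^ 2 * φ v w := by
    intro r v w
    have h4 : (pt (r • v) w ∘ e : ι → F) = r • (pt v w ∘ e) := by
      rw [pt_smul_left]; rfl
    simp only [hφ]
    rw [h4, mulVec_smul, hQ.smul]
  have hsmul2 : ∀ (r : F) v w, φ v (r • w) = r ^ 2 * φ v w := by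
    intro r v w
    have h4 : (pt v (r • w) ∘ e : ι → F) = r • (pt v w ∘ e) := by
      rw [pt_smul_right]; rfl
    simp only [hφ]
    rw [h4, mulVec_smul, hQ.smul]
  have hz1 : ∀ w, φ 0 w = 0 := by
    intro w
    have := hsmul1 0 0 w
    simpa using this
  have hz2 : ∀ v, φ v 0 = 0 := by
    intro v
    have := hsmul2 0 v 0
    simpa using this
  have hsum1 : ∀ (s : Finset (Fin n₁)) (g : Fin n₁ → (Fin n₁ → F)) w, φ (∑ i ∈ s, g i) w = ∑ i ∈ s, φ (g i) w := by
    intro s g w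
    classical
    induction s using Finset.induction_on with
    | empty => simp [hz1]
    | insert a s ha ih => rw [Finset.sum_insert ha, Finset.sum_insert ha, hadd1, ih]
  have hbasis : ∀ v w, φ v w = ∑ i, v i ^ 2 * φ (Pi.single i 1) w := by
    intro v w
    conv_lhs => rw [show v = ∑ i, v i • (Pi.single i (1 : F) : Fin n₁ → F) by
      funext j
      simp [Finset.sum_apply, Pi.single_apply]]
    rw [hsum1]
    exact Finset.sum_congr rfl fun i _ => hsmul1 _ _ _
  let S : Submodule F (Fin n₂ → F) :=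
    { carrier := {w | ∀ v, φ v w = 0}
      add_mem' := fun {w w'} hw hw' v => by rw [hadd2, hw v, hw' v, add_zero]
      zero_mem' := fun v => hz2 v
      smul_mem' := fun c w hw v => by rw [hsmul2, hw v, mul_zero] }
  have hS : ∀ w, w ∈ S ↔ ∀ v, φ v w = 0 := fun w => Iff.rfl
  have hpol : ∀ g ∈ H, ∀ u v, QuadraticMap.polar Q ((g : Matrix ι ι F) *ᵥ u) ((g : Matrix ι ι F) *ᵥ v) =
      QuadraticMap.polar Q u v := fun g hg => H925.polar_iso (hI hg)
  rcases second_factor_irreducible hn hirr hH (S := S) (by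
    intro x hx a b hxa w hw
    rw [hS] at hw ⊢
    intro v
    obtain ⟨μ, hμ, hm1, hm2⟩ := isometry_factors hn (by omega) h1 h2' h (a := a) (b := b) (by
      rw [← hxa]; exact hpol x hx)
    have hinj : Function.Injective (a *ᵥ ·) := by
      intro x y hxy
      have hxy' : a *ᵥ x = a *ᵥ y := hxy
      by_contra hne
      obtain ⟨_, z, hz⟩ := h1.nondegenerate (x - y) (sub_ne_zero.mpr hne)
      apply hz
      have h5 := hm1 (x - y) z
      rw [mulVec_sub, hxy', sub_self, h1.zero_left] at h5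
      exact ((mul_eq_zero.mp h5.symm).resolve_left hμ)
    obtain ⟨v', rfl⟩ := (Finite.surjective_of_injective hinj) v
    have h6 := H925.mem_iso_iff.1 (hI hx) ((P : Matrix ι ι F) *ᵥ (pt v' w ∘ e))
    rw [hxa, tens_mulVec, kronecker_mulVec_pt] at h6
    have h7 : φ (a *ᵥ v') (b *ᵥ w) = φ v' w := h6
    change φ (a *ᵥ v') (b *ᵥ w) = 0
    rw [h7, hw v']) with hbot | htop
  · exfalso
    have hinj : Function.Injective (fun w : Fin n₂ → F => fun i : Fin n₁ => φ (Pi.single i 1) w) := by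
      intro w w' hww
      have h3 : ∀ i : Fin n₁, φ (Pi.single i 1) (w - w') = 0 := by
        intro i
        have h4 := congrFun hww i
        have h5 := hadd2 (Pi.single i 1) (w - w') w'
        rw [sub_add_cancel] at h5
        change φ (Pi.single i 1) w = φ (Pi.single i 1) w' at h4
        rw [h4] at h5
        linear_combination -h5
      have h4 : w - w' ∈ S := by
        rw [hS]
        intro v
        rw [hbasis]
        exact Finset.sum_eq_zero fun i _ => by rw [h3 i, mul_zero]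
      rw [hbot, Submodule.mem_bot] at h4
      exact sub_eq_zero.mp h4
    have := Fintype.ofFinite F
    have h5 := Fintype.card_le_of_injective _ hinj
    rw [Fintype.card_fun, Fintype.card_fun, Fintype.card_fin, Fintype.card_fin] at h5
    have h6 := (Nat.pow_le_pow_iff_right (Fintype.one_lt_card (α := F))).mp h5
    omega
  · have : w ∈ S := by rw [htop]; exact Submodule.mem_top
    exact this v

/-! ### Fields of degree two generated by one matrix -/

/-- `F[𝒥]`, where `𝒥² = s 𝒥 + t`. -/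
def quadAlg (J : Matrix ι ι F) (s t : F) (hJ : J * J = s • J + t • 1) : Subalgebra F (Matrix ι ι F) where
  carrier := {x | ∃ a b : F, x = a • 1 + b • J}
  mul_mem' := by
    rintro _ _ ⟨a, b, rfl⟩ ⟨c, d, rfl⟩
    refine ⟨a * c + b * d * t, a * d + b * c + b * d * s, ?_⟩
    have h1 : (a • (1 : Matrix ι ι F) + b • J) * (c • (1 : Matrix ι ι F) + d • J) =
        (a * c) • (1 : Matrix ι ι F) + (a * d + b * c) • J + (b * d) • (J * J) := by
      rw [add_mul, mul_add, mul_add]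
      simp only [Matrix.smul_mul, Matrix.mul_smul, Matrix.one_mul, Matrix.mul_one, smul_smul]
      module
    rw [h1, hJ]
    module
  add_mem' := by
    rintro _ _ ⟨a, b, rfl⟩ ⟨c, d, rfl⟩
    exact ⟨a + c, b + d, by module⟩
  algebraMap_mem' r := ⟨r, 0, by rw [Algebra.algebraMap_eq_smul_one, zero_smul, add_zero]⟩

theorem mem_quadAlg {J : Matrix ι ι F} {s t : F} {hJ : J * J = s • J + t • 1} {x : Matrix ι ι F} :
    x ∈ quadAlg J s t hJ ↔ ∃ a b : F, x = a • 1 + b • J := Iff.rfl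

theorem isFieldSubalgebra_quadAlg [Nonempty ι] {J : Matrix ι ι F} {s t : F} (hJ : J * J = s • J + t • 1)
    (hroot : ∀ x : F, x ^ 2 - s * x - t ≠ 0) : IsFieldSubalgebra 2 (quadAlg J s t hJ) := by
  have hns : ∀ c : F, J ≠ c • 1 := by
    intro c hc
    apply hroot c
    have h1 : (c * c) • (1 : Matrix ι ι F) = (s * c + t) • (1 : Matrix ι ι F) := by
      have h2 := hJ
      rw [hc, Matrix.smul_mul, Matrix.one_mul, smul_smul, smul_smul, ← add_smul] at h2
      exact h2
    obtain ⟨i⟩ := ‹Nonempty ι›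
    have h3 := congrFun (congrFun h1 i) i
    simp only [Matrix.smul_apply, Matrix.one_apply_eq, smul_eq_mul, mul_one] at h3
    linear_combination h3
  have hli : LinearIndependent F ![(1 : Matrix ι ι F), J] := by
    rw [LinearIndependent.pair_iff]
    intro a b hab
    have hb : b = 0 := by
      by_contra hb
      apply hns (-(b⁻¹ * a))
      have h1 : b • J = -(a • (1 : Matrix ι ι F)) := by
        rw [eq_neg_iff_add_eq_zero, add_comm]; exact hab
      have h2 : J = b⁻¹ • (b • J) := by rw [smul_smul, inv_mul_cancel₀ hb, one_smul]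
      rw [h2, h1, smul_neg, smul_smul, neg_smul]
    refine ⟨?_, hb⟩
    rw [hb, zero_smul, add_zero] at hab
    obtain ⟨i⟩ := ‹Nonempty ι›
    have h3 := congrFun (congrFun hab i) i
    simpa using h3
  refine ⟨?_, ?_, ?_⟩
  · rintro _ ⟨a, b, rfl⟩ _ ⟨c, d, rfl⟩
    simp only [add_mul, mul_add, Matrix.smul_mul, Matrix.mul_smul, Matrix.one_mul, Matrix.mul_one]
    module
  · rintro _ ⟨a, b, rfl⟩ hne
    have hN : a ^ 2 + a * b * s - b ^ 2 * t ≠ 0 := by
      intro h0
      by_cases hb : b = 0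
      · subst hb
        have ha : a = 0 := by
          have : a ^ 2 = 0 := by linear_combination h0
          exact pow_eq_zero_iff (two_ne_zero) |>.mp this
        apply hne
        rw [ha, zero_smul, zero_smul, add_zero]
      · apply hroot (-(a / b))
        field_simp
        linear_combination h0
    refine ⟨(a ^ 2 + a * b * s - b ^ 2 * t)⁻¹ • ((a + b * s) • 1 + (-b) • J), ?_, ?_⟩
    · exact Subalgebra.smul_mem _ (mem_quadAlg.mpr ⟨_, _, rfl⟩) _
    · rw [Matrix.mul_smul]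
      have h1 : (a • (1 : Matrix ι ι F) + b • J) * ((a + b * s) • 1 + (-b) • J) =
          (a * (a + b * s)) • (1 : Matrix ι ι F) + (b * s * b) • J - (b * b) • (J * J) := by
        rw [add_mul, mul_add, mul_add]
        simp only [Matrix.smul_mul, Matrix.mul_smul, Matrix.one_mul, Matrix.mul_one, smul_smul]
        module
      rw [h1, hJ]
      have h2 : (a * (a + b * s)) • (1 : Matrix ι ι F) + (b * s * b) • J - (b * b) • (s • J + t • 1) =
          (a ^ 2 + a * b * s - b ^ 2 * t) • (1 : Matrix ι ι F) := by module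
      rw [h2, smul_smul, inv_mul_cancel₀ hN, one_smul]
  · have h1 : Subalgebra.toSubmodule (quadAlg J s t hJ) = Submodule.span F (Set.range ![(1 : Matrix ι ι F), J]) := by
      ext x
      rw [Subalgebra.mem_toSubmodule, mem_quadAlg, Matrix.range_cons, Matrix.range_cons, Matrix.range_empty,
        Set.union_empty, Set.singleton_union, Submodule.mem_span_pair]
      constructor
      · rintro ⟨a, b, rfl⟩; exact ⟨a, b, rfl⟩
      · rintro ⟨a, b, rfl⟩; exact ⟨a, b, rfl⟩
    change Module.finrank F (Subalgebra.toSubmodule (quadAlg J s t hJ)) = 2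
    rw [h1, finrank_span_eq_card hli]
    rfl

/-! ### The field with two elements -/

theorem tens_add_left {n₁ n₂ : ℕ} (e : ι ≃ Fin n₁ × Fin n₂) (P : GL ι F) (a a' : Matrix (Fin n₁) (Fin n₁) F)
    (b : Matrix (Fin n₂) (Fin n₂) F) : tens e P (a + a') b = tens e P a b + tens e P a' b := by
  unfold tens
  rw [Matrix.add_kronecker, map_add, Matrix.mul_add, Matrix.add_mul]

theorem tens_smul_left {n₁ n₂ : ℕ} (e : ι ≃ Fin n₁ × Fin n₂) (P : GL ι F) (c : F) (a : Matrix (Fin n₁) (Fin n₁) F)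
    (b : Matrix (Fin n₂) (Fin n₂) F) : tens e P (c • a) b = c • tens e P a b := by
  unfold tens
  rw [Matrix.smul_kronecker, map_smul, Matrix.mul_smul, Matrix.smul_mul]

theorem eq_zero_or_one [Fintype F] (h2 : Fintype.card F = 2) (x : F) : x = 0 ∨ x = 1 := by
  by_cases hx : x = 0
  · exact Or.inl hx
  · right
    have := FiniteField.pow_card_sub_one_eq_one x hx
    rwa [h2, pow_one] at this

/-- Over the field with two elements, a matrix with `X² = X + 1`. -/
theorem two_classify [Fintype F] (h2 : Fintype.card F = 2) {X : Matrix (Fin 2) (Fin 2) F}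
    (hX : X * X = X + 1) : X = !![0, 1; 1, 1] ∨ X = !![0, 1; 1, 1] + 1 := by
  have h20 : (2 : F) = 0 := by
    have := FiniteField.cast_card_eq_zero F
    rw [h2] at this
    exact_mod_cast this
  have h11 : (1 : F) + 1 = 0 := by rw [one_add_one_eq_two]; exact h20
  obtain ⟨x, y, z, w, rfl⟩ : ∃ x y z w : F, X = !![x, y; z, w] :=
    ⟨X 0 0, X 0 1, X 1 0, X 1 1, by ext i j; fin_cases i <;> fin_cases j <;> rfl⟩
  have e00 : x * x + y * z = x + 1 := by
    simpa [Matrix.mul_apply, Fin.sum_univ_two] using congrFun (congrFun hX 0) 0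
  have e01 : x * y + y * w = y := by
    simpa [Matrix.mul_apply, Fin.sum_univ_two] using congrFun (congrFun hX 0) 1
  have hxx : x * x = x := by rcases eq_zero_or_one h2 x with rfl | rfl <;> simp
  have hyz : y * z = 1 := by linear_combination e00 - hxx
  have hy : y = 1 := (eq_zero_or_one h2 y).resolve_left (by rintro rfl; simp at hyz)
  have hz : z = 1 := (eq_zero_or_one h2 z).resolve_left (by rintro rfl; simp at hyz)
  subst hy hz
  have hw : w = 1 - x := by linear_combination e01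
  subst hw
  rcases eq_zero_or_one h2 x with rfl | rfl
  · left
    ext i j
    fin_cases i <;> fin_cases j <;> simp
  · right
    ext i j
    fin_cases i <;> fin_cases j <;> simp [h11]

/-- **Over the field with two elements a group stabilising a tensor decomposition with a factor of dimension two
normalises a field of degree two.** -/
theorem exists_field_of_two [Fintype F] (h2 : Fintype.card F = 2) {n₂ : ℕ} (hn2 : 0 < n₂)
    (e : ι ≃ Fin 2 × Fin n₂) (P : GL ι F) :
    ∃ K : Subalgebra F (Matrix ι ι F), IsFieldSubalgebra 2 K ∧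
      tensorProductSubgroup 2 n₂ e P ≤ subalgebraNormalizer K := by
  have h20 : (2 : F) = 0 := by
    have := FiniteField.cast_card_eq_zero F
    rw [h2] at this
    exact_mod_cast this
  have h11 : (1 : F) + 1 = 0 := by rw [one_add_one_eq_two]; exact h20
  have : Nonempty ι := ⟨e.symm (0, ⟨0, hn2⟩)⟩
  set X : Matrix (Fin 2) (Fin 2) F := !![0, 1; 1, 1] with hX
  have hXX : X * X = X + 1 := by
    ext i j
    fin_cases i <;> fin_cases j <;> simp [hX, Matrix.mul_apply, Fin.sum_univ_two, h11]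
  set J : Matrix ι ι F := tens e P X (1 : Matrix (Fin n₂) (Fin n₂) F) with hJdef
  have hJ : J * J = (1 : F) • J + (1 : F) • 1 := by
    rw [hJdef, tens_mul, hXX, mul_one, tens_add_left, tens_one, one_smul, one_smul]
  refine ⟨quadAlg J 1 1 hJ, isFieldSubalgebra_quadAlg hJ ?_, ?_⟩
  · intro x
    rcases eq_zero_or_one h2 x with rfl | rfl
    · simp
    · simp
  · intro g hg
    obtain ⟨a, b, hab⟩ := mem_tensorProductSubgroup_iff.mp hg
    have hinv : ((g⁻¹ : GL ι F) : Matrix ι ι F) = tens e P ((a⁻¹ : GL (Fin 2) F) : Matrix _ _ F)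
        ((b⁻¹ : GL (Fin n₂) F) : Matrix _ _ F) := by
      have h3 : (g : Matrix ι ι F) * tens e P ((a⁻¹ : GL (Fin 2) F) : Matrix _ _ F)
        ((b⁻¹ : GL (Fin n₂) F) : Matrix _ _ F) = 1 := by
        rw [hab, tens_mul, ← Units.val_mul, ← Units.val_mul, mul_inv_cancel, mul_inv_cancel, Units.val_one,
          Units.val_one, tens_one]
      calc ((g⁻¹ : GL ι F) : Matrix ι ι F) = ((g⁻¹ : GL ι F) : Matrix ι ι F) * ((g : Matrix ι ι F) *
            tens e P ((a⁻¹ : GL (Fin 2) F) : Matrix _ _ F) ((b⁻¹ : GL (Fin n₂) F) : Matrix _ _ F)) := by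
            rw [h3, mul_one]
        _ = _ := by rw [← mul_assoc, ← Units.val_mul, inv_mul_cancel, Units.val_one, one_mul]
    apply mem_subalgebraNormalizer_of_forall
    rintro _ ⟨x, y, rfl⟩
    have hconj : (g : Matrix ι ι F) * J * ((g⁻¹ : GL ι F) : Matrix ι ι F) =
        tens e P ((a : Matrix _ _ F) * X * ((a⁻¹ : GL (Fin 2) F) : Matrix _ _ F)) 1 := by
      rw [hinv, hab, hJdef, tens_mul, tens_mul, mul_one, ← Units.val_mul b, mul_inv_cancel, Units.val_one]
    have hsq : ((a : Matrix _ _ F) * X * ((a⁻¹ : GL (Fin 2) F) : Matrix _ _ F)) *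
        ((a : Matrix _ _ F) * X * ((a⁻¹ : GL (Fin 2) F) : Matrix _ _ F)) =
        ((a : Matrix _ _ F) * X * ((a⁻¹ : GL (Fin 2) F) : Matrix _ _ F)) + 1 := by
      have h4 : ((a : Matrix _ _ F) * X * ((a⁻¹ : GL (Fin 2) F) : Matrix _ _ F)) *
        ((a : Matrix _ _ F) * X * ((a⁻¹ : GL (Fin 2) F) : Matrix _ _ F)) =
          (a : Matrix _ _ F) * (X * ((((a⁻¹ : GL (Fin 2) F) : Matrix _ _ F) * (a : Matrix _ _ F)) * X)) *
            ((a⁻¹ : GL (Fin 2) F) : Matrix _ _ F) := by simp only [mul_assoc]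
      rw [h4, ← Units.val_mul, inv_mul_cancel, Units.val_one, one_mul, hXX, mul_add, add_mul, mul_one,
        ← Units.val_mul, mul_inv_cancel, Units.val_one]
    have hg1 : (g : Matrix ι ι F) * ((g⁻¹ : GL ι F) : Matrix ι ι F) = 1 := by
      rw [← Units.val_mul, mul_inv_cancel, Units.val_one]
    rw [mul_add, add_mul, Matrix.mul_smul, Matrix.smul_mul, Matrix.mul_smul, Matrix.smul_mul, mul_one, hg1, hconj,
      mem_quadAlg]
    rcases two_classify h2 hsq with h5 | h5
    · exact ⟨x, y, by rw [h5]⟩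
    · refine ⟨x + y, y, ?_⟩
      rw [h5, tens_add_left, tens_one, ← hX, ← hJdef]
      module

/-! ### `Ω` does not stabilise a tensor decomposition -/

/-- A sum of two pure tensors with independent factors is not pure. -/
theorem not_pure {n₁ n₂ : ℕ} {v₁ v₂ x : Fin n₁ → F} {w₁ w₂ y : Fin n₂ → F}
    (hv : LinearIndependent F ![v₁, v₂]) (hw : LinearIndependent F ![w₁, w₂]) :
    pt x y ≠ pt v₁ w₁ + pt v₂ w₂ := by
  intro h
  have h1 : ∀ i, x i • y = v₁ i • w₁ + v₂ i • w₂ := by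
    intro i
    funext j
    exact congrFun h (i, j)
  have hx : x ≠ 0 := by
    rintro rfl
    rw [LinearIndependent.pair_iff] at hw
    have hv1 : v₁ = 0 := by
      funext i
      have h2 := h1 i
      rw [Pi.zero_apply, zero_smul] at h2
      exact (hw _ _ h2.symm).1
    have := hv.ne_zero 0
    exact this hv1
  obtain ⟨i₀, hi₀⟩ : ∃ i, x i ≠ 0 := by
    by_contra hcon
    push Not at hcon
    exact hx (funext hcon)
  set α := v₁ i₀ / x i₀ with hα
  set β := v₂ i₀ / x i₀ with hβ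
  have hy : y = α • w₁ + β • w₂ := by
    have h2 := congrArg (fun z => (x i₀)⁻¹ • z) (h1 i₀)
    simp only [smul_add, smul_smul] at h2
    rw [inv_mul_cancel₀ hi₀, one_smul] at h2
    rw [h2, hα, hβ, div_eq_inv_mul, div_eq_inv_mul]
  rw [LinearIndependent.pair_iff] at hw
  have h3 : ∀ i, v₁ i = α * x i ∧ v₂ i = β * x i := by
    intro i
    have h4 := h1 i
    rw [hy] at h4
    have h5 : (v₁ i - α * x i) • w₁ + (v₂ i - β * x i) • w₂ = 0 := by
      have : (v₁ i - α * x i) • w₁ + (v₂ i - β * x i) • w₂ = (v₁ i • w₁ + v₂ i • w₂) - x i • (α • w₁ + β • w₂) := by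
        module
      rw [this, ← h4, sub_self]
    obtain ⟨h6, h7⟩ := hw _ _ h5
    exact ⟨sub_eq_zero.mp h6, sub_eq_zero.mp h7⟩
  rw [LinearIndependent.pair_iff] at hv
  have h8 : β • v₁ + (-α) • v₂ = 0 := by
    funext i
    simp only [Pi.add_apply, Pi.smul_apply, smul_eq_mul, Pi.zero_apply]
    rw [(h3 i).1, (h3 i).2]
    ring
  obtain ⟨hb, ha⟩ := hv _ _ h8
  rw [neg_eq_zero] at ha
  have h9 := h3 i₀
  have hv1 : v₁ = 0 := by
    funext i
    rw [(h3 i).1, ha, zero_mul]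
    rfl
  have h10 := hv 1 0 (by rw [hv1]; simp)
  exact one_ne_zero h10.1

theorem omegaGL_not_le_tensor_of [Finite F] {Q : (ι → F) → F} (hQ : IsNondegenerateQuadraticForm Q)
    (hn : 5 ≤ Fintype.card ι) {n₁ n₂ : ℕ} {e : ι ≃ Fin n₁ × Fin n₂} {P : GL ι F}
    {v₁ v₂ x : Fin n₁ → F} {w₁ w₂ y : Fin n₂ → F}
    (hv : LinearIndependent F ![v₁, v₂]) (hw : LinearIndependent F ![w₁, w₂]) (hx : x ≠ 0) (hy : y ≠ 0)
    (heq : Q ((P : Matrix ι ι F) *ᵥ (pt x y ∘ e)) = Q ((P : Matrix ι ι F) *ᵥ ((pt v₁ w₁ + pt v₂ w₂) ∘ e))) :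
    ¬ omegaGL Q ≤ tensorProductSubgroup n₁ n₂ e P := by
  intro hle
  have hinj : ∀ u u' : Fin n₁ × Fin n₂ → F, (P : Matrix ι ι F) *ᵥ (u ∘ e) = (P : Matrix ι ι F) *ᵥ (u' ∘ e) → u = u' := by
    intro u u' h
    have h1 : ((P⁻¹ : GL ι F) : Matrix ι ι F) *ᵥ ((P : Matrix ι ι F) *ᵥ (u ∘ e)) =
        ((P⁻¹ : GL ι F) : Matrix ι ι F) *ᵥ ((P : Matrix ι ι F) *ᵥ (u' ∘ e)) := by rw [h]
    rw [mulVec_mulVec, mulVec_mulVec, ← Units.val_mul, inv_mul_cancel, Units.val_one, one_mulVec, one_mulVec] at h1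
    funext p
    have := congrFun h1 (e.symm p)
    simpa using this
  have hzero : (P : Matrix ι ι F) *ᵥ ((0 : Fin n₁ × Fin n₂ → F) ∘ e) = 0 := by
    have : ((0 : Fin n₁ × Fin n₂ → F) ∘ e : ι → F) = 0 := rfl
    rw [this, mulVec_zero]
  have hxy : pt x y ≠ 0 := by
    intro h0
    obtain ⟨i, hi⟩ : ∃ i, x i ≠ 0 := by
      by_contra hcon
      push Not at hcon
      exact hx (funext hcon)
    obtain ⟨j, hj⟩ : ∃ j, y j ≠ 0 := by
      by_contra hcon
      push Not at hcon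
      exact hy (funext hcon)
    have h1 : x i * y j = 0 := congrFun h0 (i, j)
    exact (mul_ne_zero hi hj) h1
  have hsum : pt v₁ w₁ + pt v₂ w₂ ≠ 0 := by
    intro h0
    have h1 : pt (0 : Fin n₁ → F) (0 : Fin n₂ → F) = pt v₁ w₁ + pt v₂ w₂ := by
      rw [h0]; funext p; simp [pt]
    exact not_pure hv hw h1
  obtain ⟨g, hg, hgx⟩ := H925.exists_trans hQ hn (v := (P : Matrix ι ι F) *ᵥ (pt x y ∘ e))
    (v' := (P : Matrix ι ι F) *ᵥ ((pt v₁ w₁ + pt v₂ w₂) ∘ e))
    (fun h0 => hxy (hinj _ _ (h0.trans hzero.symm))) (fun h0 => hsum (hinj _ _ (h0.trans hzero.symm))) heq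
  obtain ⟨a, b, hab⟩ := mem_tensorProductSubgroup_iff.mp (hle hg)
  rw [hab, tens_mulVec, kronecker_mulVec_pt] at hgx
  exact not_pure hv hw (hinj _ _ hgx)

/-- Vectors in a space with a form: `w₂ ∈ w₁^⊥` independent of `w₁`. -/
theorem exists_indep_perp {σ : F ≃+* F} {ε : F} {n : ℕ} (hn : 3 ≤ n) {f : (Fin n → F) → (Fin n → F) → F}
    (hf : HermForm σ ε f) {w₁ : Fin n → F} (hw₁ : w₁ ≠ 0) :
    ∃ w₂ : Fin n → F, LinearIndependent F ![w₁, w₂] ∧ f w₂ w₁ = 0 := by
  let φ : (Fin n → F) →ₗ[F] F :=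
    { toFun := fun w => f w w₁
      map_add' := fun x y => hf.add_left x y w₁
      map_smul' := fun c x => hf.smul_left c x w₁ }
  have h1 := LinearMap.finrank_range_add_finrank_ker φ
  have h2 : Module.finrank F (LinearMap.range φ) ≤ 1 := by
    refine le_trans (Submodule.finrank_le _) ?_
    rw [Module.finrank_self]
  rw [Module.finrank_fin_fun] at h1
  have h3 : ¬ LinearMap.ker φ ≤ Submodule.span F {w₁} := by
    intro hle
    have h4 := Submodule.finrank_mono hle
    have h5 : Module.finrank F (Submodule.span F {w₁}) ≤ 1 := by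
      rw [finrank_span_singleton hw₁]
    omega
  obtain ⟨w₂, hw₂, hnot⟩ := SetLike.not_le_iff_exists.mp h3
  refine ⟨w₂, ?_, LinearMap.mem_ker.mp hw₂⟩
  rw [LinearIndependent.pair_iff]
  intro s t hst
  have ht : t = 0 := by
    by_contra ht
    apply hnot
    rw [Submodule.mem_span_singleton]
    refine ⟨-(t⁻¹ * s), ?_⟩
    have h6 : t • w₂ = -(s • w₁) := by rw [eq_neg_iff_add_eq_zero, add_comm]; exact hst
    have h7 : w₂ = t⁻¹ • (t • w₂) := by rw [smul_smul, inv_mul_cancel₀ ht, one_smul]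
    rw [h7, h6, smul_neg, smul_smul, neg_smul]
  refine ⟨?_, ht⟩
  rw [ht, zero_smul, add_zero] at hst
  exact (smul_eq_zero.mp hst).resolve_right hw₁

theorem exists_indep {n : ℕ} (hn : 2 ≤ n) {w₁ : Fin n → F} (hw₁ : w₁ ≠ 0) :
    ∃ w₂ : Fin n → F, LinearIndependent F ![w₁, w₂] := by
  have h3 : ¬ (⊤ : Submodule F (Fin n → F)) ≤ Submodule.span F {w₁} := by
    intro hle
    have h4 := Submodule.finrank_mono hle
    rw [finrank_top, Module.finrank_fin_fun, finrank_span_singleton hw₁] at h4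
    omega
  obtain ⟨w₂, -, hnot⟩ := SetLike.not_le_iff_exists.mp h3
  refine ⟨w₂, ?_⟩
  rw [LinearIndependent.pair_iff]
  intro s t hst
  have ht : t = 0 := by
    by_contra ht
    apply hnot
    rw [Submodule.mem_span_singleton]
    refine ⟨-(t⁻¹ * s), ?_⟩
    have h6 : t • w₂ = -(s • w₁) := by rw [eq_neg_iff_add_eq_zero, add_comm]; exact hst
    have h7 : w₂ = t⁻¹ • (t • w₂) := by rw [smul_smul, inv_mul_cancel₀ ht, one_smul]
    rw [h7, h6, smul_neg, smul_smul, neg_smul]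
  refine ⟨?_, ht⟩
  rw [ht, zero_smul, add_zero] at hst
  exact (smul_eq_zero.mp hst).resolve_right hw₁

/-- **Properness, alternating factors.** -/
theorem omegaGL_not_le_tensor_alt [Finite F] {Q : (ι → F) → F} (hQ : IsNondegenerateQuadraticForm Q)
    (hn : 5 ≤ Fintype.card ι) {n₁ n₂ : ℕ} (hn1 : 2 ≤ n₁) (hn2 : 3 ≤ n₂) {ε₁ ε₂ : F}
    {f₁ : (Fin n₁ → F) → (Fin n₁ → F) → F} {f₂ : (Fin n₂ → F) → (Fin n₂ → F) → F}
    (h1 : HermForm (RingEquiv.refl F) ε₁ f₁) (h2 : HermForm (RingEquiv.refl F) ε₂ f₂)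
    {e : ι ≃ Fin n₁ × Fin n₂} {P : GL ι F}
    (h : IsTensorFormStructure (RingEquiv.refl F) (QuadraticMap.polar Q) f₁ f₂ e P)
    (hpure : ∀ v w, Q ((P : Matrix ι ι F) *ᵥ (pt v w ∘ e)) = 0) :
    ¬ omegaGL Q ≤ tensorProductSubgroup n₁ n₂ e P := by
  obtain ⟨c, hc, hpt⟩ := form_pt h1 h2 h
  let v₁ : Fin n₁ → F := Pi.single ⟨0, by omega⟩ 1
  have hv₁ : v₁ ≠ 0 := by simp [v₁]
  let w₁ : Fin n₂ → F := Pi.single ⟨0, by omega⟩ 1
  have hw₁ : w₁ ≠ 0 := by simp [w₁]
  obtain ⟨v₂, hv⟩ := exists_indep hn1 hv₁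
  obtain ⟨w₂, hw, hww⟩ := exists_indep_perp hn2 h2 hw₁
  refine omegaGL_not_le_tensor_of hQ hn hv hw hv₁ hw₁ ?_
  rw [hpure]
  have h3 : ((pt v₁ w₁ + pt v₂ w₂) ∘ e : ι → F) = pt v₁ w₁ ∘ e + pt v₂ w₂ ∘ e := rfl
  rw [h3, mulVec_add, H925.Q_add' hQ, hpure, hpure, hpt, h2.herm w₁ w₂, hww]
  simp

/-- **Properness, symmetric factors, odd characteristic.** -/
theorem omegaGL_not_le_tensor_symm [Finite F] (h2 : (2 : F) ≠ 0) {Q : (ι → F) → F}
    (hQ : IsNondegenerateQuadraticForm Q)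
    (hn : 5 ≤ Fintype.card ι) {n₁ n₂ : ℕ} {ε₁ ε₂ : F}
    {f₁ : (Fin n₁ → F) → (Fin n₁ → F) → F} {f₂ : (Fin n₂ → F) → (Fin n₂ → F) → F}
    (h1 : HermForm (RingEquiv.refl F) ε₁ f₁) (h2' : HermForm (RingEquiv.refl F) ε₂ f₂) (hn1 : 3 ≤ n₁) (hn2 : 2 ≤ n₂)
    {v₁ : Fin n₁ → F} {w₂ : Fin n₂ → F} (hv₁ : v₁ ≠ 0) (hw₂ : w₂ ≠ 0) (hv : f₁ v₁ v₁ = 0) (hw : f₂ w₂ w₂ = 0)
    {e : ι ≃ Fin n₁ × Fin n₂} {P : GL ι F}
    (h : IsTensorFormStructure (RingEquiv.refl F) (QuadraticMap.polar Q) f₁ f₂ e P) :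
    ¬ omegaGL Q ≤ tensorProductSubgroup n₁ n₂ e P := by
  obtain ⟨c, hc, hpt⟩ := form_pt h1 h2' h
  obtain ⟨v₂, hvi, hvp⟩ := exists_indep_perp hn1 h1 hv₁
  obtain ⟨w₁, hwi⟩ := exists_indep hn2 hw₂
  have hwi' : LinearIndependent F ![w₁, w₂] := by
    rw [LinearIndependent.pair_iff] at hwi ⊢
    intro s t hst
    obtain ⟨h3, h4⟩ := hwi t s (by rw [add_comm]; exact hst)
    exact ⟨h4, h3⟩
  have hw₁ : w₁ ≠ 0 := hwi'.ne_zero 0
  have hQ0 : ∀ u, QuadraticMap.polar Q u u = 0 → Q u = 0 := by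
    intro u hu
    rw [H925.polar_self hQ] at hu
    exact (mul_eq_zero.mp hu).resolve_left h2
  refine omegaGL_not_le_tensor_of hQ hn hvi hwi' hv₁ hw₁ ?_
  rw [hQ0 _ (by rw [hpt, hv]; ring)]
  have h3 : ((pt v₁ w₁ + pt v₂ w₂) ∘ e : ι → F) = pt v₁ w₁ ∘ e + pt v₂ w₂ ∘ e := rfl
  rw [h3, mulVec_add, H925.Q_add' hQ, hQ0 _ (by rw [hpt, hv]; ring), hQ0 _ (by rw [hpt, hw]; ring), hpt,
    h1.herm v₁ v₂, hvp]
  simp

end Cfsg.Agent.H932
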