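import Cfsg.Agent.H932.TwelveBase
import Cfsg.Agent.H884.SingMaxPlus
import Cfsg.Agent.H885.NondegGeo
import Cfsg.Agent.H885.MinusType
import Cfsg.Agent.H885.NonsingVec
import Cfsg.Agent.H888.SubfieldMax

/-!
Maximality of the members of class 1 and of the subfield groups in `Ω₁₂⁻(q)` (H932).
-/

set_option autoImplicit false
set_option linter.unusedSectionVars false

namespace Cfsg.Agent.H932

open Cfsg Cfsg.Geo Module
open QuadraticMap hiding proj
open scoped Matrix MatrixGroups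

variable {F : Type*} [Field F] [Fintype F] {Q : (Fin 12 → F) → F}

theorem mM_ts (hQ : IsNondegenerateQuadraticForm Q) (hminus : ¬ IsPlusTypeOn Q ⊤) (W : Submodule F (Fin 12 → F))
    (hW0 : W ≠ ⊥) (hW : IsTotallySingularQuad Q W) :
    IsMaximalIn (omegaGL Q) (subspaceStabilizer W ⊓ omegaGL Q) := by
  refine Cfsg.Agent.H884.OmegaGL.singular_stabilizer_isMaximalIn Q hQ (by rw [Fintype.card_fin]; omega)
    hW0 hW ?_
  rintro ⟨x, hx, hxW, hxn⟩
  rw [Fintype.card_fin]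
  have hnd := Cfsg.Agent.H884.OmegaGL.nondeg_bundle Q hQ
  have h0 := Cfsg.Agent.H884.SingMaxPlus.sup_span_singular (Q := Cfsg.Agent.H884.OmegaGL.bundle Q hQ)
    hW hx hxW
  have h1 := Cfsg.Agent.H884.SingMaxPlus.two_mul_finrank_le hnd h0
  have h2 := Cfsg.Agent.H884.SingMaxPlus.finrank_sup_span hxn
  rw [h2, Module.finrank_fintype_fun_eq_card, Fintype.card_fin] at h1
  by_contra hlt
  apply hminus
  refine ⟨W ⊔ Submodule.span F {x}, le_top, h0, ?_⟩
  rw [h2, finrank_top, Module.finrank_fintype_fun_eq_card, Fintype.card_fin]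
  omega

/-- nondegenerate subspaces of `Ω₁₂⁻` -/
theorem mM_nd (hQ : IsNondegenerateQuadraticForm Q) (hminus : ¬ IsPlusTypeOn Q ⊤) (W : Submodule F (Fin 12 → F))
    (hW0 : W ≠ ⊥) (hW1 : W ≠ ⊤) (hdim : finrank F W = 6 ∨ 2 * finrank F W ≠ 12)
    (hW : IsNondegenerateOn (polar Q) W)
    (hex : ¬ (Fintype.card F ≤ 3 ∧ (∃ U : Submodule F (Fin 12 → F), Module.finrank F U = 2 ∧
      Cfsg.Geo.IsNondegenerateOn (QuadraticMap.polar Q) U ∧ Cfsg.Geo.IsPlusTypeOn Q U ∧
      (U = W ∨ (Cfsg.Geo.AreOrthogonalFor (QuadraticMap.polar Q) U W ∧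
        Module.finrank F U + Module.finrank F W = 12))))) :
    IsMaximalIn (omegaGL Q) (subspaceStabilizer W ⊓ omegaGL Q) := by
  refine Cfsg.Agent.H885.NondegGeo.subspaceStabilizer_nondegenerate_maximal hQ
    (by rw [Fintype.card_fin]; omega) W hW0 hW1 hW ?_ ?_
  · rw [Fintype.card_fin]
    exact hex
  · intro Q' hQ' hnd U hs g hg heq
    have h1 := hs.finrank hnd
    have h2 : Module.finrank F W = Module.finrank F U := by
      rw [← heq, LinearEquiv.finrank_map_eq g U]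
    rw [Module.finrank_fin_fun] at h1
    have hke : Even (Module.finrank F U) := by
      rcases hdim with h | h
      · rw [← h2, h]; decide
      · omega
    obtain ⟨X, hX1, hX2⟩ :=
      Cfsg.Agent.H885.MinusType.exists_half hnd hs hg heq rfl hke
    apply hminus
    refine ⟨X, le_top, fun x hx => by rw [← hQ']; exact hX2 x hx, ?_⟩
    rw [hX1, finrank_top, Module.finrank_fin_fun]
    omega

theorem mM_nsv (hQ : IsNondegenerateQuadraticForm Q) (hchar : ¬ Odd (Fintype.card F)) (v : Fin 12 → F)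
    (hv : Q v ≠ 0) : IsMaximalIn (omegaGL Q) (subspaceStabilizer (Submodule.span F {v}) ⊓ omegaGL Q) := by
  refine Cfsg.Agent.H883.Bridge.subspaceStabilizer_maximal hQ (by rw [Fintype.card_fin]; omega) _
    fun Q' hQ' hG => ?_
  refine Cfsg.Agent.H885.NonsingVec.maximal hG.nondeg (by rw [Module.finrank_fin_fun]; omega)
    (Cfsg.Agent.H885.NonsingVec.two_eq_zero_of_not_odd hchar) ?_
  rw [hQ']
  exact hv

theorem mM_sub (hQ : IsNondegenerateQuadraticForm Q) (F₀ : Subfield F) (r : ℕ) (P : GL (Fin 12) F) (ζ : F)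
    (hr : r.Prime) (hcard : Fintype.card F = Nat.card F₀ ^ r) (hζ : ζ ≠ 0)
    (hP : IsQuadFormRationalStructure (fun v : Fin 12 → F => ζ * Q v) F₀ P) :
    IsMaximalIn (omegaGL Q) (subfieldSubgroup F₀ P ⊓ omegaGL Q) :=
  Cfsg.Agent.H888.SubfieldMax.subfield_maximal (by rw [Fintype.card_fin]; omega) Q hQ F₀ r hr hcard P ζ hζ hP

theorem mM_odd (hQ : IsNondegenerateQuadraticForm Q) (hminus : ¬ IsPlusTypeOn Q ⊤) (W : Submodule F (Fin 12 → F))
    (hW0 : W ≠ ⊥) (hW1 : W ≠ ⊤) (hodd : Odd (finrank F W)) (hW : IsNondegenerateOn (polar Q) W) :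
    IsMaximalIn (omegaGL Q) (subspaceStabilizer W ⊓ omegaGL Q) := by
  obtain ⟨k, hk⟩ := hodd
  refine mM_nd hQ hminus W hW0 hW1 (Or.inr (by omega)) hW ?_
  rintro ⟨-, U, hU2, -, -, rfl | ⟨-, h⟩⟩ <;> omega

theorem ne_bot_ne_top {W : Submodule F (Fin 12 → F)} (h0 : 0 < finrank F W) (h1 : finrank F W < 12) :
    W ≠ ⊥ ∧ W ≠ ⊤ := by
  constructor
  · rintro rfl
    rw [finrank_bot] at h0
    omega
  · rintro rfl
    rw [finrank_top, Module.finrank_fin_fun] at h1
    omega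

theorem mM_two_minus (hQ : IsNondegenerateQuadraticForm Q) (hminus : ¬ IsPlusTypeOn Q ⊤)
    (W : Submodule F (Fin 12 → F)) (hd : finrank F W = 2) (hW : IsNondegenerateOn (polar Q) W)
    (hm : ¬ IsPlusTypeOn Q W) : IsMaximalIn (omegaGL Q) (subspaceStabilizer W ⊓ omegaGL Q) := by
  obtain ⟨h0, h1⟩ := ne_bot_ne_top (W := W) (by omega) (by omega)
  refine mM_nd hQ hminus W h0 h1 (Or.inr (by omega)) hW ?_
  rintro ⟨-, U, hU2, -, hp, rfl | ⟨-, h⟩⟩
  · exact hm hp
  · omega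

theorem mM_two_plus (hQ : IsNondegenerateQuadraticForm Q) (hminus : ¬ IsPlusTypeOn Q ⊤) (hq : 4 ≤ Fintype.card F)
    (W : Submodule F (Fin 12 → F)) (hd : finrank F W = 2) (hW : IsNondegenerateOn (polar Q) W) :
    IsMaximalIn (omegaGL Q) (subspaceStabilizer W ⊓ omegaGL Q) := by
  obtain ⟨h0, h1⟩ := ne_bot_ne_top (W := W) (by omega) (by omega)
  refine mM_nd hQ hminus W h0 h1 (Or.inr (by omega)) hW ?_
  rintro ⟨h, -⟩
  omega

theorem mM_even (hQ : IsNondegenerateQuadraticForm Q) (hminus : ¬ IsPlusTypeOn Q ⊤)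
    (W : Submodule F (Fin 12 → F)) (hd : finrank F W = 4 ∨ finrank F W = 6) (hW : IsNondegenerateOn (polar Q) W) :
    IsMaximalIn (omegaGL Q) (subspaceStabilizer W ⊓ omegaGL Q) := by
  obtain ⟨h0, h1⟩ := ne_bot_ne_top (W := W) (by omega) (by omega)
  refine mM_nd hQ hminus W h0 h1 (by omega) hW ?_
  rintro ⟨-, U, hU2, -, hp, rfl | ⟨-, h⟩⟩ <;> omega

end Cfsg.Agent.H932
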