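import Cfsg.Agent.H932.MinusMax
import Cfsg.Agent.H885.C2Main

/-!
Maximality of the stabilisers of three minus type `4`-spaces in `Ω₁₂⁻(q)` (H932).
-/

set_option autoImplicit false
set_option linter.unusedSectionVars false

namespace Cfsg.Agent.H932

open Cfsg Cfsg.Geo Module
open QuadraticMap hiding proj
open scoped Matrix MatrixGroups

variable {F : Type*} [Field F] [Fintype F] {Q : (Fin 12 → F) → F}

theorem mM_three (hQ : IsNondegenerateQuadraticForm Q) (D : Fin 3 → Submodule F (Fin 12 → F))
    (hD : IsOrthogonalMDecomposition Q 4 D) (hm : ∀ i, ¬ IsPlusTypeOn Q (D i)) :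
    IsMaximalIn (omegaGL Q) (decompositionStabilizer D ⊓ omegaGL Q) :=
  Cfsg.Agent.H885.C2Main.decomposition_maximal hQ (by norm_num) (by rw [Fintype.card_fin]; omega) hD
    (Or.inl le_rfl) (fun h => by omega) fun h => hm 0 (h.2.2 0)

end Cfsg.Agent.H932
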