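import Cfsg.Agent.H932.MtOut
import Cfsg.Agent.H932.Spinor

/-!
# The invariant quadratic form of the monomial model of `2.M₁₂` (helper932)

`b` the basis permuted up to sign by `Γ`, `Q` a quadratic form fixed by `P`.

* `polar_b`, `Q_b` : the basis is orthogonal, `Q` is constant on it;
* `polar_bx` : `polar Q` on integral vectors;
* `squares` : if `c A0` is in `Ω(Q)`, then `2` and `3` are squares;
* `plus` : `Q` is of plus type.
-/

set_option autoImplicit false
set_option linter.unusedSectionVars false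

namespace Cfsg.Agent.H932.Mt

open Cfsg Cfsg.Geo Matrix Cfsg.Agent.H915.LD QuadraticMap
open Cfsg.Agent.H932.Spinor Cfsg.Agent.ClassicalGeometry.Reflection

universe u

/-- the integral scalar product -/
def dot (x y : Fin 12 → ℤ) : ℤ := ∑ i, x i * y i

/-- the Hadamard matrix on integral vectors -/
def Hv (x : Fin 12 → ℤ) (k : Fin 12) : ℤ := ∑ i, Hm k i * x i

/-- the table of the six vectors -/
def tXv : List (List ℤ) :=
  [[1, 1, 0, 0, 0, 0, 0, 0, 0, 0, 0, 0], [0, 0, 0, -1, 0, 1, 0, 0, 0, 0, 0, 0], [0, 0, 1, 0, -1, 0, 0, 0, 0, 0, 0, 0],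
   [-1, 1, 0, 0, 0, 0, 0, 0, 0, 0, 0, 0], [0, 0, 0, 1, 0, 1, 0, 0, 0, 0, 0, 0], [0, 0, 1, 0, 1, 0, 0, 0, 0, 0, 0, 0]]

/-- six orthogonal integral vectors -/
def Xv (k : Fin 6) (i : Fin 12) : ℤ := (tXv.getD k []).getD i 0

/-- table -/
def tE : List (List ℤ) :=
  [[4, 4, 0, 0, 0, 0], [4, 0, 0, 0, 0, 0], [0, 0, 4, 4, 0, 0], [0, 0, 4, 0, 0, 0], [0, 0, 0, 0, 4, 4], [0, 0, 0, 0, 4, 0]]

/-- the scalar products with the Hadamard matrix -/
def Em (k l : Fin 6) : ℤ := (tE.getD k []).getD l 0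

theorem dot_Xv : ∀ k l, dot (Xv k) (Xv l) = if k = l then 2 else 0 := by decide +kernel
theorem dot_HX : ∀ k l, dot (Hv (Xv k)) (Xv l) = Em k l := by decide +kernel
theorem dot_XH : ∀ k l, dot (Xv k) (Hv (Xv l)) = Em k l := by decide +kernel
theorem dot_HH : ∀ k l, dot (Hv (Xv k)) (Hv (Xv l)) = if k = l then 24 else 0 := by decide +kernel

section form

variable {F : Type u} [Field F] {P : Subgroup (GL (Fin 12) F)} {b : Module.Basis (Fin 12) F (Fin 12 → F)}

/-- the integral combinations of the basis -/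
noncomputable def bx (b : Module.Basis (Fin 12) F (Fin 12 → F)) (x : Fin 12 → ℤ) : Fin 12 → F :=
  ∑ i, ((x i : ℤ) : F) • b i

theorem A0_bx (x : Fin 12 → ℤ) : A0 b *ᵥ bx b x = bx b (Hv x) := by
  unfold bx Hv
  rw [Matrix.mulVec_sum]
  simp only [Matrix.mulVec_smul, A0_b, Finset.smul_sum, smul_smul]
  rw [Finset.sum_comm]
  apply Finset.sum_congr rfl
  intro k _
  rw [← Finset.sum_smul, Int.cast_sum]
  congr 1
  apply Finset.sum_congr rfl
  intro i _
  rw [Int.cast_mul, mul_comm]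

theorem polar_iso {Q : QuadraticForm F (Fin 12 → F)} {M : Matrix (Fin 12) (Fin 12) F} (h : ∀ v, Q (M *ᵥ v) = Q v)
    (v w : Fin 12 → F) : polar Q (M *ᵥ v) (M *ᵥ w) = polar Q v w := by
  unfold polar
  rw [← Matrix.mulVec_add, h, h, h]

variable {Q : QuadraticForm F (Fin 12 → F)}

theorem polar_b (h2 : (2 : F) ≠ 0) {φ : Γ →* P} (hb : IsModel φ b)
    (hP : ∀ x ∈ P, ∀ v, Q ((x : Matrix (Fin 12) (Fin 12) F) *ᵥ v) = Q v) {i j : Fin 12} (hij : i ≠ j) :
    polar Q (b i) (b j) = 0 := by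
  obtain ⟨g, hg⟩ := orth_cover hij
  have h1 := polar_iso (hP (φ g) (φ g).2) (bs b (pos i)) (bs b (pos j))
  rw [model_bs hb, model_bs hb] at h1
  rw [← bs_pos i, ← bs_pos j]
  have key : -(polar Q (bs b (pos i)) (bs b (pos j))) = polar Q (bs b (pos i)) (bs b (pos j)) → 
      polar Q (bs b (pos i)) (bs b (pos j)) = 0 := by
    intro h
    have h3 : (2 : F) * polar Q (bs b (pos i)) (bs b (pos j)) = 0 := by linear_combination -h
    exact (mul_eq_zero.1 h3).resolve_left h2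
  apply key
  rcases hg with ⟨ha, hb'⟩ | ⟨ha, hb'⟩ | ⟨ha, hb'⟩ | ⟨ha, hb'⟩
  · rw [ha, hb', bs_ng, polar_neg_right] at h1
    exact h1
  · rw [ha, hb', bs_ng, polar_neg_left] at h1
    exact h1
  · rw [ha, hb', bs_ng, polar_neg_right, polar_comm] at h1
    exact h1
  · rw [ha, hb', bs_ng, polar_neg_left, polar_comm] at h1
    exact h1

theorem Q_b {φ : Γ →* P} (hb : IsModel φ b)
    (hP : ∀ x ∈ P, ∀ v, Q ((x : Matrix (Fin 12) (Fin 12) F) *ᵥ v) = Q v) (i : Fin 12) : Q (b i) = Q (b 0) := by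
  have h1 := hP (φ (rep i)) (φ (rep i)).2 (bs b (pos 0))
  rw [model_bs hb, rep_apply, bs_pos, bs_pos] at h1
  exact h1

/-- the basis is orthogonal with constant values -/
structure OrthB (Q : QuadraticForm F (Fin 12 → F)) (b : Module.Basis (Fin 12) F (Fin 12 → F)) : Prop where
  orth : ∀ i j, i ≠ j → polar Q (b i) (b j) = 0
  const : ∀ i, Q (b i) = Q (b 0)

theorem OrthB.polar_eq (h : OrthB Q b) (i j : Fin 12) : polar Q (b i) (b j) = if i = j then 2 * Q (b 0) else 0 := by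
  split_ifs with hij
  · rw [hij, polar_self, h.const, nsmul_eq_mul, Nat.cast_ofNat]
  · exact h.orth i j hij

theorem OrthB.polar_sum (h : OrthB Q b) (x y : Fin 12 → F) :
    polar Q (∑ i, x i • b i) (∑ i, y i • b i) = 2 * Q (b 0) * ∑ i, x i * y i := by
  have h1 : polar Q (∑ i, x i • b i) (∑ i, y i • b i) = QuadraticMap.polarBilin Q (∑ i, x i • b i) (∑ i, y i • b i) := rfl
  have h2 : ∀ i j, QuadraticMap.polarBilin Q (b i) (b j) = if i = j then 2 * Q (b 0) else 0 := h.polar_eq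
  rw [h1, map_sum, Finset.mul_sum]
  apply Finset.sum_congr rfl
  intro j _
  rw [map_smul, map_sum, LinearMap.sum_apply]
  simp only [map_smul, LinearMap.smul_apply, smul_eq_mul, h2, mul_ite, mul_zero, Finset.sum_ite_eq', Finset.mem_univ,
    if_true]
  ring

theorem OrthB.polar_bx (h : OrthB Q b) (x y : Fin 12 → ℤ) :
    polar Q (bx b x) (bx b y) = 2 * Q (b 0) * (dot x y : ℤ) := by
  unfold bx dot
  rw [h.polar_sum, Int.cast_sum]
  congr 1
  apply Finset.sum_congr rfl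
  intro i _
  rw [Int.cast_mul]

theorem OrthB.Q_sum (h2 : (2 : F) ≠ 0) (h : OrthB Q b) (x : Fin 12 → F) :
    Q (∑ i, x i • b i) = Q (b 0) * ∑ i, x i * x i := by
  have h1 := h.polar_sum x x
  rw [polar_self, nsmul_eq_mul, Nat.cast_ofNat] at h1
  have h3 : (2 : F) * Q (∑ i, x i • b i) = 2 * (Q (b 0) * ∑ i, x i * x i) := by rw [h1]; ring
  exact mul_left_cancel₀ h2 h3

theorem OrthB.ne_zero (h : OrthB Q b) (hQ : (QuadraticMap.polarBilin Q).Nondegenerate) : Q (b 0) ≠ 0 := by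
  intro h0
  apply b.ne_zero 0
  apply hQ.1
  intro y
  rw [← b.sum_repr y, map_sum]
  apply Finset.sum_eq_zero
  intro j _
  rw [map_smul]
  have : QuadraticMap.polarBilin Q (b 0) (b j) = polar Q (b 0) (b j) := rfl
  rw [this, h.polar_eq, h0]
  simp

/-- the eigenvectors -/
noncomputable def ev6 (b : Module.Basis (Fin 12) F (Fin 12 → F)) (c : F) (k : Fin 6) : Fin 12 → F :=
  bx b (Xv k) - c • bx b (Hv (Xv k))

/-- their Gram matrix -/
def Gm (F : Type u) [Field F] (c : F) : Matrix (Fin 6) (Fin 6) F :=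
  !![2 - 4 * c, -(4 * c), 0, 0, 0, 0; -(4 * c), 2, 0, 0, 0, 0; 0, 0, 2 - 4 * c, -(4 * c), 0, 0;
     0, 0, -(4 * c), 2, 0, 0; 0, 0, 0, 0, 2 - 4 * c, -(4 * c); 0, 0, 0, 0, -(4 * c), 2]

theorem det_Gm (c : F) : (Gm F c).det = 64 * (1 - 2 * c - 4 * c ^ 2) ^ 3 := by
  unfold Gm
  simp [Matrix.det_succ_row_zero, Fin.sum_univ_succ, Fin.succAbove]
  ring

theorem OrthB.gram_ev6 (h : OrthB Q b) {c : F} (hc : 12 * c ^ 2 = 1) :
    gram (⇑Q) (ev6 b c) = (4 * Q (b 0)) • Gm F c := by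
  ext k l
  have h1 : gram (⇑Q) (ev6 b c) k l = polar Q (ev6 b c k) (ev6 b c l) := rfl
  rw [h1]
  unfold ev6
  rw [polar_sub_left, polar_sub_right, polar_sub_right, polar_smul_left, polar_smul_left, polar_smul_right,
    polar_smul_right, h.polar_bx, h.polar_bx, h.polar_bx, h.polar_bx, dot_Xv, dot_HX, dot_XH, dot_HH]
  rw [Matrix.smul_apply]
  simp only [smul_eq_mul]
  have key : ∀ e d : F, 2 * Q (b 0) * (2 * d) - c * (2 * Q (b 0) * e) - (c * (2 * Q (b 0) * e)
      - c * (c * (2 * Q (b 0) * (24 * d)))) = 4 * Q (b 0) * (2 * d - c * e) := by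
    intro e d
    linear_combination (4 * Q (b 0) * d) * hc
  have k1 := key ((Em k l : ℤ) : F) (if k = l then 1 else 0)
  have k2 : (2 : F) * (if k = l then 1 else 0) = ((if k = l then 2 else 0 : ℤ) : F) := by split_ifs <;> norm_num
  have k3 : (24 : F) * (if k = l then 1 else 0) = ((if k = l then 24 else 0 : ℤ) : F) := by split_ifs <;> norm_num
  rw [k2, k3] at k1
  have k4 : Gm F c k l = ((if k = l then 2 else 0 : ℤ) : F) - c * ((Em k l : ℤ) : F) := by
    unfold Gm Em tE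
    fin_cases k <;> fin_cases l <;> simp <;> ring
  rw [k4, ← k1]

end form

end Cfsg.Agent.H932.Mt
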