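import Cfsg.Agent.H994.TwoGen.M12

/-!
# The group `2.M₁₂` of signed permutations (helper932)

`Hm` a symmetric Hadamard matrix of order 12 (`Hm * Hm = 12`), `Γ = Gam` the group generated by two pairs
(signed permutation of the rows, permutation of the 24 points of the Golay code).

* `Big` : the pairs (signed permutation `s` of the rows, permutation `g` of the points) such that `g` acts on the
  dodecad as `s` on the rows, and on the complement as a permutation of the columns of `Hm`;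
* `gext` : elements of `Γ` with the same first component are equal;
* `sig : Γ →* M₁₂` is onto with kernel `{1, neg}`.
-/

set_option autoImplicit false

namespace Cfsg.Agent.H932.Mt

open Cfsg Cfsg.Agent.H994.TwoGen Cfsg.Agent.H994.TwoGen.Chain
open Cfsg.Agent.H994.TwoGen.M12 (X Y)

/-- function with a given table -/
def tf (t : List ℕ) (k : Fin 24) : Fin 24 := ⟨t.getD k 0 % 24, Nat.mod_lt _ (by norm_num)⟩

/-- table of the lift of `X` -/
def tX : List ℕ := [6, 7, 19, 18, 17, 16, 12, 13, 9, 8, 23, 22, 15, 14, 10, 11, 2, 3, 1, 0, 5, 4, 21, 20]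
/-- table of its inverse -/
def tXi : List ℕ := [19, 18, 16, 17, 21, 20, 0, 1, 9, 8, 14, 15, 6, 7, 13, 12, 5, 4, 3, 2, 23, 22, 11, 10]
/-- table of the lift of `Y` -/
def tY : List ℕ := [20, 21, 2, 3, 4, 5, 14, 15, 16, 17, 18, 19, 12, 13, 6, 7, 8, 9, 10, 11, 0, 1, 22, 23]

/-- the lift of `X` -/
def px : Equiv.Perm (Fin 24) where
  toFun := tf tX
  invFun := tf tXi
  left_inv := by decide +kernel
  right_inv := by decide +kernel

/-- the lift of `Y` -/
def py : Equiv.Perm (Fin 24) where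
  toFun := tf tY
  invFun := tf tY
  left_inv := by decide +kernel
  right_inv := by decide +kernel

/-- the Hadamard matrix, as a table -/
def tH : List (List ℤ) :=
  [[1, 1, -1, -1, 1, 1, -1, 1, -1, -1, 1, 1], [1, 1, 1, -1, -1, 1, 1, -1, 1, -1, -1, 1],
   [-1, 1, 1, 1, -1, 1, -1, 1, -1, 1, -1, 1], [-1, -1, 1, 1, 1, 1, -1, -1, 1, -1, 1, 1],
   [1, -1, -1, 1, 1, 1, 1, -1, -1, 1, -1, 1], [1, 1, 1, 1, 1, 1, 1, 1, 1, 1, 1, -1],
   [-1, 1, -1, -1, 1, 1, -1, -1, 1, 1, -1, -1], [1, -1, 1, -1, -1, 1, -1, -1, -1, 1, 1, -1],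
   [-1, 1, -1, 1, -1, 1, 1, -1, -1, -1, 1, -1], [-1, -1, 1, -1, 1, 1, 1, 1, -1, -1, -1, -1],
   [1, -1, -1, 1, -1, 1, -1, 1, 1, -1, -1, -1], [1, 1, 1, 1, 1, -1, -1, -1, -1, -1, -1, -1]]

/-- the Hadamard matrix -/
def Hm (i j : Fin 12) : ℤ := (tH.getD i []).getD j 0

theorem Hm_symm : ∀ i j, Hm i j = Hm j i := by decide +kernel

theorem Hm_sq : ∀ i j, Hm i j = 1 ∨ Hm i j = -1 := by decide +kernel

theorem Hm_mul_self (i j : Fin 12) : Hm i j * Hm i j = 1 := by
  rcases Hm_sq i j with h | h <;> rw [h] <;> norm_num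

theorem Hm_ne_zero (i j : Fin 12) : Hm i j ≠ 0 := by
  rcases Hm_sq i j with h | h <;> rw [h] <;> norm_num

theorem Hm_orth : ∀ i j, ∑ k, Hm i k * Hm k j = if i = j then 12 else 0 := by decide +kernel

/-- two different columns are not proportional -/
theorem Hm_col : ∀ j j' : Fin 12, j ≠ j' → ∃ i i' : Fin 12, Hm i j * Hm i' j' ≠ Hm i j' * Hm i' j := by
  decide +kernel

/-- the row of a signed point -/
def idx (k : Fin 24) : Fin 12 := ⟨k / 2, by omega⟩

/-- the sign of a signed point -/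
def sgn (k : Fin 24) : ℤ := if (k : ℕ) % 2 = 0 then 1 else -1

/-- the positive signed point -/
def pos (i : Fin 12) : Fin 24 := ⟨2 * i, by omega⟩

/-- the negative -/
def ng (k : Fin 24) : Fin 24 := ⟨if (k : ℕ) % 2 = 0 then k + 1 else k - 1, by split_ifs <;> omega⟩

theorem ng_ng : ∀ k, ng (ng k) = k := by decide +kernel
theorem idx_ng : ∀ k, idx (ng k) = idx k := by decide +kernel
theorem sgn_ng : ∀ k, sgn (ng k) = - sgn k := by decide +kernel
theorem idx_pos : ∀ i, idx (pos i) = i := by decide +kernel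
theorem sgn_pos : ∀ i, sgn (pos i) = 1 := by decide +kernel
theorem eq_pos_or : ∀ k, k = pos (idx k) ∨ k = ng (pos (idx k)) := by decide +kernel
theorem sgn_cases : ∀ k, sgn k = 1 ∨ sgn k = -1 := by decide +kernel
theorem ext_pt : ∀ k l : Fin 24, idx k = idx l → sgn k = sgn l → k = l := by decide +kernel

/-- the entries of the signed rows -/
def Hs (k : Fin 24) (j : Fin 12) : ℤ := sgn k * Hm (idx k) j

/-- points of the dodecad, indexed by the rows -/
def rowp (i : Fin 12) : GolayPt :=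
  some (show ZMod 23 from (⟨[0, 1, 2, 3, 4, 13, 8, 6, 9, 16, 18, 12].getD i 0 % 23, Nat.mod_lt _ (by norm_num)⟩ : Fin 23))

/-- points of the complement, indexed by the columns -/
def colp (j : Fin 12) : GolayPt :=
  if j = 9 then none else
    some (show ZMod 23 from (⟨[11, 17, 14, 22, 20, 7, 5, 19, 15, 0, 21, 10].getD j 0 % 23, Nat.mod_lt _ (by norm_num)⟩ : Fin 23))

theorem rowp_inj : ∀ i j, rowp i = rowp j → i = j := by decide +kernel
theorem colp_inj : ∀ i j, colp i = colp j → i = j := by decide +kernel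
theorem cover : ∀ p : GolayPt, (∃ i, rowp i = p) ∨ ∃ j, colp j = p := by decide +kernel

/-- the ambient group -/
abbrev GG := Equiv.Perm (Fin 24) × Equiv.Perm GolayPt

/-- the first generator -/
def gx : GG := (px, X)
/-- the second generator -/
def gy : GG := (py, Y)

/-- **`2.M₁₂`** -/
def Gam : Subgroup GG := Subgroup.closure {gx, gy}

/-- pairs compatible with the Hadamard matrix -/
def Big : Subgroup GG where
  carrier := {p | (∀ k, p.1 (ng k) = ng (p.1 k)) ∧ (∀ k, p.2 (rowp (idx k)) = rowp (idx (p.1 k))) ∧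
    ∃ (κ : Equiv.Perm (Fin 12)) (δ : Fin 12 → ℤˣ), (∀ j, p.2 (colp j) = colp (κ j)) ∧
      ∀ k j, Hs (p.1 k) (κ j) = δ j * Hs k j}
  one_mem' := ⟨fun k => rfl, fun k => rfl, 1, 1, fun j => rfl, fun k j => by
    change Hs k j = ((1 : ℤˣ) : ℤ) * Hs k j
    rw [Units.val_one, one_mul]⟩
  mul_mem' := by
    rintro ⟨s, g⟩ ⟨s', g'⟩ ⟨h1, h2, κ, δ, h3, h4⟩ ⟨h1', h2', κ', δ', h3', h4'⟩
    refine ⟨fun k => ?_, fun k => ?_, κ * κ', fun j => δ (κ' j) * δ' j, fun j => ?_, fun k j => ?_⟩
    · change s (s' (ng k)) = ng (s (s' k))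
      rw [h1', h1]
    · change g (g' (rowp (idx k))) = rowp (idx (s (s' k)))
      rw [h2', h2]
    · change g (g' (colp j)) = colp (κ (κ' j))
      rw [h3', h3]
    · change Hs (s (s' k)) (κ (κ' j)) = _
      rw [h4, h4', Units.val_mul, mul_assoc]
  inv_mem' := by
    rintro ⟨s, g⟩ ⟨h1, h2, κ, δ, h3, h4⟩
    have hs : ∀ k, s (s⁻¹ k) = k := fun k => s.apply_symm_apply k
    have hg : ∀ k, g (g⁻¹ k) = k := fun k => g.apply_symm_apply k
    have hκ : ∀ k, κ (κ⁻¹ k) = k := fun k => κ.apply_symm_apply k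
    refine ⟨fun k => ?_, fun k => ?_, κ⁻¹, fun j => δ (κ⁻¹ j), fun j => ?_, fun k j => ?_⟩
    · change s⁻¹ (ng k) = ng (s⁻¹ k)
      apply s.injective
      rw [hs, h1, hs]
    · change g⁻¹ (rowp (idx k)) = rowp (idx (s⁻¹ k))
      apply g.injective
      rw [hg, h2, hs]
    · change g⁻¹ (colp j) = colp (κ⁻¹ j)
      apply g.injective
      rw [hg, h3, hκ]
    · change Hs (s⁻¹ k) (κ⁻¹ j) = _
      have h5 := h4 (s⁻¹ k) (κ⁻¹ j)
      change Hs (s (s⁻¹ k)) (κ (κ⁻¹ j)) = _ at h5
      rw [hs, hκ] at h5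
      rw [h5, ← mul_assoc, ← Units.val_mul, Int.units_mul_self, Units.val_one, one_mul]

/-- a permutation of the columns from tables -/
def tp (t : List ℕ) (k : Fin 12) : Fin 12 := ⟨t.getD k 0 % 12, Nat.mod_lt _ (by norm_num)⟩

/-- signs from a table -/
def ts (t : List Bool) (k : Fin 12) : ℤˣ := if t.getD k true then 1 else -1

/-- the action of `X` on the columns -/
def cX : Equiv.Perm (Fin 12) where
  toFun := tp [10, 11, 9, 3, 0, 8, 4, 1, 2, 7, 5, 6]
  invFun := tp [4, 7, 8, 3, 6, 10, 11, 9, 5, 2, 0, 1]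
  left_inv := by decide +kernel
  right_inv := by decide +kernel

/-- the action of `Y` on the columns -/
def cY : Equiv.Perm (Fin 12) where
  toFun := tp [9, 10, 2, 8, 11, 5, 6, 7, 3, 0, 1, 4]
  invFun := tp [9, 10, 2, 8, 11, 5, 6, 7, 3, 0, 1, 4]
  left_inv := by decide +kernel
  right_inv := by decide +kernel

theorem gx_mem : gx ∈ Big :=
  ⟨by decide +kernel, by decide +kernel, cX,
    ts [true, true, true, false, false, true, false, false, false, true, true, false], by decide +kernel,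
    by decide +kernel⟩

theorem gy_mem : gy ∈ Big :=
  ⟨by decide +kernel, by decide +kernel, cY,
    ts [false, false, true, false, false, true, true, true, false, false, false, false], by decide +kernel,
    by decide +kernel⟩

theorem Gam_le : Gam ≤ Big := by
  unfold Gam
  rw [Subgroup.closure_le]
  rintro z (rfl | rfl)
  · exact gx_mem
  · exact gy_mem

/-- the group `2.M₁₂` as a type -/
abbrev Γ := ↥Gam

theorem ng_comm (g : Γ) (k : Fin 24) : g.1.1 (ng k) = ng (g.1.1 k) := (Gam_le g.2).1 k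

theorem big_inj {p : GG} (hp : p ∈ Big) (h : p.1 = 1) : p = 1 := by
  obtain ⟨h1, h2, κ, δ, h3, h4⟩ := hp
  have hκ : ∀ j, κ j = j := by
    intro j
    by_contra hne
    obtain ⟨i, i', hi⟩ := Hm_col j (κ j) (fun h => hne h.symm)
    apply hi
    have e1 := h4 (pos i) j
    have e2 := h4 (pos i') j
    rw [h] at e1 e2
    change Hs (pos i) (κ j) = _ at e1
    change Hs (pos i') (κ j) = _ at e2
    unfold Hs at e1 e2
    rw [sgn_pos, idx_pos] at e1 e2
    rw [one_mul, one_mul] at e1 e2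
    rw [e1, e2]
    ring
  apply Prod.ext
  · exact h
  · apply Equiv.ext
    intro q
    change p.2 q = q
    rcases cover q with ⟨i, rfl⟩ | ⟨j, rfl⟩
    · have := h2 (pos i)
      rw [idx_pos, h] at this
      rw [this]
      change rowp (idx (pos i)) = rowp i
      rw [idx_pos]
    · rw [h3, hκ]

/-- elements of `Γ` are determined by the signed permutation of the rows -/
theorem gext {a b : Γ} (h : a.1.1 = b.1.1) : a = b := by
  have h1 : (a * b⁻¹).1.1 = 1 := by
    change a.1.1 * (b.1.1)⁻¹ = 1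
    rw [h, mul_inv_cancel]
  have h2 := big_inj (Gam_le (a * b⁻¹).2) h1
  have h3 : a * b⁻¹ = 1 := Subtype.ext h2
  rwa [mul_inv_eq_one] at h3

/-- the value of a word -/
def ev : List ℕ → GG
  | [] => 1
  | 0 :: w => gx * ev w
  | 1 :: w => gy * ev w
  | 2 :: w => gx⁻¹ * ev w
  | _ :: w => gy⁻¹ * ev w

theorem ev_mem : ∀ w : List ℕ, ev w ∈ Gam
  | [] => Subgroup.one_mem _
  | 0 :: w => Subgroup.mul_mem _ (Subgroup.subset_closure (by simp)) (ev_mem w)
  | 1 :: w => Subgroup.mul_mem _ (Subgroup.subset_closure (by simp)) (ev_mem w)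
  | 2 :: w => Subgroup.mul_mem _ (Subgroup.inv_mem _ (Subgroup.subset_closure (by simp))) (ev_mem w)
  | (_ + 3) :: w => Subgroup.mul_mem _ (Subgroup.inv_mem _ (Subgroup.subset_closure (by simp))) (ev_mem w)

/-- an element of `Γ` from a word -/
def el (w : List ℕ) : Γ := ⟨ev w, ev_mem w⟩

/-- `-1` -/
def neg : Γ := el [0, 0, 0, 0, 0, 0, 0, 0, 0, 0, 0]

theorem neg_apply : ∀ k : Fin 24, neg.1.1 k = ng k := by decide +kernel

theorem neg_mul_neg' : neg * neg = 1 := gext (by decide +kernel)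

theorem neg_ne_one : neg ≠ 1 := by
  intro h
  have := neg_apply 0
  rw [h] at this
  revert this
  decide +kernel

theorem neg_comm (g : Γ) : neg * g = g * neg := by
  apply gext
  apply Equiv.ext
  intro k
  change neg.1.1 (g.1.1 k) = g.1.1 (neg.1.1 k)
  rw [neg_apply, neg_apply, ng_comm]

theorem closure_gens : Subgroup.closure ({el [0], el [1]} : Set Γ) = ⊤ := by
  have h1 : ∀ (z : GG) (hz : z ∈ Subgroup.closure ({gx, gy} : Set GG)),
      (⟨z, hz⟩ : Γ) ∈ Subgroup.closure ({el [0], el [1]} : Set Γ) := by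
    intro z hz
    induction hz using Subgroup.closure_induction with
    | mem z hz =>
      rcases hz with rfl | rfl
      · have : (⟨gx, Subgroup.subset_closure (by simp)⟩ : Γ) = el [0] :=
          Subtype.ext (show gx = gx * 1 from (mul_one _).symm)
        rw [this]
        exact Subgroup.subset_closure (by simp)
      · have : (⟨gy, Subgroup.subset_closure (by simp)⟩ : Γ) = el [1] :=
          Subtype.ext (show gy = gy * 1 from (mul_one _).symm)
        rw [this]
        exact Subgroup.subset_closure (by simp)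
    | one => exact Subgroup.one_mem _
    | mul a b ha hb iha ihb => exact Subgroup.mul_mem _ iha ihb
    | inv a ha iha => exact Subgroup.inv_mem _ iha
  rw [eq_top_iff]
  rintro ⟨z, hz⟩ -
  exact h1 z hz

/-- the projection to `M₁₂` -/
def sig : Γ →* Spor.M12 where
  toFun g := ⟨g.1.2, by
    rw [← M12.closure_eq]
    have h1 : g.1.2 ∈ (Subgroup.closure ({gx, gy} : Set GG)).map (MonoidHom.snd _ _) := ⟨g.1, g.2, rfl⟩
    rw [MonoidHom.map_closure] at h1
    refine Subgroup.closure_mono ?_ h1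
    rintro _ ⟨z, (rfl | rfl), rfl⟩
    · exact Or.inl rfl
    · exact Or.inr rfl⟩
  map_one' := rfl
  map_mul' _ _ := rfl

theorem sig_surjective : Function.Surjective sig := by
  rintro ⟨m, hm⟩
  have hm' := hm
  rw [← M12.closure_eq] at hm'
  have h1 : m ∈ (Subgroup.closure ({gx, gy} : Set GG)).map (MonoidHom.snd _ _) := by
    rw [MonoidHom.map_closure]
    refine Subgroup.closure_mono ?_ hm'
    rintro z (rfl | rfl)
    · exact ⟨gx, Or.inl rfl, rfl⟩
    · exact ⟨gy, Or.inr rfl, rfl⟩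
  obtain ⟨g, hg, hgm⟩ := h1
  exact ⟨⟨g, hg⟩, Subtype.ext hgm⟩

/-- the kernel of `sig` -/
theorem eq_of_sig {g : Γ} (h : sig g = 1) : g = 1 ∨ g = neg := by
  obtain ⟨h1, h2, κ, δ, h3, h4⟩ := Gam_le g.2
  have hg : g.1.2 = 1 := congrArg Subtype.val h
  have hidx : ∀ k, idx (g.1.1 k) = idx k := by
    intro k
    have := h2 k
    rw [hg] at this
    exact (rowp_inj _ _ this).symm
  have hκ : ∀ j, κ j = j := by
    intro j
    have := h3 j
    rw [hg] at this
    exact (colp_inj _ _ this).symm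
  -- the signs
  have hsg : ∀ i j, sgn (g.1.1 (pos i)) = δ j := by
    intro i j
    have h5 := h4 (pos i) j
    unfold Hs at h5
    rw [hidx, idx_pos, hκ, sgn_pos, one_mul] at h5
    exact mul_right_cancel₀ (Hm_ne_zero i j) h5
  have hall : ∀ i, sgn (g.1.1 (pos i)) = sgn (g.1.1 (pos 0)) := fun i => by rw [hsg i 0, hsg 0 0]
  rcases sgn_cases (g.1.1 (pos 0)) with h0 | h0
  · left
    apply gext
    apply Equiv.ext
    intro k
    change g.1.1 k = k
    have hp : ∀ i, g.1.1 (pos i) = pos i := fun i => ext_pt _ _ (hidx _) (by rw [hall, h0, sgn_pos])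
    rcases eq_pos_or k with hk | hk
    · rw [hk, hp]
    · rw [hk, h1, hp]
  · right
    apply gext
    apply Equiv.ext
    intro k
    rw [neg_apply]
    have hp : ∀ i, g.1.1 (pos i) = ng (pos i) := fun i => ext_pt _ _ (by rw [hidx, idx_ng])
      (by rw [hall, h0, sgn_ng, sgn_pos])
    rcases eq_pos_or k with hk | hk
    · rw [hk, hp]
    · rw [hk, h1, hp]

theorem sig_neg : sig neg = 1 := by
  apply Subtype.ext
  apply Equiv.ext
  change ∀ p : GolayPt, neg.1.2 p = p
  decide +kernel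

end Cfsg.Agent.H932.Mt
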