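import Mathlib

/-!
# Linear algebra for `2.M₁₂`: eigenspaces of involutions (helper932)

* `es A c` : the `c`-eigenspace; `split` : `A² = c²` on an `A`-stable subspace `W`;
* `anti` : `A B = - B A` on `W`, `B` injective: the `c`- and `-c`-eigenspaces of `A` in `W` have the same dimension;
* `even_of_anti` : `A B = - B A`, both injective on `W` : `dim W` is even (determinants).
-/

set_option autoImplicit false
set_option linter.unusedSectionVars false

namespace Cfsg.Agent.H932.Mt

open Module

section lin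

variable {F V : Type*} [Field F] [AddCommGroup V] [Module F V] [FiniteDimensional F V]

/-- the `c`-eigenspace of `A` -/
def es (A : Module.End F V) (c : F) : Submodule F V where
  carrier := {v | A v = c • v}
  add_mem' {v w} hv hw := by
    change A (v + w) = c • (v + w)
    rw [map_add, show A v = c • v from hv, show A w = c • w from hw, smul_add]
  zero_mem' := by
    change A 0 = c • 0
    rw [map_zero, smul_zero]
  smul_mem' a v hv := by
    change A (a • v) = c • (a • v)
    rw [map_smul, show A v = c • v from hv, smul_comm]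

theorem mem_es {A : Module.End F V} {c : F} {v : V} : v ∈ es A c ↔ A v = c • v := Iff.rfl

theorem mem_es_one {A : Module.End F V} {v : V} : v ∈ es A 1 ↔ A v = v := by
  rw [mem_es, one_smul]

theorem mem_es_neg_one {A : Module.End F V} {v : V} : v ∈ es A (-1) ↔ A v = -v := by
  rw [mem_es, neg_one_smul]

theorem le_of_inj {U U' : Submodule F V} (B : Module.End F V) (h : ∀ v ∈ U, B v ∈ U') (hinj : ∀ v ∈ U, B v = 0 → v = 0) :
    finrank F U ≤ finrank F U' := by
  let f : U →ₗ[F] U' := B.restrict h
  have hf : Function.Injective f := by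
    rw [← LinearMap.ker_eq_bot, LinearMap.ker_eq_bot']
    intro v hv
    have h1 : B v = 0 := congrArg Subtype.val hv
    exact Subtype.ext (hinj v v.2 h1)
  exact LinearMap.finrank_le_finrank_of_injective hf

theorem split (W : Submodule F V) (A : Module.End F V) {c : F} (hc : 2 * c ≠ 0) (hA : ∀ v ∈ W, A v ∈ W)
    (hA2 : ∀ v ∈ W, A (A v) = (c * c) • v) :
    finrank F W = finrank F (W ⊓ es A c : Submodule F V) + finrank F (W ⊓ es A (-c) : Submodule F V) := by
  have h1 : (W ⊓ es A c) ⊔ (W ⊓ es A (-c)) = W := by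
    apply le_antisymm (sup_le inf_le_left inf_le_left)
    intro v hv
    rw [Submodule.mem_sup]
    refine ⟨(2 * c)⁻¹ • (c • v + A v), ⟨W.smul_mem _ (W.add_mem (W.smul_mem _ hv) (hA v hv)), ?_⟩,
      (2 * c)⁻¹ • (c • v - A v), ⟨W.smul_mem _ (W.sub_mem (W.smul_mem _ hv) (hA v hv)), ?_⟩, ?_⟩
    · rw [SetLike.mem_coe, mem_es, map_smul, map_add, map_smul, hA2 v hv, smul_comm c ((2 * c)⁻¹)]
      congr 1
      rw [smul_add, smul_smul]
      abel
    · rw [SetLike.mem_coe, mem_es, map_smul, map_sub, map_smul, hA2 v hv, smul_comm (-c) ((2 * c)⁻¹)]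
      congr 1
      rw [smul_sub, smul_smul, neg_smul, neg_mul, neg_smul]
      abel
    · rw [← smul_add]
      have : c • v + A v + (c • v - A v) = (2 * c) • v := by
        rw [two_mul, add_smul]
        abel
      rw [this, smul_smul, inv_mul_cancel₀ hc, one_smul]
  have h2 : (W ⊓ es A c) ⊓ (W ⊓ es A (-c)) = ⊥ := by
    rw [eq_bot_iff]
    rintro v ⟨⟨_, h3⟩, ⟨_, h4⟩⟩
    have h5 : (2 * c) • v = 0 := by
      have h6 : c • v = (-c) • v := (mem_es.1 h3).symm.trans (mem_es.1 h4)
      rw [neg_smul] at h6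
      rw [two_mul, add_smul]
      nth_rewrite 1 [h6]
      rw [neg_add_cancel]
    exact (smul_eq_zero.1 h5).resolve_left hc
  have h3 := Submodule.finrank_sup_add_finrank_inf_eq (W ⊓ es A c) (W ⊓ es A (-c))
  rw [h1, h2, finrank_bot, add_zero] at h3
  exact h3

theorem anti_le (W : Submodule F V) (A B : Module.End F V) (c : F) (hB : ∀ v ∈ W, B v ∈ W)
    (hinj : ∀ v ∈ W, B v = 0 → v = 0) (hAB : ∀ v ∈ W, A (B v) = -(B (A v))) :
    finrank F (W ⊓ es A c : Submodule F V) ≤ finrank F (W ⊓ es A (-c) : Submodule F V) := by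
  apply le_of_inj B
  · rintro v ⟨hv, hv'⟩
    refine ⟨hB v hv, ?_⟩
    rw [SetLike.mem_coe, mem_es, hAB v hv, mem_es.1 hv', map_smul, neg_smul]
  · rintro v ⟨hv, _⟩
    exact hinj v hv

theorem anti (W : Submodule F V) (A B : Module.End F V) (c : F) (hB : ∀ v ∈ W, B v ∈ W)
    (hinj : ∀ v ∈ W, B v = 0 → v = 0) (hAB : ∀ v ∈ W, A (B v) = -(B (A v))) :
    finrank F (W ⊓ es A c : Submodule F V) = finrank F (W ⊓ es A (-c) : Submodule F V) := by
  apply le_antisymm (anti_le W A B c hB hinj hAB)
  have := anti_le W A B (-c) hB hinj hAB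
  rwa [neg_neg] at this

theorem even_of_anti (h2 : (2 : F) ≠ 0) (W : Submodule F V) (A B : Module.End F V) (hA : ∀ v ∈ W, A v ∈ W)
    (hB : ∀ v ∈ W, B v ∈ W) (hiA : ∀ v ∈ W, A v = 0 → v = 0) (hiB : ∀ v ∈ W, B v = 0 → v = 0)
    (hAB : ∀ v ∈ W, A (B v) = -(B (A v))) : Even (finrank F W) := by
  let a : W →ₗ[F] W := A.restrict hA
  let b : W →ₗ[F] W := B.restrict hB
  have ha : LinearMap.det a ≠ 0 := by
    intro h
    have h1 := LinearMap.bot_lt_ker_of_det_eq_zero h
    apply h1.ne'
    rw [LinearMap.ker_eq_bot']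
    intro v hv
    exact Subtype.ext (hiA v v.2 (congrArg Subtype.val hv))
  have hb : LinearMap.det b ≠ 0 := by
    intro h
    have h1 := LinearMap.bot_lt_ker_of_det_eq_zero h
    apply h1.ne'
    rw [LinearMap.ker_eq_bot']
    intro v hv
    exact Subtype.ext (hiB v v.2 (congrArg Subtype.val hv))
  have hab : a * b = (-1 : F) • (b * a) := by
    apply LinearMap.ext
    intro v
    apply Subtype.ext
    change A (B v) = (-1 : F) • B (A v)
    rw [neg_one_smul]
    exact hAB v v.2
  have h3 := congrArg LinearMap.det hab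
  rw [map_mul, LinearMap.det_smul, map_mul, mul_comm (LinearMap.det b)] at h3
  have h4 : (-1 : F) ^ finrank F W = 1 := by
    have h5 : ((-1 : F) ^ finrank F W - 1) * (LinearMap.det a * LinearMap.det b) = 0 := by
      linear_combination -h3
    rcases mul_eq_zero.1 h5 with h6 | h6
    · exact sub_eq_zero.1 h6
    · exact absurd h6 (mul_ne_zero ha hb)
  by_contra hodd
  rw [Nat.not_even_iff_odd] at hodd
  rw [hodd.neg_one_pow] at h4
  apply h2
  linear_combination -h4

theorem finrank_inf_top (U : Submodule F V) : finrank F ((⊤ : Submodule F V) ⊓ U : Submodule F V) = finrank F U := by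
  rw [top_inf_eq]

/-- two subspaces with large dimensions meet -/
theorem exists_inf {U U' : Submodule F V} (h : finrank F V < finrank F U + finrank F U') :
    ∃ v ∈ U ⊓ U', v ≠ 0 := by
  have h1 := Submodule.finrank_sup_add_finrank_inf_eq U U'
  have h2 := Submodule.finrank_le (U ⊔ U')
  have h3 : 0 < finrank F (U ⊓ U' : Submodule F V) := by omega
  have h4 : U ⊓ U' ≠ ⊥ := by
    intro h5
    rw [h5, finrank_bot] at h3
    exact absurd h3 (lt_irrefl _)
  exact (Submodule.ne_bot_iff _).1 h4

end lin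

end Cfsg.Agent.H932.Mt
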