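import Cfsg.Agent.H932.MtPairDat

/-!
# Vectors fixed by `K = ⟨t, u, c⟩` (helper932)

* `out : Γ →* Γ` : the outer automorphism; `out_out`;
* `vs ρ v k j` : the images of a `K`-fixed vector `v`, indexed by the signed rows `k` and the columns `j`; `act2`;
* `dual ρ` : the dual representation, `Odd12.dual`;
* `exists_fixK` : a `K`-fixed vector, characteristic not 2.
-/

set_option autoImplicit false
set_option linter.unusedSectionVars false

namespace Cfsg.Agent.H932.Mt

open Module

theorem inter_unique {g a c : Γ} (ha : inter g a) (hc : inter g c) : a = c := by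
  apply gext
  apply Equiv.ext
  intro l
  apply Hh_inj
  intro k
  have h1 := ha ((g⁻¹).1.1 k) l
  have h2 := hc ((g⁻¹).1.1 k) l
  have h3 : g.1.1 ((g⁻¹).1.1 k) = k := g.1.1.apply_symm_apply k
  rw [h3] at h1 h2
  rw [h1, h2]

/-- the outer automorphism of `Γ` -/
noncomputable def out : Γ →* Γ where
  toFun g := (exists_inter g).choose
  map_one' := inter_unique (exists_inter 1).choose_spec (fun _ _ => rfl)
  map_mul' a c := inter_unique (exists_inter (a * c)).choose_spec (fun k l =>
    ((exists_inter a).choose_spec _ _).trans ((exists_inter c).choose_spec k l))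

theorem inter_out (g : Γ) : inter g (out g) := (exists_inter g).choose_spec

theorem out_eq {g g' : Γ} (h : inter g g') : out g = g' := inter_unique (inter_out g) h

theorem Hh_symm (k l : Fin 24) : Hh k l = Hh l k := by
  unfold Hh
  rw [Hm_symm, mul_comm (sgn k)]

theorem inter_symm {g g' : Γ} (h : inter g g') : inter g' g := by
  intro k l
  rw [Hh_symm, h, Hh_symm]

theorem out_out (g : Γ) : out (out g) = g := out_eq (inter_symm (inter_out g))

theorem out_neg : out neg = neg := out_eq inter_neg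

/-- the action on the columns -/
noncomputable def ci (g : Γ) (j : Fin 12) : Fin 12 := idx ((out g).1.1 (pos j))

theorem ci_mul (a c : Γ) (j : Fin 12) : ci (a * c) j = ci a (ci c j) := by
  unfold ci
  rw [map_mul]
  change idx ((out a).1.1 ((out c).1.1 (pos j))) = _
  apply idx_congr
  rw [idx_pos]

theorem ci_one (j : Fin 12) : ci 1 j = j := by
  unfold ci
  rw [map_one]
  exact idx_pos j

theorem ci_inv (a : Γ) (j : Fin 12) : ci a (ci a⁻¹ j) = j := by
  rw [← ci_mul, mul_inv_cancel, ci_one]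

theorem ci_idx (g : Γ) (l : Fin 24) : ci g (idx l) = idx ((out g).1.1 l) := by
  unfold ci
  apply idx_congr
  rw [idx_pos]

theorem ci_neg (j : Fin 12) : ci neg j = j := by
  unfold ci
  rw [out_neg, neg_apply, idx_ng, idx_pos]

theorem evK_eq : ∀ w : List ℕ, out (evK w) = evK' w
  | [] => map_one out
  | 0 :: w => by
    have h1 : evK (0 :: w) = gt * evK w := by with_unfolding_all rfl
    have h2 : evK' (0 :: w) = gu * evK' w := by with_unfolding_all rfl
    rw [h1, h2, map_mul, evK_eq w, out_eq inter_tu]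
  | 1 :: w => by
    have h1 : evK (1 :: w) = gu * evK w := by with_unfolding_all rfl
    have h2 : evK' (1 :: w) = gt * evK' w := by with_unfolding_all rfl
    rw [h1, h2, map_mul, evK_eq w, out_eq inter_ut]
  | (n + 2) :: w => by
    have h1 : evK ((n + 2) :: w) = gc * evK w := by with_unfolding_all rfl
    have h2 : evK' ((n + 2) :: w) = oc * evK' w := by with_unfolding_all rfl
    rw [h1, h2, map_mul, evK_eq w, out_eq inter_oc]

section rep

variable {F V : Type*} [Field F] [AddCommGroup V] [Module F V] [FiniteDimensional F V]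

/-- the images of a `K`-fixed vector -/
def vs (ρ : Γ →* Module.End F V) (v : V) (k : Fin 24) (j : Fin 12) : V := ρ (sg k * rp2 (idx k) j) v

variable {ρ : Γ →* Module.End F V} {v : V}

/-- fixed by `K` -/
structure FixK (ρ : Γ →* Module.End F V) (v : V) : Prop where
  t : ρ gt v = v
  u : ρ gu v = v
  c : ρ gc v = v

theorem evK_fix (hK : FixK ρ v) (w : List ℕ) : ρ (evK w) v = v := by
  induction w with
  | nil => exact rone ρ v
  | cons a w ih =>
    rcases a with _ | _ | a
    · have h1 : evK (0 :: w) = gt * evK w := by with_unfolding_all rfl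
      rw [h1, rmul, ih, hK.t]
    · have h1 : evK (1 :: w) = gu * evK w := by with_unfolding_all rfl
      rw [h1, rmul, ih, hK.u]
    · have h1 : evK ((a + 2) :: w) = gc * evK w := by with_unfolding_all rfl
      rw [h1, rmul, ih, hK.c]

theorem vs_ng (k : Fin 24) (j : Fin 12) : vs ρ v (ng k) j = ρ neg (vs ρ v k j) := by
  unfold vs
  rw [sg_ng, idx_ng, mul_assoc, rmul]

theorem vs_pos (i j : Fin 12) : vs ρ v (pos i) j = ρ (rp2 i j) v := by
  unfold vs sg
  rw [sgn_pos, if_pos rfl, idx_pos, one_mul]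

theorem vs_zero : vs ρ v (pos 0) 0 = v := by
  rw [vs_pos, rp2_zero, rone]

theorem act2_of {a a' : Γ} {π : Equiv.Perm (Fin 24)} (ha : a.1.1 = π) (haa : out a = a') {ts : List (List (List ℕ))}
    (hsch : ∀ i j : Fin 12, (a * rp2 i j).1.1
      = (sg (π (pos i)) * rp2 (idx (π (pos i))) (idx (a'.1.1 (pos j))) * evK (gt2 [] ts i j)).1.1)
    (hK : FixK ρ v) (k : Fin 24) (j : Fin 12) :
    ρ a (vs ρ v k j) = vs ρ v (a.1.1 k) (ci a j) := by
  have h1 : ∀ i, ρ a (vs ρ v (pos i) j) = vs ρ v (a.1.1 (pos i)) (ci a j) := by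
    intro i
    rw [vs_pos, ← rmul, gext (hsch i j), rmul, evK_fix hK, ha]
    unfold vs ci
    rw [haa]
  rcases eq_pos_or k with hk | hk
  · rw [hk, h1]
  · rw [hk, vs_ng, ← rmul, ← neg_comm, rmul, h1, ng_comm, vs_ng]

theorem act2 (hK : FixK ρ v) (g : Γ) : ∀ k j, ρ g (vs ρ v k j) = vs ρ v (g.1.1 k) (ci g j) := by
  have hg : g ∈ Subgroup.closure ({el [0], el [1]} : Set Γ) := by rw [closure_gens]; trivial
  induction hg using Subgroup.closure_induction with
  | mem z hz =>
    intro k j
    rcases hz with rfl | rfl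
    · exact act2_of (π := px) (mul_one _) (out_eq inter_oX) sch2_x hK k j
    · exact act2_of (π := py) (mul_one _) (out_eq inter_oY) sch2_y hK k j
  | one =>
    intro k j
    rw [rone, ci_one]
    rfl
  | mul a c _ _ iha ihc =>
    intro k j
    rw [rmul, ihc, iha, ci_mul]
    rfl
  | inv a _ iha =>
    intro k j
    have h1 := iha ((a⁻¹).1.1 k) (ci a⁻¹ j)
    have h2 : a.1.1 ((a⁻¹).1.1 k) = k := a.1.1.apply_symm_apply k
    rw [h2, ci_inv] at h1
    rw [← h1, rinv]

/-- the dual representation -/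
def dual (ρ : Γ →* Module.End F V) : Γ →* Module.End F (Module.Dual F V) where
  toFun g := (ρ g⁻¹).dualMap
  map_one' := by
    ext f v
    rw [LinearMap.dualMap_apply, inv_one, rone]
    rfl
  map_mul' a c := by
    ext f v
    rw [LinearMap.dualMap_apply, mul_inv_rev, rmul]
    rfl

theorem dual_apply (g : Γ) (f : Module.Dual F V) (v : V) : dual ρ g f v = f (ρ g⁻¹ v) := rfl

theorem Odd12.dual (H : Odd12 ρ) : Odd12 (Mt.dual ρ) where
  two := H.two
  dim := by rw [Subspace.dual_finrank_eq, H.dim]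
  ns := by
    intro g hg c hc
    have h1 : ρ g⁻¹ = c • (1 : Module.End F V) := by
      apply LinearMap.ext
      intro v
      have h2 : ∀ f : Module.Dual F V, f (ρ g⁻¹ v - c • v) = 0 := by
        intro f
        have h3 : Mt.dual ρ g f v = (c • (1 : Module.End F (Module.Dual F V))) f v := by rw [hc]
        rw [dual_apply] at h3
        rw [map_sub, h3, map_smul]
        exact sub_self _
      have h4 := (Module.forall_dual_apply_eq_zero_iff F _).1 h2
      rw [sub_eq_zero] at h4
      exact h4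
    exact H.ns g⁻¹ (by rwa [map_inv, ne_eq, inv_eq_one]) c h1

theorem Irr.neg_dual (hI : Irr ρ) : Mt.dual ρ neg = 1 ∨ Mt.dual ρ neg = -1 := by
  have hn : neg⁻¹ = neg := by rw [inv_eq_iff_mul_eq_one, neg_mul_neg']
  rcases neg_cases hI with h | h
  · left
    ext f v
    rw [dual_apply, hn, h]
    rfl
  · right
    ext f v
    rw [dual_apply, hn, h]
    change f (-v) = -(f v)
    rw [map_neg]

/-- **A vector fixed by `K`.** -/
theorem Odd12.exists_fixK (H : Odd12 ρ) (hn : ρ neg = 1 ∨ ρ neg = -1) : ∃ v : V, v ≠ 0 ∧ FixK ρ v := by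
  have n8 := H.n8 hn
  have hs := H.sum_t
  have h1 := H.two_mul_u
  have hu : finrank F (es (ρ gu) 1) = 8 := by rw [← es_conj ρ htu_rel, n8]
  have hc : finrank F (es (ρ gc) 1) = 8 := by rw [← es_conj ρ htc_rel, n8]
  have h2 := H.sp (es (ρ gu) 1) (ρ gt) (fun v hv => by
    rw [mem_es_one] at hv ⊢
    rw [req ρ ut, hv]) (fun v _ => H.T_T v)
  rw [inf_comm (es (ρ gu) 1) (es (ρ gt) (-1))] at h2
  obtain ⟨v, hv, hv0⟩ := exists_inf (U := es (ρ gu) 1 ⊓ es (ρ gt) 1) (U' := es (ρ gc) 1) (by rw [H.dim]; omega)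
  exact ⟨v, hv0, mem_es_one.1 hv.1.2, mem_es_one.1 hv.1.1, mem_es_one.1 hv.2⟩

/-- a functional fixed by `K` -/
theorem Odd12.exists_functional (H : Odd12 ρ) (hI : Irr ρ) :
    ∃ f : Module.Dual F V, f ≠ 0 ∧ (∀ v, f (ρ gt v) = f v) ∧ (∀ v, f (ρ gu v) = f v) ∧ ∀ v, f (ρ gc v) = f v := by
  obtain ⟨f, hf0, hf⟩ := H.dual.exists_fixK hI.neg_dual
  have key : ∀ g, Mt.dual ρ g f = f → ∀ v, f (ρ g v) = f v := by
    intro g hg v
    nth_rewrite 1 [← hg]
    rw [dual_apply, rinv]
  exact ⟨f, hf0, key _ hf.t, key _ hf.u, key _ hf.c⟩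

end rep

end Cfsg.Agent.H932.Mt
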