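import Cfsg.Agent.H932.MtOut

/-!
# Tables for the action of `2.M₁₂` on pairs (row, column) (helper932)

`K = ⟨t, u, c⟩ ≅ L₂(11)` is the stabiliser of the first row and the first column (generated by program, checked by the
kernel).
-/

set_option autoImplicit false

namespace Cfsg.Agent.H932.Mt

/-- words for the representatives of the pairs -/
def trp : List (List (List ℕ)) :=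
  [[[], [1, 0, 1, 2, 2, 2, 2, 2, 2], [2, 2, 2, 2, 1, 2], [2, 1, 0, 0, 1, 2, 1, 2], [0, 0, 0, 0, 0, 1], [2, 1, 0, 0, 1, 0, 0, 0], [0, 1, 2, 1, 0, 0, 0, 0, 0], [1, 2, 2, 2, 2, 2], [2, 1, 0, 1, 0, 1, 0, 0, 0], [0, 1, 0, 0, 0, 0], [2, 1, 2, 2, 2, 1], [1, 0, 0, 0, 1, 0]],
   [[0, 1, 2, 2, 1, 2, 2, 2], [2, 1, 2, 1, 0, 0, 0, 0, 0], [2, 2, 1, 2, 2, 2, 2, 2], [1, 2, 1, 0, 0, 0, 0], [1, 0, 0, 0, 1], [0, 0, 0, 0, 0, 0, 1, 0], [2, 2], [2, 2, 1, 0, 0, 0, 1, 0], [2, 1, 0, 0, 0, 0], [1, 0, 1, 2, 2, 1, 2, 2, 2], [1, 2, 1, 2, 1, 0, 0, 0, 0, 0], [0, 0, 0, 1]],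
   [[0, 0, 0, 1, 2], [0, 0, 0, 0, 0, 0, 0], [0, 1, 2, 1, 0, 0, 0], [2, 2, 2, 1, 2, 2, 1], [1, 2, 1, 2, 1, 2, 2, 2], [0, 0, 1, 0, 0, 0, 0, 0], [0, 1, 2, 2, 2, 2, 2, 2, 1], [0, 1, 0, 1, 0, 1, 0], [1, 2, 2, 2, 1, 2, 2, 1], [1, 0, 0, 0, 1, 2], [2, 1, 0, 1, 0, 0, 1], [2, 1, 2, 1, 2, 2, 2]],
   [[0, 0, 0, 0, 0, 0, 1], [0, 1, 2, 2, 2, 2, 2], [1, 0, 1, 0, 1, 0, 0, 0], [1, 0, 0, 1, 2, 1, 2], [1, 0, 1, 2, 2, 2, 2, 1], [1, 2, 2, 2, 1], [0, 1, 0, 0, 0, 1, 0], [0, 0, 1, 0, 0, 0, 0], [1, 0, 0, 1, 0, 0, 0], [2, 2, 2, 1, 2], [0], [0, 1, 0, 1, 2, 2, 2, 2, 2, 2]],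
   [[0, 1, 2, 2, 1, 0, 1, 0], [1, 0, 0, 0, 0, 0, 1, 0], [0, 1, 2, 2, 1, 2, 2, 1], [1, 2, 2, 2, 1, 2, 2, 2, 2, 2], [1, 2, 2, 2], [1, 0, 1, 2, 2, 2, 2], [1, 2, 1, 0, 0, 0, 1], [2, 1, 0, 0, 0, 0, 1, 2], [0, 0, 1, 0, 0, 1], [0, 0, 0, 0, 1, 0, 0, 1], [1, 0, 0, 1], [2, 2, 1, 2, 2, 2]],
   [[1, 2, 1, 0, 0, 0, 0, 0, 0], [0, 1, 0, 0, 1, 0, 0, 0, 0], [0, 0, 0, 1, 2, 1, 2], [0, 0, 0, 1, 0, 0, 0], [2, 1, 2, 2, 2, 2, 2, 2], [2, 2, 1, 2, 2, 2, 2, 1, 2], [0, 0, 1, 2, 2, 2, 2, 1], [0, 1, 0, 0, 0, 0, 0, 0, 1], [2, 2, 1], [0, 0, 1, 0, 1, 0, 0, 0], [1, 2, 1, 0, 0, 1, 2], [0, 1, 0]],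
   [[0, 1, 0, 1, 2, 2, 2, 2, 1], [0, 0, 0, 1, 0, 0, 0, 0], [0, 1, 0, 0, 1, 0, 0, 0], [1, 0, 1, 2, 2, 2, 1], [2, 1, 2, 2, 1, 0], [0, 0], [2, 2, 1, 2, 1, 2, 2, 2, 2, 2], [2, 2, 1, 2], [0, 1, 2, 2, 2, 1], [0, 1, 0, 1, 0, 1, 0, 0, 0], [0, 0, 0, 0, 0, 0, 0, 1], [1, 2, 1, 2, 2, 1, 0]],
   [[1, 2, 2, 2, 1, 2], [1, 0], [0, 1, 0, 1, 0, 0, 0], [0, 0, 1, 0, 0, 0], [2, 1, 2, 1, 0, 0, 0, 0, 0, 0], [2, 2, 2, 1], [1, 0, 1, 0, 0, 0, 1, 0], [1, 0, 0, 1, 0, 0, 0, 0], [0, 0, 1, 2, 1, 2], [1, 0, 0, 0, 0, 0, 0, 1], [1, 0, 1, 2, 2, 2, 2, 2], [0, 1, 2, 2, 2, 2, 1]],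
   [[0, 1, 2, 2, 1, 0, 0, 0, 1], [0, 0, 1], [1, 0, 1, 2, 2, 1, 2, 2, 1], [1, 0, 0, 1, 0, 0, 1], [1, 2, 2, 1, 2, 2, 2], [0, 1, 2, 2, 2, 2], [2, 1, 0, 0, 0, 1], [0, 1, 0, 0, 0, 0, 1, 0], [2, 2, 2, 1, 2, 2, 2, 2, 2], [2, 2, 2, 1, 0, 0, 0, 1, 0], [0, 0, 0, 0, 0, 1, 0], [2, 2, 2]],
   [[0, 0, 1, 2, 1, 2, 2, 2], [2, 1, 0, 0, 1, 2], [0, 1, 2, 1, 2, 2, 1], [1, 2, 2, 1], [1, 0, 1, 0], [2, 1, 2, 2, 2, 2, 1, 2, 2, 1], [2, 2, 2, 2, 2, 2, 2, 1], [2, 1, 0, 1, 0, 0, 0, 0, 0], [2, 2, 2, 2, 1, 0], [2, 1, 0, 0, 0, 0, 0, 0], [1, 0, 1, 0, 0, 1, 0, 0, 0, 0], [0, 0, 0, 1, 0, 0, 0, 1, 2]],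
   [[2, 1, 2, 2, 2, 2], [1, 2, 1, 2, 2, 2, 1], [1, 2, 2, 2, 2, 1, 2], [0, 0, 0, 0, 0, 1, 0, 0, 0], [0, 0, 0, 1, 0], [1, 2, 1, 0, 0, 1, 0, 0, 0], [2, 1, 2, 2, 1, 0, 0, 0, 1], [2, 2, 2, 2, 2], [0, 0, 1, 2, 1, 0, 0, 1, 2], [1], [0, 1, 2, 2, 2, 2, 2, 2], [1, 0, 0, 0, 0, 0, 1]],
   [[1, 0, 0, 0, 0, 0], [0, 0, 1, 2, 2, 2, 2, 2, 1], [2, 1, 0, 1, 0, 1, 0], [1, 2, 1, 2, 2, 2, 1, 0], [0, 1, 0, 0, 0, 0, 1], [2, 1, 2, 1, 0, 0, 0], [0, 1, 2], [0, 1, 0, 1, 0, 0, 0, 1], [2, 1, 2, 2, 2, 1, 0], [0, 0, 0, 0, 0], [0, 1, 2, 1, 2, 2, 2, 2, 2], [1, 0, 1, 0, 0, 0, 0, 1]]]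

/-- Schreier words for `X` -/
def tpx : List (List (List ℕ)) :=
  [[[], [], [], [], [], [], [0, 2, 1], [], [], [], [], []],
   [[2, 0, 2, 1, 2, 1, 0, 2, 1, 2], [1, 2, 1, 2, 1, 0, 2, 0, 2, 1, 0], [], [0, 2, 1], [2, 1, 2, 0, 2, 1, 2, 1, 0], [], [2, 0, 2, 1, 2, 0, 2, 1, 2], [2, 1, 2, 0, 2, 1, 2, 0, 2], [0, 2, 1], [1, 2, 1, 0, 2, 0, 2, 1, 0, 2, 1], [0, 2, 0, 2, 1, 2, 1, 0, 2, 0, 2], []],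
   [[2, 0, 2, 1, 2, 0, 2, 1, 2], [], [1, 2, 1, 2, 1, 0], [1, 2, 1, 0, 2, 1, 0, 2], [1, 0, 2, 1, 2, 0, 2, 1, 2], [2, 0, 2, 1, 0, 2, 0, 2, 1, 2], [2, 0, 2, 1, 2, 0, 2, 1], [2, 1, 2, 0, 2, 1, 2, 0, 2], [2, 1, 0, 2, 1, 0, 2, 0], [2, 0, 2, 1, 2, 0, 2, 1, 2], [2, 1, 2, 0, 2, 1, 2, 1, 0], [1, 0, 2, 1, 2, 0, 2, 1, 2]],
   [[], [0, 2, 0, 2, 1, 2, 0, 2], [], [2, 1, 2, 0, 2, 1, 2, 0], [], [], [1, 0, 2, 0, 2, 1, 0, 2, 1, 2, 0, 2], [], [], [], [], [2, 0, 2, 1, 0, 2, 0, 2, 1, 2, 0, 2, 0]],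
   [[2, 1, 2, 1], [0, 2, 1, 2, 1, 0, 2, 0, 2, 1, 0], [1, 2, 1, 0, 2, 1, 0, 2], [2, 0, 2, 1, 0, 2, 1, 2, 1], [2, 0, 2, 1, 2, 0, 2, 1, 2], [1, 0, 2, 1, 2, 0, 2, 1, 2], [2, 1, 2, 0, 2, 1, 2, 1, 0], [2, 0, 2, 1, 2, 0, 2, 1, 2], [2, 1, 0, 2, 1, 0, 2, 1], [2, 0, 2, 1, 0, 2, 1, 2, 0, 2, 1, 0], [2, 1, 2, 0, 2, 1, 2, 1, 0], [1, 0, 2, 1, 2, 0, 2, 1, 2]],
   [[], [1, 2, 1, 0, 2, 0, 2, 1, 0], [2, 0, 2, 1, 2, 0, 2, 1, 2], [0, 2, 0, 2, 1, 2, 0, 2, 1, 2], [], [2, 0, 2, 1, 2, 0, 2, 1, 2], [1, 2, 1, 2, 0], [], [2, 0, 2, 1, 2, 0, 2, 1, 2], [1, 2, 1, 2, 0, 2, 1, 0, 2, 0], [2, 0], [2, 1, 2, 0, 2, 1, 2, 0, 2]],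
   [[0, 2, 1, 2, 0, 2, 1, 2], [0, 2, 0, 2, 1, 0, 2, 1, 2, 1, 0, 2], [1, 2, 1, 0, 2, 1, 0], [1, 2, 0], [2, 1, 2, 0, 2, 1, 2, 0, 2], [2, 1, 2, 0, 2, 1, 2, 0, 2], [], [2, 0, 2, 1, 2, 0, 2, 1, 2], [1, 2, 0], [1, 2, 1, 0, 2, 1, 0, 2], [], [1, 2, 1, 2, 0, 2, 1, 2, 0, 2, 1]],
   [[2, 1, 2, 1, 0, 2, 1, 0], [], [], [], [], [], [2, 0, 2, 0, 2, 1, 2, 1, 0], [], [], [], [1, 0, 2, 1, 2, 0, 2, 1, 0, 2, 0, 2], []],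
   [[0, 2, 1, 0, 2, 1, 0, 2, 0], [], [0, 2, 0, 2, 1, 2, 0, 2], [1, 2, 1, 2, 1, 0, 2, 1, 0, 2, 0], [], [2, 0, 2, 0, 2, 1, 0, 2], [], [2, 1, 2, 0, 2, 1, 0, 2, 0, 2, 1, 0], [], [], [], []],
   [[2, 1, 2, 0, 2, 0, 2, 0], [2, 0, 2, 1, 2, 0, 2, 1, 2], [1, 2, 0], [0, 2, 1, 2], [2, 1, 2, 0, 2, 1, 2, 0, 2], [1, 2, 0, 2, 1, 0, 2, 1, 0, 2, 0], [], [], [2, 1, 2, 0, 2, 1, 2, 0, 2], [], [0, 2, 1, 2, 0, 2, 1], [1, 0, 2, 0, 2, 1, 0, 2, 1, 2, 1]],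
   [[1, 0, 2, 1, 2, 0, 2, 1, 2], [2, 1, 0, 2, 0, 2], [2, 1, 2, 0, 2, 1, 2, 0, 2, 1, 0], [0, 2, 1, 2, 0, 2, 1], [2, 1, 2, 0, 2, 1, 2, 0, 2], [0, 2, 1, 0, 2, 1, 0, 2, 0, 2, 1], [2, 1, 2, 0, 2, 1, 2, 1, 0], [], [2, 0], [2, 0, 2, 1, 2, 0, 2, 1, 2], [], []],
   [[], [0, 2, 0, 2, 1, 2, 1, 0, 2, 0, 2, 0], [2, 1, 2, 0, 2, 1, 2, 0, 2], [2, 1, 2, 0, 2, 1, 2, 0, 2, 0], [0, 2, 0, 2, 1, 0, 2, 1, 2, 1, 0, 2], [0, 2], [2, 0, 2, 1, 2, 0, 2, 1, 2], [1, 0, 2, 1, 2, 1, 0, 2, 0], [2, 1, 2, 0, 2, 1, 2, 0, 2], [], [2, 0, 2], [0, 2, 1, 2, 0, 2, 1, 0, 2, 0]]]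

/-- Schreier words for `Y` -/
def tpy : List (List (List ℕ)) :=
  [[[], [], [], [2, 1, 2, 0, 2, 1, 2], [], [], [1, 0, 2, 1, 0, 2, 1, 0], [], [2, 0, 2, 0, 2, 1, 2, 1, 0], [1, 0, 2, 0, 2, 1, 2, 1, 0, 2, 0, 2], [], []],
   [[], [], [0, 2, 0, 2, 1, 2, 0, 2, 0], [], [], [0, 2, 0, 2, 0], [0], [1, 0, 2, 1, 2, 0, 2, 1, 2, 1, 0], [], [], [], []],
   [[], [1, 0, 2, 1, 2, 0, 2, 1, 2], [1], [], [], [0, 2, 1, 0, 2, 0], [1, 0, 2, 1, 2, 1, 0], [1, 2, 1, 2, 1, 0, 2, 1, 2, 1], [], [], [2, 1, 2, 0, 2, 1, 2, 1, 0], []],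
   [[], [], [], [], [], [], [], [], [], [], [], [0, 2, 1, 0, 2, 1, 2, 1, 0]],
   [[1, 2, 1, 2, 0], [], [], [], [], [], [], [2, 1, 0, 2, 1, 2, 1, 0, 2], [], [0, 2, 1, 0, 2, 1, 0, 2], [], []],
   [[], [], [2, 1, 2, 0, 2, 1, 2, 0], [2, 1, 0, 2, 1, 2, 1, 0, 2, 0, 2, 0], [1, 2, 1, 2, 1, 0, 2, 0, 2, 1, 0], [1, 2, 0, 2, 1, 0, 2, 0, 2, 1, 2, 1, 0], [1, 2, 1, 2, 0], [0, 2, 0, 2, 1, 2, 0, 2, 1, 0, 2, 0], [], [0, 2, 1, 2, 0, 2, 0, 2, 0], [], []],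
   [[0, 2, 1, 0, 2], [0, 2, 0, 2, 1, 0, 2, 1, 2, 1, 0, 2], [2, 1, 2, 0, 2, 1, 0, 2, 0, 2, 1, 2], [], [], [1], [1, 2, 1, 2, 0, 2, 1, 2, 1], [1, 0, 2, 1, 0, 2, 1, 0], [], [2, 1, 0, 2, 0], [2, 1, 0, 2, 1, 2, 1, 0, 2, 0, 2, 0], []],
   [[], [], [], [], [1, 0, 2, 1, 2, 1, 0, 2, 0], [], [], [], [], [], [], []],
   [[2, 1, 0, 2, 1, 0, 2, 0], [], [], [], [], [], [], [2, 1, 0, 2, 1, 2, 1, 0, 2], [], [0, 2, 1, 2, 1], [], []],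
   [[2, 0, 2, 0, 2, 1, 0, 2, 0], [], [0, 2, 1, 2, 0, 2, 1, 2], [], [], [0, 2, 0, 2, 1, 0, 2, 1, 2, 1, 0, 2, 0], [0, 2, 1, 2, 1], [0, 2, 1, 0, 2, 0, 2, 1, 2, 0, 2, 0], [0, 2, 0, 2, 1, 0, 2, 1, 2, 1, 0, 2], [], [], [1, 0, 2, 0, 2, 1, 0, 2, 1, 2, 1]],
   [[2, 0, 2, 1, 0, 2, 1, 2, 0, 2, 1, 0], [], [], [1, 0, 2, 1, 2, 0, 2, 0, 2], [], [], [1, 0, 2, 1, 0, 2, 1, 0], [], [2, 1, 2, 0, 2, 1, 2], [], [], []],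
   [[], [0, 2, 0, 2, 1, 2, 0, 2, 1, 0, 2, 0], [2, 0, 2, 1, 2, 0, 2], [], [], [1, 2, 0, 2, 1], [0, 2, 1, 2, 0, 2, 1, 2, 0], [2, 0, 2, 0, 2, 0], [], [], [0, 2, 1, 0, 2, 0, 2, 1, 2, 0, 2, 0], []]]

/-- words of `K` to the representatives of the orbits on pairs -/
def tkw : List (List (List ℕ)) :=
  [[[], [], [0, 2, 0, 2, 0, 1, 2, 1, 2], [0, 2, 0, 2, 1], [0, 2, 0, 2, 0], [0], [0, 2, 0], [0, 2, 0, 2, 0, 1, 2], [0, 2], [0, 2, 0, 2, 0, 1], [0, 2, 0, 2], [0, 2, 0, 2, 0, 1, 2, 1]],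
   [[], [], [], [0, 1, 2, 1, 2, 1], [1, 2, 1, 2, 1], [0], [2, 0, 1, 2, 0, 1, 2], [1, 2, 0, 2, 0, 2, 1], [2, 0, 1, 2, 0, 1, 2, 0], [0, 1, 2, 1, 2, 0, 1], [1, 2, 1, 2, 0, 1], [0, 1, 2, 0, 2, 0, 1, 2, 1]],
   [[2, 0, 2, 0, 2], [2, 1, 2, 0, 1, 2, 0, 2, 0], [0, 2, 1, 2, 0, 1, 2, 1, 2], [0, 2, 0, 2, 1, 2], [0, 2, 0, 2, 0, 2], [2, 1, 2, 0, 1, 2, 0, 2], [2, 0, 1, 2, 1, 2, 0, 2], [2, 0, 2, 0, 2, 1], [2, 0, 1, 2, 1, 2, 0, 2, 0], [0, 2, 0, 2, 0, 2, 1], [2, 0, 2, 0, 2], [2, 0, 2, 0, 2]],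
   [[2], [2], [0, 1, 2, 0, 2, 0, 1, 2, 1, 2], [0, 2, 1, 2, 1], [2, 1, 2, 1], [2, 0, 1, 2, 0, 1, 2, 0, 2], [1, 2, 1, 2, 0, 1, 2], [0, 1, 2, 1, 2, 0, 1, 2], [0, 2], [1, 2, 0, 2, 0, 2, 1, 2], [2, 0, 1, 2, 0, 1], [2]],
   [[2, 0, 1], [1, 2, 1, 2, 0, 1, 2, 1, 2, 0], [0, 2, 0, 2, 0, 1, 2, 1, 2], [2, 1, 2, 0], [0, 2, 1, 2, 0], [2, 0, 1], [1, 2, 1, 2, 0, 1, 2, 0, 1], [2, 0, 1], [0, 2, 0, 1], [2, 0, 1, 2], [1, 2, 0, 2, 0, 2, 1, 2, 0, 1], [0, 2, 0, 2, 0, 1, 2, 1]],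
   [[1], [1], [1], [1, 2, 1, 2, 0], [0, 1, 2, 1, 2, 0], [0, 1], [1, 2, 0, 1, 2, 0, 1, 2], [0, 1, 2, 0, 2, 0, 1, 2], [2, 0, 1, 2, 0, 1, 2, 1], [1, 2, 1, 2], [0, 1, 2, 1, 2], [1, 2, 0, 2, 0, 2]],
   [[2, 0, 2], [1, 2, 1, 2, 0, 1, 2, 0, 2, 0, 1], [2, 0, 2], [2, 0, 1, 2, 1, 2, 0, 1], [2, 0, 1, 2, 1, 2], [1, 2, 1, 2, 0, 1, 2, 0, 2], [2, 1, 2, 0, 1, 2], [0, 2, 1, 2, 0, 1, 2], [2, 0, 2], [0, 2, 0, 2, 0, 1], [0, 2, 0, 2], [0, 2, 0, 2, 0, 2, 1, 2, 1]],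
   [[1, 2, 0], [2, 0, 1, 2, 0, 1, 2, 1, 2, 0], [1, 2, 0, 2], [0, 1, 2, 0, 2, 1], [1, 2, 0, 1, 2, 1], [1, 2, 0], [0, 1, 2, 0], [1, 2, 0, 1], [1, 2, 0, 2], [1, 2, 0, 1, 2], [0, 1, 2, 0, 2], [1, 2, 0]],
   [[2, 0, 2, 0], [1, 2, 1, 2, 0, 1, 2, 0, 2, 0], [2, 0, 2, 0], [0, 2, 0, 2, 1], [0, 2, 0, 2, 0], [1, 2, 1, 2, 0, 1, 2, 0, 2, 1], [2, 0, 2, 0], [0, 2, 0, 2, 0, 2, 1, 2], [2, 1, 2, 0, 1, 2, 0], [2, 0, 1, 2, 1, 2, 1], [2, 0, 1, 2, 1, 2, 0], [0, 2, 1, 2, 0, 1, 2, 1]],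
   [[2, 1], [2, 1], [0, 1, 2, 1, 2, 0, 1, 2, 1, 2], [2, 0, 1, 2, 0], [1, 2, 0, 2, 0, 2, 1, 2, 1], [1, 2, 1, 2, 0, 1, 2, 1, 2], [0, 2, 1], [2, 1], [1, 2, 1, 2, 0, 1, 2, 1], [2, 1, 2], [0, 2, 1, 2], [0, 1, 2, 1, 2, 0, 1, 2, 1]],
   [[2, 0], [2, 0, 1, 2, 0, 1, 2, 0, 2, 0], [0, 2, 0, 2, 0, 1, 2, 1, 2, 1], [1, 2, 0, 2, 0, 2, 1, 2, 0], [2, 0, 1, 2, 1], [2, 0], [0, 2, 0], [0, 2, 0, 2, 0, 1, 2], [1, 2, 1, 2, 0, 1, 2, 0], [0, 2, 1, 2, 0, 1], [2, 1, 2, 0, 1], [2, 0]],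
   [[1, 2], [1, 2], [1, 2, 0, 2, 0], [1, 2, 0, 1, 2, 0], [0, 1, 2, 0, 2, 0], [2, 0, 1, 2, 0, 1, 2, 1, 2], [0, 1, 2, 1], [1, 2, 1], [0, 1, 2], [0, 1, 2, 0, 2, 0, 1], [1, 2, 0, 1, 2, 0, 1], [1, 2]]]

/-- the orbit of a pair -/
def tty : List (List ℕ) :=
  [[0, 1, 1, 1, 1, 1, 1, 1, 1, 1, 1, 1],
   [2, 3, 4, 3, 4, 3, 4, 4, 4, 3, 4, 3],
   [2, 4, 3, 3, 3, 4, 4, 4, 4, 3, 3, 4],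
   [2, 3, 3, 3, 4, 4, 4, 3, 3, 4, 4, 4],
   [2, 4, 3, 4, 3, 3, 4, 4, 3, 4, 4, 3],
   [2, 3, 4, 4, 3, 3, 4, 3, 4, 4, 3, 4],
   [2, 4, 4, 4, 4, 4, 4, 3, 3, 3, 3, 3],
   [2, 4, 4, 3, 4, 3, 3, 4, 3, 4, 3, 4],
   [2, 4, 4, 3, 3, 4, 3, 3, 4, 4, 4, 3],
   [2, 3, 3, 4, 4, 4, 3, 4, 4, 4, 3, 3],
   [2, 4, 3, 4, 4, 3, 3, 3, 4, 3, 4, 4],
   [2, 3, 4, 4, 3, 4, 3, 4, 3, 3, 4, 4]]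

/-- the sign of the row in the orbit representative -/
def tsn : List (List ℤ) :=
  [[1, 1, 1, 1, 1, 1, 1, 1, 1, 1, 1, 1],
   [1, 1, 1, 1, 1, 1, 1, 1, 1, 1, 1, 1],
   [-1, -1, -1, -1, -1, -1, -1, -1, -1, -1, -1, -1],
   [-1, -1, -1, -1, -1, -1, -1, -1, -1, -1, -1, -1],
   [1, 1, 1, 1, 1, 1, 1, 1, 1, 1, 1, 1],
   [1, 1, 1, 1, 1, 1, 1, 1, 1, 1, 1, 1],
   [-1, -1, -1, -1, -1, -1, -1, -1, -1, -1, -1, -1],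
   [1, 1, 1, 1, 1, 1, 1, 1, 1, 1, 1, 1],
   [-1, -1, -1, -1, -1, -1, -1, -1, -1, -1, -1, -1],
   [-1, -1, -1, -1, -1, -1, -1, -1, -1, -1, -1, -1],
   [1, 1, 1, 1, 1, 1, 1, 1, 1, 1, 1, 1],
   [1, 1, 1, 1, 1, 1, 1, 1, 1, 1, 1, 1]]

/-- pairs for the rank argument -/
def tcol : List (ℕ × ℕ) := [(0, 1), (0, 2), (0, 3), (0, 4), (0, 5), (1, 0), (1, 1), (1, 2), (1, 3), (1, 4), (1, 5), (2, 0), (2, 1)]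
/-- pairs for the rank argument -/
def trow : List (ℕ × ℕ) := [(0, 0), (0, 1), (0, 2), (1, 0), (1, 2), (2, 0), (2, 2), (3, 0), (3, 2), (4, 0), (4, 2), (5, 0), (5, 2)]
/-- the inverse matrix modulo 3 -/
def tinv : List (List ℤ) :=
  [[1, 0, 1, 0, 1, 1, 1, -1, -1, 1, 1, -1, 1],
   [-1, 0, -1, 1, -1, 1, 1, -1, -1, -1, -1, 1, -1],
   [-1, 0, -1, -1, 1, -1, -1, 1, 1, 1, 1, 1, -1],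
   [-1, 0, -1, 1, -1, -1, -1, 1, 1, 1, 1, -1, 1],
   [-1, 0, -1, -1, 1, 1, 1, 1, 1, -1, -1, 1, -1],
   [1, 0, -1, -1, -1, -1, 1, -1, 1, -1, 1, -1, -1],
   [-1, 0, 1, 1, 1, 1, -1, -1, 1, 1, -1, -1, -1],
   [1, 0, -1, -1, -1, -1, 1, 1, -1, 1, -1, -1, -1],
   [-1, 0, 1, -1, -1, -1, 1, 1, -1, 1, -1, 1, 1],
   [1, 0, -1, -1, -1, 1, -1, -1, 1, -1, 1, 1, 1],
   [-1, 0, 1, -1, -1, 1, -1, 1, -1, -1, 1, 1, 1],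
   [1, 1, -1, -1, -1, 0, 0, 0, 0, 0, 0, 0, 0],
   [-1, 0, -1, -1, -1, 0, 0, 0, 0, 0, 0, 0, 0]]

/-- look up in a table of tables -/
def gt2 {α : Type} (d : α) (t : List (List α)) (i j : ℕ) : α := (t.getD i []).getD j d

/-- representatives of the pairs -/
def rp2 (i j : Fin 12) : Γ := el (gt2 [] trp i j)

/-- words in `t, u, c` -/
def evK : List ℕ → Γ
  | [] => 1
  | 0 :: w => gt * evK w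
  | 1 :: w => gu * evK w
  | _ :: w => gc * evK w

/-- the partner of `c` -/
def oc : Γ := el [2, 1, 0, 1, 2, 2, 1, 2, 1, 2, 1, 0, 1, 0, 1, 0, 1, 0]

/-- the partners of the words in `t, u, c` -/
def evK' : List ℕ → Γ
  | [] => 1
  | 0 :: w => gu * evK' w
  | 1 :: w => gt * evK' w
  | _ :: w => oc * evK' w

/-- the orbit -/
def ty (k j : Fin 12) : Fin 5 := ⟨gt2 0 tty k j % 5, Nat.mod_lt _ (by norm_num)⟩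
/-- the sign -/
def sn (k j : Fin 12) : ℤ := gt2 1 tsn k j
/-- the representative row -/
def rr (t : Fin 5) : Fin 12 := if t = 0 ∨ t = 1 then 0 else 1
/-- the representative column -/
def rc (t : Fin 5) : Fin 12 := if t = 0 ∨ t = 2 then 0 else if t = 4 then 2 else 1

theorem inter_tu : inter gt gu := by
  unfold inter
  decide +kernel

theorem inter_ut : inter gu gt := by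
  unfold inter
  decide +kernel

theorem inter_oc : inter gc oc := by
  unfold inter
  decide +kernel

theorem inter_neg : inter neg neg := by
  unfold inter
  decide +kernel

theorem sch2_x : ∀ i j : Fin 12, (el [0] * rp2 i j).1.1
    = (sg (px (pos i)) * rp2 (idx (px (pos i))) (idx (oX.1.1 (pos j))) * evK (gt2 [] tpx i j)).1.1 := by
  decide +kernel

theorem sch2_y : ∀ i j : Fin 12, (el [1] * rp2 i j).1.1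
    = (sg (py (pos i)) * rp2 (idx (py (pos i))) (idx (oY.1.1 (pos j))) * evK (gt2 [] tpy i j)).1.1 := by
  decide +kernel

theorem rp2_zero : rp2 0 0 = 1 := gext (by decide +kernel)

theorem rp2_apply : ∀ i j, (rp2 i j).1.1 (pos 0) = pos i := by decide +kernel

theorem orb_tab : ∀ k j : Fin 12, (evK (gt2 [] tkw k j)).1.1 (pos k)
      = (if sn k j = 1 then pos (rr (ty k j)) else ng (pos (rr (ty k j)))) ∧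
    idx ((evK' (gt2 [] tkw k j)).1.1 (pos j)) = rc (ty k j) := by decide +kernel

theorem sn_cases : ∀ k j : Fin 12, sn k j = 1 ∨ sn k j = -1 := by decide +kernel

theorem form_tab : ∀ k j : Fin 12, Hm k 0 + Hm k j * Hm 0 j = (if ty k j = 4 then 0 else 2 * sn k j) ∧
    Hm k 0 - Hm k j * Hm 0 j = (if ty k j = 4 then 2 * sn k j else 0) := by decide +kernel

theorem fix_pos0 : gX.1.1 (pos 0) = pos 0 ∧ gt.1.1 (pos 0) = pos 0 ∧ gc.1.1 (pos 0) = pos 0 ∧ gu.1.1 (pos 0) = pos 0 := by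
  decide +kernel

theorem Hh_inj : ∀ l l' : Fin 24, (∀ k, Hh k l = Hh k l') → l = l' := by decide +kernel

end Cfsg.Agent.H932.Mt
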