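import Cfsg.Agent.H932.MtForm

/-!
# The Hadamard matrix in `Ω(Q)` (helper932)

* `squares` : `c A0 ∈ Ω(Q)` implies that `2` and `3` are squares in `F`;
* `OrthB.plus` : `Q` is of plus type;
* `refl_mem` : products of two reflections in `Ω(Q)`.
-/

set_option autoImplicit false
set_option linter.unusedSectionVars false

namespace Cfsg.Agent.H932.Mt

open Cfsg Cfsg.Geo Matrix Cfsg.Agent.H915.LD QuadraticMap
open Cfsg.Agent.H932.Spinor Cfsg.Agent.ClassicalGeometry.Reflection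

universe u

theorem col_sq : ∀ i, ∑ k, Hm k i * Hm k i = 12 := by decide +kernel

section sq

variable {F : Type u} [Field F] [Fintype F] {P : Subgroup (GL (Fin 12) F)}
  {b : Module.Basis (Fin 12) F (Fin 12 → F)} {Q : QuadraticForm F (Fin 12 → F)}

theorem A0_A0 (v : Fin 12 → F) : A0 b *ᵥ (A0 b *ᵥ v) = (12 : F) • v := by
  rw [Matrix.mulVec_mulVec, A0_mul_self, Matrix.smul_mulVec, Matrix.one_mulVec]

theorem mem_iso_of_omega {g : GL (Fin 12) F} (hg : g ∈ omegaGL (⇑Q)) : g ∈ Cfsg.isometryGroup F (⇑Q) := by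
  obtain ⟨x, -, rfl⟩ := hg
  exact x.2

theorem twelve (h2 : (2 : F) ≠ 0) (hO : OrthB Q b) (hQ0 : Q (b 0) ≠ 0) {h : GL (Fin 12) F}
    (hh : h ∈ Cfsg.isometryGroup F (⇑Q)) {c : F} (hc : (h : Matrix (Fin 12) (Fin 12) F) = c • A0 b) :
    12 * c ^ 2 = 1 := by
  have h1 := (mem_isometryGroup_iff _ _).1 hh (b 0)
  rw [hc, Matrix.smul_mulVec, A0_b, QuadraticMap.map_smul, hO.Q_sum h2, smul_eq_mul] at h1
  have h3 : (∑ k, ((Hm k 0 : ℤ) : F) * ((Hm k 0 : ℤ) : F)) = 12 := by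
    have h4 : (∑ k, ((Hm k 0 : ℤ) : F) * ((Hm k 0 : ℤ) : F)) = ((∑ k, Hm k 0 * Hm k 0 : ℤ) : F) := by
      rw [Int.cast_sum]
      apply Finset.sum_congr rfl
      intro k _
      rw [Int.cast_mul]
    rw [h4, col_sq]
    norm_num
  rw [h3] at h1
  have h5 : (12 * c ^ 2 - 1) * Q (b 0) = 0 := by linear_combination h1
  have h6 := (mul_eq_zero.1 h5).resolve_right hQ0
  linear_combination h6

theorem det_gram_ev6 (hO : OrthB Q b) {c : F} (hc : 12 * c ^ 2 = 1) :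
    (gram (⇑Q) (ev6 b c)).det = (8 * (4 * Q (b 0)) ^ 3) ^ 2 * (1 - 2 * c - 4 * c ^ 2) ^ 3 := by
  rw [hO.gram_ev6 hc, Matrix.det_smul, det_Gm, Fintype.card_fin]
  ring

theorem d_ne_zero (h2 : (2 : F) ≠ 0) (h3 : (3 : F) ≠ 0) {c : F} (hc : 12 * c ^ 2 = 1) : 1 - 2 * c - 4 * c ^ 2 ≠ 0 := by
  intro h0
  have h4 : (6 * c - 1) ^ 2 = 6 * (1 - 2 * c - 4 * c ^ 2) := by linear_combination 5 * hc
  rw [h0, mul_zero] at h4
  have h5 : 6 * c - 1 = 0 := pow_eq_zero_iff (two_ne_zero) |>.1 h4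
  -- `36 c² = 1` and `= 3`
  have h6 : (2 : F) = 0 := by linear_combination (6 * c + 1) * h5 - 3 * hc
  exact h2 h6

omit [Fintype F] in
theorem sq_aux {A d r : F} (hA : A ≠ 0) (hd : d ≠ 0) (hr : A ^ 2 * d ^ 3 = r * r) : ∃ w, w ≠ 0 ∧ d = w * w := by
  refine ⟨r / (A * d), ?_, ?_⟩
  · apply div_ne_zero
    · rintro rfl
      rw [mul_zero] at hr
      exact mul_ne_zero (pow_ne_zero _ hA) (pow_ne_zero _ hd) hr
    · exact mul_ne_zero hA hd
  · rw [div_mul_div_comm, ← hr]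
    field_simp

open Classical in
/-- **The squares.** -/
theorem squares (h2 : (2 : F) ≠ 0) (h3 : (3 : F) ≠ 0) (hQ : (QuadraticMap.polarBilin Q).Nondegenerate) (hO : OrthB Q b)
    {h : GL (Fin 12) F} (hh : h ∈ omegaGL (⇑Q)) {c : F} (hc : (h : Matrix (Fin 12) (Fin 12) F) = c • A0 b) :
    IsSquare (2 : F) ∧ IsSquare (3 : F) := by
  have hQ0 := hO.ne_zero hQ
  have hiso := mem_iso_of_omega hh
  have h12 := twelve h2 hO hQ0 hiso hc
  have h12' : 12 * (-c) ^ 2 = 1 := by rw [neg_sq]; exact h12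
  have hd := d_ne_zero h2 h3 h12
  have hd' := d_ne_zero h2 h3 h12'
  let g : Cfsg.isometryGroup F (⇑Q) := ⟨h, hiso⟩
  have hac : ∀ v, ac g v = c • (A0 b *ᵥ v) := by
    intro v
    change (h : Matrix (Fin 12) (Fin 12) F) *ᵥ v = _
    rw [hc, Matrix.smul_mulVec]
  have hgg : g * g = 1 := by
    apply Subtype.ext
    apply Units.ext
    change (h : Matrix (Fin 12) (Fin 12) F) * (h : Matrix (Fin 12) (Fin 12) F) = 1
    rw [hc, Matrix.smul_mul, Matrix.mul_smul, A0_mul_self, smul_smul, smul_smul]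
    have : c * c * 12 = 1 := by linear_combination h12
    rw [this, one_smul]
  have hev : ∀ (e : F), 12 * e ^ 2 = 1 → ∀ k, A0 b *ᵥ (ev6 b e k) = (-(12 * e)) • ev6 b e k := by
    intro e he k
    unfold ev6
    rw [Matrix.mulVec_sub, Matrix.mulVec_smul, ← A0_bx, A0_A0, smul_sub, smul_smul, smul_smul]
    have h5 : -(12 * e) * e = -1 := by linear_combination -he
    rw [h5, neg_one_smul, neg_smul, sub_neg_eq_add, mul_comm e 12]
    abel
  have hv : ∀ k, ac g (ev6 b c k) = -ev6 b c k := by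
    intro k
    rw [hac, hev c h12, smul_smul]
    have : c * -(12 * c) = -1 := by linear_combination -h12
    rw [this, neg_one_smul]
  have hu : ∀ k, ac g (ev6 b (-c) k) = ev6 b (-c) k := by
    intro k
    rw [hac, hev (-c) h12', smul_smul]
    have : c * -(12 * -c) = 1 := by linear_combination h12
    rw [this, one_smul]
  have h8 : (8 * (4 * Q (b 0)) ^ 3) ≠ 0 := by
    have : (8 * (4 * Q (b 0)) ^ 3) = 2 ^ 9 * Q (b 0) ^ 3 := by ring
    rw [this]
    exact mul_ne_zero (pow_ne_zero _ h2) (pow_ne_zero _ hQ0)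
  have hD : (gram (⇑Q) (ev6 b c)).det ≠ 0 := by
    rw [det_gram_ev6 hO h12]
    exact mul_ne_zero (pow_ne_zero _ h8) (pow_ne_zero _ hd)
  have hD' : (gram (⇑Q) (ev6 b (-c))).det ≠ 0 := by
    rw [det_gram_ev6 hO h12']
    exact mul_ne_zero (pow_ne_zero _ h8) (pow_ne_zero _ hd')
  have hk := finrank_em_le (k := 6) h2 Q g (ev6 b (-c)) hu hD' (by rw [Fintype.card_fin])
  obtain ⟨-, hsq⟩ := isSquare_of_mem h2 Q hQ (by rw [Fintype.card_fin]; norm_num) g hh hgg (ev6 b c) hv hD hk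
  rw [det_gram_ev6 hO h12] at hsq
  set d := 1 - 2 * c - 4 * c ^ 2 with hdd
  have hds : ∃ w, w ≠ 0 ∧ d = w * w := by
    obtain ⟨r, hr⟩ := hsq
    exact sq_aux h8 hd hr
  obtain ⟨w, hw, hdw⟩ := hds
  have h6 : (6 * c - 1) ^ 2 = 6 * d := by rw [hdd]; linear_combination 5 * h12
  constructor
  · refine ⟨(6 * c - 1) * (2 * c) / w, ?_⟩
    rw [div_mul_div_comm, ← hdw, eq_div_iff hd]
    linear_combination (-4 * c ^ 2) * h6 - (2 * d) * h12
  · exact ⟨6 * c, by linear_combination -3 * h12⟩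

/-- a product of two reflections in `Ω` -/
theorem refl_mem (h2 : (2 : F) ≠ 0) {v w : Fin 12 → F} (hv : Q v ≠ 0) (hw : Q w ≠ 0) (h : IsSquare (Q v * Q w)) :
    ((reflIso Q v hv * reflIso Q w hw : Cfsg.isometryGroup F (⇑Q)) : GL (Fin 12) F) ∈ omegaGL (⇑Q) := by
  refine ⟨reflIso Q v hv * reflIso Q w hw, ?_, rfl⟩
  have h1 := Cfsg.Agent.ClassicalGeometry.OmegaIndex.abelianization_of_reflIso_eq h2 Q hv hw h
  have h3 : Abelianization.of (reflIso Q v hv * reflIso Q w hw) = 1 := by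
    rw [map_mul, h1, ← map_mul, reflIso_mul_self, map_one]
  have h4 : reflIso Q v hv * reflIso Q w hw ∈ (Abelianization.of : Cfsg.isometryGroup F (⇑Q) →* _).ker := h3
  rw [Abelianization.ker_of] at h4
  exact h4

end sq

end Cfsg.Agent.H932.Mt
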