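import Cfsg.Agent.H932.MtPair

/-!
# Characteristic three: `2.M₁₂` has no irreducible representation of dimension 12 (helper932)

* `no_fix_three` : no vector is fixed by `x`, `t`, `c`;
* `no_fix_three'` : no vector is fixed by the stabiliser of a column.
-/

set_option autoImplicit false
set_option linter.unusedSectionVars false

namespace Cfsg.Agent.H932.Mt

open Module

variable {F V : Type*} [Field F] [AddCommGroup V] [Module F V] [FiniteDimensional F V]
variable {ρ : Γ →* Module.End F V} {v0 : V}

/-- `ρ(-1) = 1` and a vector fixed by `x, t, c` -/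
theorem not_fix_pos (h2 : (2 : F) ≠ 0) (hd : finrank F V = 12) (hI : Irr ρ) (hn : ρ neg = 1) (hv0 : v0 ≠ 0)
    (hX : ρ gX v0 = v0) (hT : ρ gt v0 = v0) (hC : ρ gc v0 = v0) : False := by
  have hli := linInd hI hd hv0 (Or.inl hn) hX hT hC
  have hng : ∀ k, vec ρ v0 (ng k) = vec ρ v0 k := by
    intro k
    rw [vec_ng, hn]
    rfl
  have hidx : ∀ k, vec ρ v0 k = vec ρ v0 (pos (idx k)) := by
    intro k
    rcases eq_pos_or k with hk | hk
    · rw [← hk]
    · nth_rewrite 1 [hk]
      rw [hng]
  set w : V := ∑ k, vec ρ v0 k with hw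
  have hw0 : w ≠ 0 := by
    intro h0
    have h1 : ∑ k : Fin 24, vec ρ v0 k = ∑ i : Fin 12, (2 : F) • vec ρ v0 (pos i) := by
      rw [← Finset.sum_fiberwise Finset.univ idx]
      apply Finset.sum_congr rfl
      intro i _
      have h2 : ∀ k ∈ Finset.univ.filter (fun k : Fin 24 => idx k = i), vec ρ v0 k = vec ρ v0 (pos i) := by
        intro k hk
        rw [hidx k, (Finset.mem_filter.1 hk).2]
      rw [Finset.sum_congr rfl h2, Finset.sum_const, card_fib i, two_smul, two_smul]
    rw [hw, h1] at h0
    have h4 := Fintype.linearIndependent_iff.1 hli (fun _ => 2) h0 0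
    exact h2 h4
  have hinv : ∀ g, ρ g w = w := by
    intro g
    rw [hw, map_sum]
    simp only [act hX hT hC]
    exact Equiv.sum_comp g.1.1 (vec ρ v0)
  rcases hI (Submodule.span F {w}) (by
    intro g v hv
    obtain ⟨a, rfl⟩ := Submodule.mem_span_singleton.1 hv
    rw [map_smul, hinv]
    exact Submodule.mem_span_singleton.2 ⟨a, rfl⟩) with h | h
  · rw [Submodule.span_singleton_eq_bot] at h
    exact hw0 h
  · have h5 := finrank_span_singleton (K := F) hw0
    rw [h, finrank_top, hd] at h5
    norm_num at h5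

/-- characteristic 3: no vector is fixed by `x`, `t`, `c` -/
theorem no_fix_three (h2 : (2 : F) ≠ 0) (h3 : (3 : F) = 0) (hd : finrank F V = 12) (hI : Irr ρ) (hv0 : v0 ≠ 0)
    (hX : ρ gX v0 = v0) (hT : ρ gt v0 = v0) (hC : ρ gc v0 = v0) : False := by
  rcases neg_cases hI with hn | hn
  · exact not_fix_pos h2 hd hI hn hv0 hX hT hC
  · have hli := linInd hI hd hv0 (Or.inr hn) hX hT hC
    have hsp := span_top hI hv0 (Or.inr hn) hX hT hC
    set b : Basis (Fin 12) F V := Basis.mk hli hsp.ge with hb
    have hbi : ∀ i, b i = vec ρ v0 (pos i) := fun i => Basis.mk_apply _ _ _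
    let A : Module.End F V := b.constr F (fun i => ∑ k, ((Hm k i : ℤ) : F) • b k)
    have hA : ∀ i, A (b i) = ∑ k, ((Hm k i : ℤ) : F) • b k := fun i => b.constr_basis F _ i
    have hvng : ∀ k, vec ρ v0 (ng k) = -vec ρ v0 k := by
      intro k
      rw [vec_ng, hn]
      rfl
    have hvk : ∀ k, vec ρ v0 k = ((sgn k : ℤ) : F) • b (idx k) := by
      intro k
      rcases eq_pos_or k with hk | hk
      · rw [hk, sgn_pos, idx_pos, hbi, Int.cast_one, one_smul]
      · rw [hk, sgn_ng, idx_ng, sgn_pos, idx_pos, hbi, hvng, Int.cast_neg, Int.cast_one, neg_one_smul]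
    have hAv : ∀ k, (2 : F) • A (vec ρ v0 k) = ∑ l, ((Hh k l : ℤ) : F) • vec ρ v0 l := by
      intro k
      have h1 : ∀ l, ((Hh k l : ℤ) : F) • vec ρ v0 l = ((Hh k (pos (idx l)) : ℤ) : F) • vec ρ v0 (pos (idx l)) := by
        intro l
        rw [hvk l, hvk (pos (idx l))]
        unfold Hh
        rw [sgn_pos, idx_pos, Int.cast_one, one_smul, mul_one, smul_smul]
        congr 1
        rw [← Int.cast_mul]
        congr 1
        rcases sgn_cases l with h | h <;> rw [h] <;> ring
      have h4 : ∑ l, ((Hh k l : ℤ) : F) • vec ρ v0 l = ∑ i : Fin 12, (2 : F) • (((Hh k (pos i) : ℤ) : F) • vec ρ v0 (pos i)) := by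
        rw [← Finset.sum_fiberwise Finset.univ idx]
        apply Finset.sum_congr rfl
        intro i _
        have h5 : ∀ l ∈ Finset.univ.filter (fun l : Fin 24 => idx l = i),
            ((Hh k l : ℤ) : F) • vec ρ v0 l = ((Hh k (pos i) : ℤ) : F) • vec ρ v0 (pos i) := by
          intro l hl
          rw [h1 l, (Finset.mem_filter.1 hl).2]
        rw [Finset.sum_congr rfl h5, Finset.sum_const, card_fib i, two_smul, two_smul]
      rw [h4, ← Finset.smul_sum]
      congr 1
      rw [hvk k, map_smul, hA, Finset.smul_sum]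
      apply Finset.sum_congr rfl
      intro i _
      rw [← hbi]
      unfold Hh
      rw [sgn_pos, idx_pos, mul_one, Hm_symm i (idx k), smul_smul, Int.cast_mul]
    have hcomm : ∀ g v, A (ρ g v) = ρ (out g) (A v) := by
      intro g
      have h1 : A ∘ₗ ρ g = ρ (out g) ∘ₗ A := by
        apply b.ext
        intro i
        apply smul_right_injective V h2
        change (2 : F) • A (ρ g (b i)) = (2 : F) • ρ (out g) (A (b i))
        rw [hbi, act hX hT hC, hAv, ← map_smul, hAv, map_sum]
        simp only [map_smul, act hX hT hC]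
        rw [← Equiv.sum_comp (out g).1.1]
        apply Finset.sum_congr rfl
        intro l _
        rw [inter_out g]
      intro v
      exact LinearMap.congr_fun h1 v
    have hAA : ∀ v, A (A v) = 0 := by
      have h1 : A ∘ₗ A = 0 := by
        apply b.ext
        intro i
        change A (A (b i)) = 0
        rw [hA, map_sum]
        simp only [map_smul, hA, Finset.smul_sum, smul_smul]
        rw [Finset.sum_comm]
        simp only [← Finset.sum_smul]
        apply Finset.sum_eq_zero
        intro l _
        have h4 : (∑ k, ((Hm k i : ℤ) : F) * ((Hm l k : ℤ) : F)) = ((∑ k, Hm l k * Hm k i : ℤ) : F) := by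
          rw [Int.cast_sum]
          apply Finset.sum_congr rfl
          intro k _
          rw [Int.cast_mul, mul_comm]
        rw [h4, Hm_orth]
        have h12 : ((12 : ℤ) : F) = 0 := by
          have : ((12 : ℤ) : F) = 4 * 3 := by norm_num
          rw [this, h3, mul_zero]
        split_ifs
        · rw [h12, zero_smul]
        · rw [Int.cast_zero, zero_smul]
      intro v
      exact LinearMap.congr_fun h1 v
    have hA0 : A (b 0) ≠ 0 := by
      intro h0
      rw [hA] at h0
      have h4 := Fintype.linearIndependent_iff.1 b.linearIndependent _ h0 0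
      have h5 : Hm 0 0 = 1 := by decide +kernel
      rw [h5, Int.cast_one] at h4
      exact one_ne_zero h4
    rcases hI (LinearMap.ker A) (by
      intro g v hv
      rw [LinearMap.mem_ker] at hv ⊢
      rw [hcomm, hv, map_zero]) with h | h
    · have h4 : A (b 0) ∈ LinearMap.ker A := hAA _
      rw [h] at h4
      exact hA0 h4
    · have h4 : b 0 ∈ LinearMap.ker A := by rw [h]; trivial
      exact hA0 h4

/-- the representation twisted by the outer automorphism -/
noncomputable def tw (ρ : Γ →* Module.End F V) : Γ →* Module.End F V := ρ.comp out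

theorem Irr.tw (hI : Irr ρ) : Irr (Mt.tw ρ) := by
  intro W hW
  apply hI W
  intro g v hv
  have h1 := hW (out g) v hv
  have h2 : Mt.tw ρ (out g) = ρ g := by
    change ρ (out (out g)) = ρ g
    rw [out_out]
  rwa [h2] at h1

/-- no vector is fixed by the column stabiliser -/
theorem no_fix_three' (h2 : (2 : F) ≠ 0) (h3 : (3 : F) = 0) (hd : finrank F V = 12) (hI : Irr ρ) {w : V}
    (hw : ∀ g, (out g).1.1 (pos 0) = pos 0 → ρ g w = w) : w = 0 := by
  by_contra hw0
  apply no_fix_three (ρ := Mt.tw ρ) h2 h3 hd hI.tw hw0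
  · change ρ (out gX) w = w
    exact hw _ (by rw [out_out]; exact fix_pos0.1)
  · change ρ (out gt) w = w
    exact hw _ (by rw [out_out]; exact fix_pos0.2.1)
  · change ρ (out gc) w = w
    exact hw _ (by rw [out_out]; exact fix_pos0.2.2.1)

theorem no_fix_three'' (h2 : (2 : F) ≠ 0) (h3 : (3 : F) = 0) (hd : finrank F V = 12) (hI : Irr ρ) {w : V}
    (hw : ∀ g, g.1.1 (pos 0) = pos 0 → ρ g w = w) : w = 0 := by
  by_contra hw0
  exact no_fix_three h2 h3 hd hI hw0 (hw _ fix_pos0.1) (hw _ fix_pos0.2.1) (hw _ fix_pos0.2.2.1)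

end Cfsg.Agent.H932.Mt
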