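import Cfsg.Agent.H932.MtThree

/-!
# Characteristic three: `2.M₁₂` has no irreducible representation of dimension 12, end (helper932)

* `Odd12.three_false`.
-/

set_option autoImplicit false
set_option linter.unusedSectionVars false

namespace Cfsg.Agent.H932.Mt

open Module

/-- the partners of the words in the generators -/
def evO : List ℕ → Γ
  | [] => 1
  | 0 :: w => oX * evO w
  | 1 :: w => oY * evO w
  | 2 :: w => oX⁻¹ * evO w
  | _ :: w => oY⁻¹ * evO w

theorem el_c0 (w : List ℕ) : el (0 :: w) = el [0] * el w := Subtype.ext (by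
  change gx * ev w = (gx * 1) * ev w
  rw [mul_one])
theorem el_c1 (w : List ℕ) : el (1 :: w) = el [1] * el w := Subtype.ext (by
  change gy * ev w = (gy * 1) * ev w
  rw [mul_one])
theorem el_c2 (w : List ℕ) : el (2 :: w) = (el [0])⁻¹ * el w := Subtype.ext (by
  change gx⁻¹ * ev w = (gx * 1)⁻¹ * ev w
  rw [mul_one])
theorem el_c3 (n : ℕ) (w : List ℕ) : el ((n + 3) :: w) = (el [1])⁻¹ * el w := Subtype.ext (by
  change gy⁻¹ * ev w = (gy * 1)⁻¹ * ev w
  rw [mul_one])

theorem evO_eq (w : List ℕ) : out (el w) = evO w := by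
  induction w with
  | nil => exact map_one out
  | cons a w ih =>
    rcases a with _ | _ | _ | a
    · have h2 : evO (0 :: w) = oX * evO w := by with_unfolding_all rfl
      rw [el_c0, h2, map_mul, ih, out_eq inter_oX]
    · have h2 : evO (1 :: w) = oY * evO w := by with_unfolding_all rfl
      rw [el_c1, h2, map_mul, ih, out_eq inter_oY]
    · have h2 : evO (2 :: w) = oX⁻¹ * evO w := by with_unfolding_all rfl
      rw [el_c2, h2, map_mul, ih, map_inv, out_eq inter_oX]
    · have h2 : evO ((a + 3) :: w) = oY⁻¹ * evO w := by with_unfolding_all rfl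
      rw [el_c3, h2, map_mul, ih, map_inv, out_eq inter_oY]

theorem evO_tab : ∀ i j : Fin 12, idx ((evO (gt2 [] trp i j)).1.1 (pos 0)) = j := by decide +kernel

theorem ci_rp2 (i j : Fin 12) : ci (rp2 i j) 0 = j := by
  unfold ci rp2
  rw [evO_eq]
  exact evO_tab i j

/-- the invariant of two pairs -/
def PP (a b c d : Fin 24) : ℤ := Hh a b * Hh c b * (Hh a d * Hh c d)

theorem PP_inv (g : Γ) (a b c d : Fin 24) :
    PP (g.1.1 a) ((out g).1.1 b) (g.1.1 c) ((out g).1.1 d) = PP a b c d := by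
  unfold PP
  rw [inter_out g, inter_out g, inter_out g, inter_out g]

theorem sgn_sq (k : Fin 24) : sgn k * sgn k = 1 := by
  rcases sgn_cases k with h | h <;> rw [h] <;> norm_num

theorem PP_idx (a b c d : Fin 24) : PP a b c d = Hm (idx a) (idx b) * Hm (idx c) (idx b) * (Hm (idx a) (idx d) * Hm (idx c) (idx d)) := by
  unfold PP Hh
  linear_combination (Hm (idx a) (idx b) * Hm (idx c) (idx b) * (Hm (idx a) (idx d) * Hm (idx c) (idx d))) *
    ((sgn b * sgn b * (sgn c * sgn c) * (sgn d * sgn d)) * sgn_sq a + (sgn c * sgn c * (sgn d * sgn d)) * sgn_sq b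
      + (sgn d * sgn d) * sgn_sq c + sgn_sq d)

/-- the pairs of the rank argument -/
def cp (n : Fin 13) : ℕ × ℕ := tcol.getD n (0, 0)
/-- the pairs of the rank argument -/
def rwp (n : Fin 13) : ℕ × ℕ := trow.getD n (0, 0)
/-- row index -/
def f12 (n : ℕ) : Fin 12 := ⟨n % 12, Nat.mod_lt _ (by norm_num)⟩
/-- the matrix of the rank argument -/
def MM (m n : Fin 13) : ℤ :=
  PP (pos (f12 (rwp m).1)) (pos (f12 (rwp m).2)) (pos (f12 (cp n).1)) (pos (f12 (cp n).2))
    - PP (pos (f12 (rwp m).1)) (pos (f12 (rwp m).2)) (pos 0) (pos 0)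
/-- its inverse modulo 3 -/
def NN (m n : Fin 13) : ℤ := gt2 0 tinv m n

theorem NM : ∀ m n : Fin 13, (∑ q, NN m q * MM q n) % 3 = if m = n then 1 else 0 := by decide +kernel

variable {F V : Type*} [Field F] [AddCommGroup V] [Module F V] [FiniteDimensional F V]
variable {ρ : Γ →* Module.End F V} {v : V}

/-- the column permutation -/
noncomputable def cip (g : Γ) : Equiv.Perm (Fin 12) where
  toFun := ci g
  invFun := ci g⁻¹
  left_inv j := by rw [← ci_mul, inv_mul_cancel, ci_one]
  right_inv j := ci_inv g j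

theorem row_sum (hK : FixK ρ v) (g : Γ) (k : Fin 24) :
    ρ g (∑ j, vs ρ v k j) = ∑ j, vs ρ v (g.1.1 k) j := by
  rw [map_sum]
  simp only [act2 hK]
  exact Equiv.sum_comp (cip g) (fun j => vs ρ v (g.1.1 k) j)

/-- the sum over a column -/
def Tc (ρ : Γ →* Module.End F V) (v : V) (l : Fin 24) : V := ∑ k, if Hh k l = 1 then vs ρ v k (idx l) else 0

theorem col_sum (hK : FixK ρ v) (g : Γ) (l : Fin 24) : ρ g (Tc ρ v l) = Tc ρ v ((out g).1.1 l) := by
  unfold Tc
  rw [map_sum, ← Equiv.sum_comp g.1.1 (fun k => if Hh k ((out g).1.1 l) = 1 then vs ρ v k (idx ((out g).1.1 l)) else 0)]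
  apply Finset.sum_congr rfl
  intro k _
  rw [inter_out g]
  split_ifs
  · rw [act2 hK, ci_idx]
  · exact map_zero _

theorem sum24 {M : Type*} [AddCommMonoid M] (f : Fin 24 → M) :
    ∑ k, f k = ∑ i : Fin 12, (f (pos i) + f (ng (pos i))) := by
  rw [← Finset.sum_fiberwise Finset.univ idx]
  apply Finset.sum_congr rfl
  intro i _
  have h1 : Finset.univ.filter (fun k : Fin 24 => idx k = i) = {pos i, ng (pos i)} := by
    ext k
    simp only [Finset.mem_filter, Finset.mem_univ, true_and, Finset.mem_insert, Finset.mem_singleton]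
    constructor
    · rintro rfl
      exact eq_pos_or k
    · rintro (rfl | rfl)
      · exact idx_pos i
      · rw [idx_ng, idx_pos]
  rw [h1, Finset.sum_pair]
  intro h
  have h2 := congrArg sgn h
  rw [sgn_ng, sgn_pos] at h2
  norm_num at h2

theorem sum_ty (R : Fin 5 → F) (c : Fin 12 → ℤ) (τ : Fin 12 → Fin 5) :
    ∑ j, ((c j : ℤ) : F) * R (τ j) = ∑ t, ((∑ j, if τ j = t then c j else 0 : ℤ) : F) * R t := by
  simp only [Int.cast_sum, Finset.sum_mul]
  rw [Finset.sum_comm]
  apply Finset.sum_congr rfl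
  intro j _
  rw [Finset.sum_eq_single (τ j)]
  · rw [if_pos rfl]
  · intro t _ ht
    rw [if_neg (fun h => ht h.symm), Int.cast_zero, zero_mul]
  · intro h
    exact absurd (Finset.mem_univ _) h

theorem co_row0 : ∀ t : Fin 5, (∑ j, if ty 0 j = t then sn 0 j else 0) = if t = 0 then 1 else if t = 1 then 11 else 0 := by
  decide +kernel
theorem co_row1 : ∀ t : Fin 5, (∑ j, if ty 1 j = t then sn 1 j else 0)
    = if t = 2 then 1 else if t = 3 then 5 else if t = 4 then 6 else 0 := by decide +kernel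
theorem co_col0 : ∀ t : Fin 5, (∑ i, if ty i 0 = t then Hm i 0 * sn i 0 else 0)
    = if t = 0 then 1 else if t = 2 then 11 else 0 := by decide +kernel
theorem co_col1 : ∀ t : Fin 5, (∑ i, if ty i 1 = t then Hm i 1 * sn i 1 else 0)
    = if t = 1 then 1 else if t = 3 then 5 else if t = 4 then -6 else 0 := by decide +kernel
theorem co_row0' : ∀ t : Fin 5, (∑ j, if ty 0 j = t then (1 : ℤ) else 0) = if t = 0 then 1 else if t = 1 then 11 else 0 := by
  decide +kernel
theorem co_row1' : ∀ t : Fin 5, (∑ j, if ty 1 j = t then (1 : ℤ) else 0)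
    = if t = 2 then 1 else if t = 3 then 5 else if t = 4 then 6 else 0 := by decide +kernel
theorem co_col0' : ∀ t : Fin 5, (∑ i, if ty i 0 = t then (1 : ℤ) else 0)
    = if t = 0 then 1 else if t = 2 then 11 else 0 := by decide +kernel
theorem co_col1' : ∀ t : Fin 5, (∑ i, if ty i 1 = t then (1 : ℤ) else 0)
    = if t = 1 then 1 else if t = 3 then 5 else if t = 4 then 6 else 0 := by decide +kernel

/-- the data of the argument -/
structure Dat (ρ : Γ →* Module.End F V) (v : V) (φ : Module.Dual F V) : Prop where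
  two : (2 : F) ≠ 0
  three : (3 : F) = 0
  dim : finrank F V = 12
  irr : Irr ρ
  v0 : v ≠ 0
  φ0 : φ ≠ 0
  fix : FixK ρ v
  ft : ∀ w, φ (ρ gt w) = φ w
  fu : ∀ w, φ (ρ gu w) = φ w
  fc : ∀ w, φ (ρ gc w) = φ w

namespace Dat

variable {φ : Module.Dual F V} (D : Dat ρ v φ)
include D

theorem sep {w : V} (hw : ∀ g, φ (ρ g w) = 0) : w = 0 := by
  let W : Submodule F V :=
    { carrier := {w | ∀ g, φ (ρ g w) = 0}
      add_mem' := fun {a b} ha hb g => by rw [map_add, map_add, ha, hb, add_zero]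
      zero_mem' := fun g => by rw [map_zero, map_zero]
      smul_mem' := fun c a ha g => by rw [map_smul, map_smul, ha, smul_zero] }
  rcases D.irr W (by
    intro g a ha h
    rw [← rmul]
    exact ha _) with h | h
  · have h1 : w ∈ W := hw
    rw [h] at h1
    exact h1
  · exfalso
    apply D.φ0
    apply LinearMap.ext
    intro a
    have h1 : a ∈ W := by rw [h]; trivial
    have h2 := h1 1
    rw [rone] at h2
    exact h2

theorem fK (w : List ℕ) (x : V) : φ (ρ (evK w) x) = φ x := by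
  induction w with
  | nil =>
    have h1 : evK [] = 1 := by with_unfolding_all rfl
    rw [h1, rone]
  | cons a w ih =>
    rcases a with _ | _ | a
    · have h1 : evK (0 :: w) = gt * evK w := by with_unfolding_all rfl
      rw [h1, rmul, D.ft, ih]
    · have h1 : evK (1 :: w) = gu * evK w := by with_unfolding_all rfl
      rw [h1, rmul, D.fu, ih]
    · have h1 : evK ((a + 2) :: w) = gc * evK w := by with_unfolding_all rfl
      rw [h1, rmul, D.fc, ih]

theorem root (k j : Fin 12) : φ (vs ρ v (pos k) j)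
    = φ (vs ρ v (if sn k j = 1 then pos (rr (ty k j)) else ng (pos (rr (ty k j)))) (rc (ty k j))) := by
  rw [← D.fK (gt2 [] tkw k j), act2 D.fix, (orb_tab k j).1]
  congr 2
  unfold ci
  rw [evK_eq]
  exact (orb_tab k j).2

theorem row0 : ∑ j, vs ρ v (pos 0) j = 0 := by
  apply no_fix_three'' D.two D.three D.dim D.irr
  intro g hg
  rw [row_sum D.fix, hg]

theorem row1 : ∑ j, vs ρ v (pos 1) j = 0 := by
  have h1 := row_sum D.fix (rep 1) (pos 0)
  rw [D.row0, map_zero, rep_apply] at h1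
  exact h1.symm

theorem col0 : Tc ρ v (pos 0) = 0 := by
  apply no_fix_three' D.two D.three D.dim D.irr
  intro g hg
  rw [col_sum D.fix, hg]

theorem col1 : Tc ρ v (pos 1) = 0 := by
  have h1 := col_sum D.fix (out (rep 1)) (pos 0)
  rw [D.col0, map_zero, out_out, rep_apply] at h1
  exact h1.symm

/-- the values at the representatives -/
def R (_ : Dat ρ v φ) (t : Fin 5) : F := φ (vs ρ v (pos (rr t)) (rc t))

omit D in
theorem Hh_pos (i j : Fin 12) : Hh (pos i) (pos j) = Hm i j := by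
  unfold Hh
  rw [sgn_pos, sgn_pos, idx_pos, idx_pos, one_mul, one_mul]

omit D in
theorem Hh_ngpos (i j : Fin 12) : Hh (ng (pos i)) (pos j) = -Hm i j := by
  unfold Hh
  rw [sgn_ng, idx_ng, sgn_pos, sgn_pos, idx_pos, idx_pos]
  ring

omit D in
theorem Tc_neg (hn : ρ neg = -1) (j : Fin 12) :
    φ (Tc ρ v (pos j)) = ∑ i, ((Hm i j : ℤ) : F) * φ (vs ρ v (pos i) j) := by
  unfold Tc
  rw [map_sum, sum24]
  apply Finset.sum_congr rfl
  intro i _
  rw [Hh_pos, Hh_ngpos, idx_pos, vs_ng, hn]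
  rcases Hm_sq i j with h | h <;> rw [h]
  · rw [if_pos rfl, if_neg (by norm_num), map_zero, add_zero, Int.cast_one, one_mul]
  · rw [if_neg (by norm_num), if_pos (by norm_num), map_zero, zero_add, Int.cast_neg, Int.cast_one, neg_one_mul]
    change φ (-(vs ρ v (pos i) j)) = _
    rw [map_neg]

omit D in
theorem Tc_pos (hn : ρ neg = 1) (j : Fin 12) : φ (Tc ρ v (pos j)) = ∑ i, φ (vs ρ v (pos i) j) := by
  unfold Tc
  rw [map_sum, sum24]
  apply Finset.sum_congr rfl
  intro i _
  rw [Hh_pos, Hh_ngpos, idx_pos, vs_ng, hn]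
  rcases Hm_sq i j with h | h <;> rw [h]
  · rw [if_pos rfl, if_neg (by norm_num), map_zero, add_zero]
  · rw [if_neg (by norm_num), if_pos (by norm_num), map_zero, zero_add]
    rfl

/-- the case `ρ(-1) = -1` : values -/
theorem val_neg (hn : ρ neg = -1) (k j : Fin 12) : φ (vs ρ v (pos k) j) = ((sn k j : ℤ) : F) * D.R (ty k j) := by
  rw [D.root]
  unfold R
  rcases sn_cases k j with h | h <;> rw [h]
  · rw [if_pos rfl, Int.cast_one, one_mul]
  · rw [if_neg (by norm_num), vs_ng, hn, Int.cast_neg, Int.cast_one, neg_one_mul, ← map_neg]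
    rfl

/-- the case `ρ(-1) = 1` : values -/
theorem val_pos (hn : ρ neg = 1) (k j : Fin 12) : φ (vs ρ v (pos k) j) = D.R (ty k j) := by
  rw [D.root]
  unfold R
  rcases sn_cases k j with h | h <;> rw [h]
  · rw [if_pos rfl]
  · rw [if_neg (by norm_num), vs_ng, hn]
    rfl

theorem eqs_neg (hn : ρ neg = -1) : D.R 1 = D.R 0 ∧ D.R 2 = D.R 0 ∧ D.R 3 = D.R 0 := by
  have e1 := congrArg φ D.row0
  have e2 := congrArg φ D.row1
  have e3 := congrArg φ D.col0
  have e4 := congrArg φ D.col1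
  rw [map_sum, map_zero] at e1 e2
  rw [Tc_neg hn, map_zero] at e3 e4
  simp only [D.val_neg hn] at e1 e2 e3 e4
  simp only [← mul_assoc, ← Int.cast_mul] at e3 e4
  rw [sum_ty D.R (fun j => sn 0 j) (fun j => ty 0 j)] at e1
  rw [sum_ty D.R (fun j => sn 1 j) (fun j => ty 1 j)] at e2
  rw [sum_ty D.R (fun i => Hm i 0 * sn i 0) (fun i => ty i 0)] at e3
  rw [sum_ty D.R (fun i => Hm i 1 * sn i 1) (fun i => ty i 1)] at e4
  simp only [co_row0, co_row1, co_col0, co_col1, Fin.sum_univ_five] at e1 e2 e3 e4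
  norm_num [Fin.ext_iff] at e1 e2 e3 e4
  have h3 := D.three
  refine ⟨?_, ?_, ?_⟩
  · linear_combination 4 * D.R 1 * h3 - e1
  · linear_combination 4 * D.R 2 * h3 - e3
  · linear_combination (2 * D.R 3 - 2 * D.R 4 + 4 * D.R 1) * h3 - e4 - e1

theorem eqs_pos (hn : ρ neg = 1) : D.R 1 = D.R 0 ∧ D.R 2 = D.R 0 ∧ D.R 3 = D.R 0 := by
  have e1 := congrArg φ D.row0
  have e2 := congrArg φ D.row1
  have e3 := congrArg φ D.col0
  have e4 := congrArg φ D.col1
  rw [map_sum, map_zero] at e1 e2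
  rw [Tc_pos hn, map_zero] at e3 e4
  simp only [D.val_pos hn] at e1 e2 e3 e4
  have key : ∀ τ : Fin 12 → Fin 5, ∑ j, D.R (τ j) = ∑ t, ((∑ j, if τ j = t then (1 : ℤ) else 0 : ℤ) : F) * D.R t := by
    intro τ
    rw [← sum_ty D.R (fun _ => 1) τ]
    simp only [Int.cast_one, one_mul]
  rw [key] at e1 e2 e3 e4
  simp only [co_row0', co_row1', co_col0', co_col1', Fin.sum_univ_five] at e1 e2 e3 e4
  norm_num [Fin.ext_iff] at e1 e2 e3 e4
  have h3 := D.three
  refine ⟨?_, ?_, ?_⟩
  · linear_combination 4 * D.R 1 * h3 - e1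
  · linear_combination 4 * D.R 2 * h3 - e3
  · linear_combination (2 * D.R 3 + 2 * D.R 4 + 4 * D.R 1) * h3 - e4 - e1

end Dat

end Cfsg.Agent.H932.Mt
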