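import Cfsg.Agent.H932.MtTwoLin

/-!
# Characteristic two: the restriction to `M₁₁` is irreducible (helper932)

`Ev12 ρ` : `ρ` irreducible of dimension 12 over a field of characteristic 2, `x` acts non-trivially.

* `Ev12.not_fix` : no vector is fixed by `x`, `t`, `c`;
* `Ev12.irrL` : subspaces stable under `LL = ⟨x, i, j, s, c⟩` are trivial;
* `Ev12.exists_fixN` : a vector fixed by `N = ⟨x, i, j, s⟩`; `Ev12.dual`.
-/

set_option autoImplicit false
set_option linter.unusedSectionVars false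

namespace Cfsg.Agent.H932.Mt

open Module

/-- the permutation of the lines -/
def lpe (y : Γ) : Equiv.Perm (Fin 12) where
  toFun i := idx (y.1.1 (pos i))
  invFun i := idx ((y⁻¹).1.1 (pos i))
  left_inv i := by
    have h1 : idx ((y⁻¹).1.1 (pos (idx (y.1.1 (pos i))))) = idx ((y⁻¹).1.1 (y.1.1 (pos i))) :=
      idx_congr y⁻¹ (by rw [idx_pos])
    have h2 : (y⁻¹).1.1 (y.1.1 (pos i)) = pos i := y.1.1.symm_apply_apply _
    change idx ((y⁻¹).1.1 (pos (idx (y.1.1 (pos i))))) = i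
    rw [h1, h2, idx_pos]
  right_inv i := by
    have h1 : idx (y.1.1 (pos (idx ((y⁻¹).1.1 (pos i))))) = idx (y.1.1 ((y⁻¹).1.1 (pos i))) :=
      idx_congr y (by rw [idx_pos])
    have h2 : y.1.1 ((y⁻¹).1.1 (pos i)) = pos i := y.1.1.apply_symm_apply _
    change idx (y.1.1 (pos (idx ((y⁻¹).1.1 (pos i))))) = i
    rw [h1, h2, idx_pos]

theorem lpe_apply (y : Γ) (i : Fin 12) : lpe y i = idx (y.1.1 (pos i)) := rfl

theorem lpe_mul (a c : Γ) (i : Fin 12) : lpe (a * c) i = lpe a (lpe c i) := by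
  rw [lpe_apply, lpe_apply, lpe_apply]
  change idx (a.1.1 (c.1.1 (pos i))) = _
  apply idx_congr
  rw [idx_pos]

/-- the stabiliser of a row, given by generators -/
def LL : Subgroup Γ := Subgroup.closure {gX, gi, gj, gS, gc}

theorem X_mem : gX ∈ LL := Subgroup.subset_closure (by simp)
theorem i_mem : gi ∈ LL := Subgroup.subset_closure (by simp)
theorem j_mem : gj ∈ LL := Subgroup.subset_closure (by simp)
theorem S_mem : gS ∈ LL := Subgroup.subset_closure (by simp)
theorem c_mem : gc ∈ LL := Subgroup.subset_closure (by simp)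
theorem t_mem : gt ∈ LL := by
  rw [← ii]
  exact LL.mul_mem i_mem i_mem
theorem Y_mem : gY ∈ LL := LL.mul_mem (LL.mul_mem i_mem X_mem) (LL.inv_mem i_mem)

theorem evL_c0 (w : List ℕ) : evL (0 :: w) = gX * evL w := by with_unfolding_all rfl
theorem evL_c1 (w : List ℕ) : evL (1 :: w) = gi * evL w := by with_unfolding_all rfl
theorem evL_c2 (w : List ℕ) : evL (2 :: w) = gj * evL w := by with_unfolding_all rfl
theorem evL_c3 (w : List ℕ) : evL (3 :: w) = gS * evL w := by with_unfolding_all rfl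
theorem evL_c4 (w : List ℕ) : evL (4 :: w) = gc * evL w := by with_unfolding_all rfl
theorem evL_c5 (n : ℕ) (w : List ℕ) : evL ((n + 5) :: w) = neg * evL w := by with_unfolding_all rfl
theorem evT_c0 (w : List ℕ) : evT (0 :: w) = lX * evT w := by with_unfolding_all rfl
theorem evT_c1 (w : List ℕ) : evT (1 :: w) = lI * evT w := by with_unfolding_all rfl
theorem evT_c2 (w : List ℕ) : evT (2 :: w) = lJ * evT w := by with_unfolding_all rfl
theorem evT_c3 (w : List ℕ) : evT (3 :: w) = lS * evT w := by with_unfolding_all rfl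
theorem evT_c4 (w : List ℕ) : evT (4 :: w) = lC * evT w := by with_unfolding_all rfl
theorem evT_c5 (n : ℕ) (w : List ℕ) : evT ((n + 5) :: w) = lN * evT w := by with_unfolding_all rfl

theorem evT_eq (w : List ℕ) : (evL w).1.1 = evT w := by
  induction w with
  | nil => rfl
  | cons a w ih =>
    have key : ∀ (g h : Γ), (g * h).1.1 = g.1.1 * h.1.1 := fun _ _ => rfl
    rcases a with _ | _ | _ | _ | _ | a
    · rw [evL_c0, evT_c0, key, ih, lX_eq]
    · rw [evL_c1, evT_c1, key, ih, lI_eq]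
    · rw [evL_c2, evT_c2, key, ih, lJ_eq]
    · rw [evL_c3, evT_c3, key, ih, lS_eq]
    · rw [evL_c4, evT_c4, key, ih, lC_eq]
    · rw [evL_c5, evT_c5, key, ih, lN_eq]

theorem evL_mem (w : List ℕ) (hw : ∀ a ∈ w, a < 5) : evL w ∈ LL := by
  induction w with
  | nil => exact LL.one_mem
  | cons a w ih =>
    have ih' := ih (fun b hb => hw b (List.mem_cons_of_mem _ hb))
    have ha := hw a List.mem_cons_self
    rcases a with _ | _ | _ | _ | _ | a
    · rw [evL_c0]; exact LL.mul_mem X_mem ih'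
    · rw [evL_c1]; exact LL.mul_mem i_mem ih'
    · rw [evL_c2]; exact LL.mul_mem j_mem ih'
    · rw [evL_c3]; exact LL.mul_mem S_mem ih'
    · rw [evL_c4]; exact LL.mul_mem c_mem ih'
    · omega

variable {F V : Type*} [Field F] [AddCommGroup V] [Module F V] [FiniteDimensional F V]
variable {ρ : Γ →* Module.End F V}

/-- stable under `LL` -/
def StabL (ρ : Γ →* Module.End F V) (W : Submodule F V) : Prop := ∀ g ∈ LL, ∀ v ∈ W, ρ g v ∈ W

theorem StabL.n {W : Submodule F V} (h : StabL ρ W) : StabN ρ W :=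
  ⟨h _ X_mem, h _ i_mem, h _ j_mem⟩

theorem StabL.triv {W : Submodule F V} (h : StabL ρ W) (hx : ∀ v ∈ W, ρ gX v = v) :
    ∀ v ∈ W, ρ gt v = v ∧ ρ gc v = v := by
  have key : ∀ g ∈ LL, ∀ v ∈ W, ρ (g * gX * g⁻¹) v = v := by
    intro g hg v hv
    rw [rmul, rmul, hx _ (h _ (LL.inv_mem hg) v hv), rinv']
  intro v hv
  have m1 := evL_mem [4, 3, 4] (by decide)
  have m2 := evL_mem [4, 2, 0, 0, 4] (by decide)
  have m3 := evL_mem [2, 4, 3, 4] (by decide)
  have m4 := evL_mem [3, 2, 4] (by decide)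
  constructor
  · rw [← t_two, rmul, key _ m2 v hv, key _ m1 v hv]
  · rw [← c_two, rmul, key _ m4 v hv, key _ m3 v hv]

theorem StabL.triv_quot {W : Submodule F V} (h : StabL ρ W) (hx : ∀ v, ρ gX v - v ∈ W) :
    ∀ v, ρ gt v - v ∈ W ∧ ρ gc v - v ∈ W := by
  have key : ∀ g ∈ LL, ∀ v, ρ (g * gX * g⁻¹) v - v ∈ W := by
    intro g hg v
    have h1 := h g hg _ (hx (ρ g⁻¹ v))
    rw [map_sub, rinv'] at h1
    rwa [rmul, rmul]
  have key2 : ∀ a c : Γ, (∀ v, ρ a v - v ∈ W) → (∀ v, ρ c v - v ∈ W) → ∀ v, ρ (a * c) v - v ∈ W := by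
    intro a c ha hc v
    rw [rmul]
    have h1 : ρ a (ρ c v) - v = (ρ a (ρ c v) - ρ c v) + (ρ c v - v) := by abel
    rw [h1]
    exact W.add_mem (ha _) (hc v)
  intro v
  have m1 := evL_mem [4, 3, 4] (by decide)
  have m2 := evL_mem [4, 2, 0, 0, 4] (by decide)
  have m3 := evL_mem [2, 4, 3, 4] (by decide)
  have m4 := evL_mem [3, 2, 4] (by decide)
  constructor
  · have h1 := key2 _ _ (key _ m1) (key _ m2) v
    rwa [t_two] at h1
  · have h1 := key2 _ _ (key _ m3) (key _ m4) v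
    rwa [c_two] at h1

/-- irreducible of dimension 12, characteristic 2 -/
structure Ev12 (ρ : Γ →* Module.End F V) : Prop where
  two : (2 : F) = 0
  dim : finrank F V = 12
  irr : Irr ρ
  nt : ∃ v, ρ gX v ≠ v

theorem Irr.dual (hI : Irr ρ) : Irr (Mt.dual ρ) := by
  intro U hU
  rcases hI U.dualCoannihilator (by
    intro g v hv
    rw [Submodule.mem_dualCoannihilator] at hv ⊢
    intro f hf
    have h1 := hU g⁻¹ f hf
    have h2 := hv _ h1
    rw [dual_apply, inv_inv] at h2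
    exact h2) with h | h
  · right
    rw [← Subspace.dualCoannihilator_dualAnnihilator_eq (W := U), h, Submodule.dualAnnihilator_bot]
  · left
    rw [← Subspace.dualCoannihilator_dualAnnihilator_eq (W := U), h, Submodule.dualAnnihilator_top]

namespace Ev12

variable (H : Ev12 ρ)
include H

theorem neg_one : ρ neg = 1 := by
  rcases neg_cases H.irr with h | h
  · exact h
  · rw [h]
    apply LinearMap.ext
    intro v
    exact neg_eq_two H.two v

theorem neg_v (v : V) : ρ neg v = v := by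
  rw [H.neg_one]
  rfl

theorem dual : Ev12 (Mt.dual ρ) where
  two := H.two
  dim := by rw [Subspace.dual_finrank_eq, H.dim]
  irr := H.irr.dual
  nt := by
    by_contra hne
    rw [not_exists] at hne
    obtain ⟨v, hv⟩ := H.nt
    apply hv
    have h1 : ∀ f : Module.Dual F V, f (ρ gX v - v) = 0 := by
      intro f
      have h3 := not_not.1 (hne f)
      have h4 : Mt.dual ρ gX f (ρ gX v) = f (ρ gX v) := by rw [h3]
      rw [dual_apply, rinv] at h4
      rw [map_sub, h4, sub_self]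
    exact sub_eq_zero.1 ((Module.forall_dual_apply_eq_zero_iff F _).1 h1)

/-- no vector is fixed by `x`, `t`, `c` -/
theorem not_fix {v0 : V} (hv0 : v0 ≠ 0) (hX : ρ gX v0 = v0) (hT : ρ gt v0 = v0) (hC : ρ gc v0 = v0) : False := by
  have hli := linInd H.irr H.dim hv0 (Or.inl H.neg_one) hX hT hC
  have hidx : ∀ k, vec ρ v0 k = vec ρ v0 (pos (idx k)) := by
    intro k
    rcases eq_pos_or k with hk | hk
    · rw [← hk]
    · nth_rewrite 1 [hk]
      rw [vec_ng, H.neg_v]
  set w : V := ∑ i : Fin 12, vec ρ v0 (pos i) with hw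
  have hw0 : w ≠ 0 := by
    intro h0
    have h4 := Fintype.linearIndependent_iff.1 hli (fun _ => 1) (by simpa only [one_smul] using h0) 0
    exact one_ne_zero h4
  have hinv : ∀ g, ρ g w = w := by
    intro g
    rw [hw, map_sum]
    simp only [act hX hT hC]
    rw [← Equiv.sum_comp (lpe g) (fun i => vec ρ v0 (pos i))]
    apply Finset.sum_congr rfl
    intro i _
    rw [hidx, lpe_apply]
  rcases H.irr (Submodule.span F {w}) (by
    intro g v hv
    obtain ⟨a, rfl⟩ := Submodule.mem_span_singleton.1 hv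
    rw [map_smul, hinv]
    exact Submodule.mem_span_singleton.2 ⟨a, rfl⟩) with h | h
  · rw [Submodule.span_singleton_eq_bot] at h
    exact hw0 h
  · have h5 := finrank_span_singleton (K := F) hw0
    rw [h, finrank_top, H.dim] at h5
    norm_num at h5

theorem stab_top : StabL ρ (⊤ : Submodule F V) := fun _ _ _ _ => Submodule.mem_top

theorem fx_ne : finrank F (fx ρ gX) ≠ 12 := by
  intro h
  obtain ⟨v, hv⟩ := H.nt
  apply hv
  have h1 : fx ρ gX = ⊤ := Submodule.eq_top_of_finrank_eq (by rw [h, H.dim])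
  have h2 : v ∈ fx ρ gX := by rw [h1]; trivial
  exact mem_fx.1 h2

theorem dims : finrank F (fx ρ gX) = 6 ∧ finrank F (fx ρ gX ⊓ fx ρ gY : Submodule F V) = 4 ∧ finrank F (kr ρ gX) = 6 := by
  have h1 := H.stab_top.n.count H.two
  have h2 := H.stab_top.n.even_kr H.two
  have h3 := split_tri H.two (ρ := ρ) (ord3_of x3) ⊤ (fun _ _ => Submodule.mem_top)
  rw [top_inf_eq] at h1 h2 h3
  rw [top_inf_eq] at h3
  rw [finrank_top, H.dim] at h1 h3
  obtain ⟨m, hm⟩ := h2
  have h4 := H.fx_ne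
  omega

/-- **The restriction to `LL` is irreducible.** -/
theorem irrL {W : Submodule F V} (hW : StabL ρ W) : W = ⊥ ∨ W = ⊤ := by
  obtain ⟨d1, d2, d3⟩ := H.dims
  have h1 := hW.n.count H.two
  obtain ⟨m, h2⟩ := hW.n.even_kr H.two
  have h3 := split_tri H.two (ρ := ρ) (ord3_of x3) W hW.n.x
  have h4 : finrank F (W ⊓ kr ρ gX : Submodule F V) ≤ finrank F (kr ρ gX) := Submodule.finrank_mono inf_le_right
  have h5 : finrank F (W ⊓ kr ρ gX : Submodule F V) = 0 ∨ finrank F (W ⊓ kr ρ gX : Submodule F V) = 6 := by omega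
  rcases h5 with h5 | h5
  · -- `x` is trivial on `W`
    left
    have h6 : W ⊓ fx ρ gX = W := Submodule.eq_of_le_of_finrank_eq inf_le_left (by omega)
    have hx : ∀ v ∈ W, ρ gX v = v := by
      intro v hv
      rw [← h6] at hv
      exact mem_fx.1 hv.2
    rw [eq_bot_iff]
    intro v hv
    by_contra hv0
    obtain ⟨h7, h8⟩ := hW.triv hx v hv
    exact H.not_fix hv0 (hx v hv) h7 h8
  · -- `x` is trivial on `V / W`
    right
    have h6 : W ⊓ kr ρ gX = kr ρ gX := Submodule.eq_of_le_of_finrank_eq inf_le_right (by omega)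
    have hx : ∀ v, ρ gX v - v ∈ W := by
      intro v
      have h7 : ρ gX v - v ∈ kr ρ gX := by
        rw [mem_kr, map_sub, map_sub, XX3 H.two]
        abel
      rw [← h6] at h7
      exact h7.1
    have h8 := hW.triv_quot hx
    by_contra hne
    have h9 : W < ⊤ := lt_top_iff_ne_top.2 hne
    obtain ⟨f, hf0, hf⟩ := Submodule.exists_le_ker_of_lt_top W h9
    apply H.dual.not_fix hf0
    · apply LinearMap.ext
      intro v
      rw [dual_apply]
      have h10 := hf (hx (ρ gX⁻¹ v))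
      rw [rinv', LinearMap.mem_ker, map_sub, sub_eq_zero] at h10
      exact h10.symm
    · apply LinearMap.ext
      intro v
      rw [dual_apply]
      have h10 := hf (h8 (ρ gt⁻¹ v)).1
      rw [rinv', LinearMap.mem_ker, map_sub, sub_eq_zero] at h10
      exact h10.symm
    · apply LinearMap.ext
      intro v
      rw [dual_apply]
      have h10 := hf (h8 (ρ gc⁻¹ v)).2
      rw [rinv', LinearMap.mem_ker, map_sub, sub_eq_zero] at h10
      exact h10.symm

/-- fixed vectors of an involution -/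
theorem fix2 (P : V → Prop) (g : Γ) {v : V} (hv0 : v ≠ 0) (hv : P v) (hadd : ∀ a c, P a → P c → P (a + c))
    (hg : ∀ a, P a → P (ρ g a)) (hgg : ∀ a, P a → ρ g (ρ g a) = a) : ∃ w, w ≠ 0 ∧ P w ∧ ρ g w = w := by
  by_cases h : ρ g v = v
  · exact ⟨v, hv0, hv, h⟩
  · refine ⟨v + ρ g v, ?_, hadd _ _ hv (hg v hv), ?_⟩
    · intro h0
      apply h
      rw [← neg_eq_iff_add_eq_zero, neg_eq_two H.two] at h0
      exact h0.symm
    · rw [map_add, hgg v hv, add_comm]

/-- **A vector fixed by `N`.** -/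
theorem exists_fixN : ∃ v : V, v ≠ 0 ∧ ρ gX v = v ∧ ρ gi v = v ∧ ρ gj v = v ∧ ρ gS v = v := by
  obtain ⟨d1, d2, d3⟩ := H.dims
  have h1 : fx ρ gX ⊓ fx ρ gY ≠ ⊥ := by
    intro h
    rw [h, finrank_bot] at d2
    norm_num at d2
  obtain ⟨v0, hv0, hne0⟩ := (Submodule.ne_bot_iff _).1 h1
  have hx0 : ρ gX v0 = v0 := mem_fx.1 hv0.1
  have hy0 : ρ gY v0 = v0 := mem_fx.1 hv0.2
  have inv : ∀ {g : Γ} {a : V}, ρ g a = a → ρ g⁻¹ a = a := by
    intro g a ha
    have h2 := rinv ρ g a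
    rwa [ha] at h2
  -- `t`
  obtain ⟨v1, hne1, ⟨hx1, hy1⟩, ht1⟩ := H.fix2 (fun v => ρ gX v = v ∧ ρ gY v = v) gt hne0 ⟨hx0, hy0⟩
    (fun a c ha hc => ⟨by rw [map_add, ha.1, hc.1], by rw [map_add, ha.2, hc.2]⟩)
    (fun a ha => by
      have e1 : ρ gt a = ρ gX (ρ gt a) := by
        have h4 := req ρ tx a
        rw [ha.1] at h4
        have h5 := congrArg (ρ gX) h4
        rw [rinv'] at h5
        exact h5.symm
      have e2 : ρ gt a = ρ gY (ρ gt a) := by
        have h4 := req ρ tYr a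
        rw [ha.2] at h4
        have h5 := congrArg (ρ gY) h4
        rw [rinv'] at h5
        exact h5.symm
      exact ⟨e1.symm, e2.symm⟩)
    (fun a _ => by rw [← rmul, tt, rone])
  -- `i`
  obtain ⟨v2, hne2, ⟨hx2, hy2, ht2⟩, hi2⟩ := H.fix2 (fun v => ρ gX v = v ∧ ρ gY v = v ∧ ρ gt v = v) gi hne1
    ⟨hx1, hy1, ht1⟩
    (fun a c ha hc => ⟨by rw [map_add, ha.1, hc.1], by rw [map_add, ha.2.1, hc.2.1], by rw [map_add, ha.2.2, hc.2.2]⟩)
    (fun a ha => by
      refine ⟨?_, ?_, ?_⟩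
      · have h4 := req ρ iY a
        rw [ha.2.1] at h4
        have h5 := congrArg (ρ gX) h4
        rw [rinv'] at h5
        exact h5
      · rw [← req ρ iX, ha.1]
      · rw [← req ρ it, ha.2.2])
    (fun a ha => by rw [← rmul, ii, ha.2.2])
  -- `j`
  obtain ⟨v3, hne3, ⟨hx3, hy3, ht3, hi3⟩, hj3⟩ := H.fix2
    (fun v => ρ gX v = v ∧ ρ gY v = v ∧ ρ gt v = v ∧ ρ gi v = v) gj hne2 ⟨hx2, hy2, ht2, hi2⟩
    (fun a c ha hc => ⟨by rw [map_add, ha.1, hc.1], by rw [map_add, ha.2.1, hc.2.1],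
      by rw [map_add, ha.2.2.1, hc.2.2.1], by rw [map_add, ha.2.2.2, hc.2.2.2]⟩)
    (fun a ha => by
      obtain ⟨ax, ay, at1, ai⟩ := ha
      have f1 : ρ (gX * gY) (ρ gj a) = ρ gj a := by rw [← req ρ jX, ax]
      have f2 : ρ (gX * gY⁻¹) (ρ gj a) = ρ gj a := by rw [← req ρ jY, ay]
      -- `x y` and `x y⁻¹` fix : so `y² = (x y⁻¹)⁻¹ x y` fixes
      have f3 : ρ gY (ρ gj a) = ρ gj a := by
        have h3 : gY = (gX * gY⁻¹) * (gX * gY) ⁻¹ := by
          apply gext
          decide +kernel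
        rw [h3, rmul, inv f1, f2]
      have f4 : ρ gX (ρ gj a) = ρ gj a := by
        have h3 : gX = (gX * gY) * gY⁻¹ := by rw [mul_inv_cancel_right]
        rw [h3, rmul, inv f3, f1]
      refine ⟨f4, f3, ?_, ?_⟩
      · rw [← req ρ jt, at1]
      · have h4 := req ρ ji a
        rw [ai] at h4
        have h5 := congrArg (ρ gi) h4
        rw [rinv'] at h5
        exact h5)
    (fun a ha => by rw [← rmul, jj, ha.2.2.1])
  -- `s`
  obtain ⟨v4, hne4, ⟨hx4, hy4, ht4, hi4, hj4⟩, hs4⟩ := H.fix2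
    (fun v => ρ gX v = v ∧ ρ gY v = v ∧ ρ gt v = v ∧ ρ gi v = v ∧ ρ gj v = v) gS hne3 ⟨hx3, hy3, ht3, hi3, hj3⟩
    (fun a c ha hc => ⟨by rw [map_add, ha.1, hc.1], by rw [map_add, ha.2.1, hc.2.1],
      by rw [map_add, ha.2.2.1, hc.2.2.1], by rw [map_add, ha.2.2.2.1, hc.2.2.2.1],
      by rw [map_add, ha.2.2.2.2, hc.2.2.2.2]⟩)
    (fun a ha => by
      obtain ⟨ax, ay, at1, ai, aj⟩ := ha
      refine ⟨?_, ?_, ?_, ?_, ?_⟩
      · rw [← req ρ sX, ax]
      · have h4 := req ρ sY a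
        rw [ay] at h4
        have h5 := congrArg (ρ gY) h4
        rw [rinv'] at h5
        exact h5
      · rw [← req ρ st', at1]
      · rw [req ρ iS, rmul, rmul, ai, ai, ai]
      · rw [req ρ jS, rmul, ai, aj])
    (fun a _ => by rw [← rmul, sS, rone])
  exact ⟨v4, hne4, hx4, hi4, hj4, hs4⟩

end Ev12

end Cfsg.Agent.H932.Mt
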