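import Cfsg.Agent.H932.MtPairDat

/-!
# Tables for the action of the stabiliser of a row on pairs of rows (helper932)

`M = ⟨x, i, j, s, c⟩` (`M₁₁` modulo `-1`), `N = ⟨x, i, j, s⟩` the stabiliser of the pair `{1, 2}` (generated by program,
checked by the kernel).
-/

set_option autoImplicit false

namespace Cfsg.Agent.H932.Mt

/-- the involution `s` of `N` outside `3²:Q₈` -/
def gS : Γ := el [2, 2, 2, 2, 2, 1, 0, 0, 0, 0, 0]

/-- the permutation of a letter, as a table -/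
def lX : Equiv.Perm (Fin 24) where
  toFun := tf [0, 1, 2, 3, 4, 5, 23, 22, 6, 7, 16, 17, 10, 11, 20, 21, 12, 13, 14, 15, 18, 19, 9, 8]
  invFun := tf [0, 1, 2, 3, 4, 5, 8, 9, 23, 22, 12, 13, 16, 17, 18, 19, 10, 11, 20, 21, 14, 15, 7, 6]
  left_inv := by decide +kernel
  right_inv := by decide +kernel

/-- the permutation of a letter, as a table -/
def lI : Equiv.Perm (Fin 24) where
  toFun := tf [0, 1, 3, 2, 5, 4, 16, 17, 23, 22, 10, 11, 6, 7, 9, 8, 21, 20, 14, 15, 13, 12, 18, 19]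
  invFun := tf [0, 1, 3, 2, 5, 4, 12, 13, 15, 14, 10, 11, 21, 20, 18, 19, 6, 7, 22, 23, 17, 16, 9, 8]
  left_inv := by decide +kernel
  right_inv := by decide +kernel

/-- the permutation of a letter, as a table -/
def lJ : Equiv.Perm (Fin 24) where
  toFun := tf [0, 1, 2, 3, 5, 4, 14, 15, 17, 16, 11, 10, 9, 8, 21, 20, 18, 19, 12, 13, 23, 22, 6, 7]
  invFun := tf [0, 1, 2, 3, 5, 4, 22, 23, 13, 12, 11, 10, 18, 19, 6, 7, 9, 8, 16, 17, 15, 14, 21, 20]
  left_inv := by decide +kernel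
  right_inv := by decide +kernel

/-- the permutation of a letter, as a table -/
def lS : Equiv.Perm (Fin 24) where
  toFun := tf [0, 1, 4, 5, 2, 3, 21, 20, 15, 14, 10, 11, 12, 13, 9, 8, 16, 17, 22, 23, 7, 6, 18, 19]
  invFun := tf [0, 1, 4, 5, 2, 3, 21, 20, 15, 14, 10, 11, 12, 13, 9, 8, 16, 17, 22, 23, 7, 6, 18, 19]
  left_inv := by decide +kernel
  right_inv := by decide +kernel

/-- the permutation of a letter, as a table -/
def lC : Equiv.Perm (Fin 24) where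
  toFun := tf [0, 1, 7, 6, 16, 17, 3, 2, 8, 9, 22, 23, 21, 20, 14, 15, 4, 5, 18, 19, 13, 12, 10, 11]
  invFun := tf [0, 1, 7, 6, 16, 17, 3, 2, 8, 9, 22, 23, 21, 20, 14, 15, 4, 5, 18, 19, 13, 12, 10, 11]
  left_inv := by decide +kernel
  right_inv := by decide +kernel

/-- the permutation of a letter, as a table -/
def lN : Equiv.Perm (Fin 24) where
  toFun := tf [1, 0, 3, 2, 5, 4, 7, 6, 9, 8, 11, 10, 13, 12, 15, 14, 17, 16, 19, 18, 21, 20, 23, 22]
  invFun := tf [1, 0, 3, 2, 5, 4, 7, 6, 9, 8, 11, 10, 13, 12, 15, 14, 17, 16, 19, 18, 21, 20, 23, 22]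
  left_inv := by decide +kernel
  right_inv := by decide +kernel

/-- words in the letters -/
def evL : List ℕ → Γ
  | [] => 1
  | 0 :: w => gX * evL w
  | 1 :: w => gi * evL w
  | 2 :: w => gj * evL w
  | 3 :: w => gS * evL w
  | 4 :: w => gc * evL w
  | _ :: w => neg * evL w

/-- words in the tables -/
def evT : List ℕ → Equiv.Perm (Fin 24)
  | [] => 1
  | 0 :: w => lX * evT w
  | 1 :: w => lI * evT w
  | 2 :: w => lJ * evT w
  | 3 :: w => lS * evT w
  | 4 :: w => lC * evT w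
  | _ :: w => lN * evT w

theorem lX_eq : gX.1.1 = lX := by decide +kernel
theorem lI_eq : gi.1.1 = lI := by decide +kernel
theorem lJ_eq : gj.1.1 = lJ := by decide +kernel
theorem lS_eq : gS.1.1 = lS := by decide +kernel
theorem lC_eq : gc.1.1 = lC := by decide +kernel
theorem lN_eq : neg.1.1 = lN := by decide +kernel

/-- words for the representatives of the pairs -/
def trq : List (List (List ℕ)) :=
  [[[], [], [], [], [], [], [], [], [], [], [], []],
   [[], [], [], [0, 4, 2, 0, 4], [4, 2, 0, 4], [3, 0, 4, 1, 4], [3, 4, 1, 4], [4, 1, 0, 1, 4], [2, 4, 2, 0, 4], [4, 1, 0, 4, 3], [4, 3, 1, 1, 4], [1, 4, 2, 0, 4]],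
   [[], [], [], [1, 4, 1, 4], [2, 4, 1, 4], [0, 4, 1, 4], [4, 1, 4], [3, 4, 2, 0, 4], [0, 0, 4, 1, 4], [4, 0, 4, 0, 4], [3, 0, 4, 2, 0, 4], [4, 2, 0, 0, 4]],
   [[], [], [], [], [2, 0, 4], [3, 4, 0, 4, 3], [3, 1, 1, 4], [1, 0, 1, 4], [4], [1, 0, 4, 3], [0, 1, 2, 4], [0, 2, 0, 4, 3]],
   [[], [], [], [], [], [0, 0, 4], [2, 0, 1, 4], [1, 2, 4], [0, 1, 0, 0, 4], [1, 0, 1, 0, 4], [1, 1, 1, 0, 4], [3, 2, 4]],
   [[], [], [], [], [], [], [1, 4, 0, 4], [0, 0, 1, 4], [2, 0, 0, 4, 3], [0, 1, 3, 4], [4, 0, 4], [2, 4, 0, 4]],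
   [[], [], [], [], [], [], [], [2, 1, 0, 4], [0, 2, 0, 0, 4], [0, 1, 4], [1, 3, 4], [0, 4, 3]],
   [[], [], [], [], [], [], [], [], [1, 1, 0, 4], [2, 4], [0, 2, 4, 3], [0, 1, 0, 4]],
   [[], [], [], [], [], [], [], [], [], [0, 4, 0, 4], [1, 4], [1, 2, 0, 4]],
   [[], [], [], [], [], [], [], [], [], [], [4, 3, 0, 4], [2, 1, 4]],
   [[], [], [], [], [], [], [], [], [], [], [], [3, 1, 0, 4, 3]],
   [[], [], [], [], [], [], [], [], [], [], [], []]]

/-- Schreier words -/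
def tq0 : List (List (List ℕ)) :=
  [[[], [], [], [], [], [], [], [], [], [], [], []],
   [[], [], [0], [1, 2], [], [1, 0, 1], [], [0], [1, 0, 1], [0, 1, 1, 1], [1, 0], [2, 1]],
   [[], [], [], [1, 2, 0, 2, 1], [2, 0, 0], [], [], [], [], [1], [1, 1, 1], [2, 0, 1, 1]],
   [[], [], [], [], [3], [2, 3], [1, 0, 2, 3], [2, 0, 2, 3], [3], [3], [0, 1, 3, 0, 0], [3, 2, 0, 2]],
   [[], [], [], [], [], [], [0, 2, 1, 1, 0], [], [2, 0, 0, 2, 0], [], [2, 0, 2, 1], [2, 0, 0, 2, 0]],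
   [[], [], [], [], [], [], [2, 3, 0, 1], [], [3], [3, 1], [], [3, 1, 2]],
   [[], [], [], [], [], [], [], [0, 0, 2, 0], [0, 0, 2, 0], [], [], [3]],
   [[], [], [], [], [], [], [], [], [3, 1], [3], [0, 1, 3, 0], [0, 1, 3, 0, 0]],
   [[], [], [], [], [], [], [], [], [], [2, 1, 0, 1], [], [0, 1, 3, 0, 0]],
   [[], [], [], [], [], [], [], [], [], [], [1, 2, 0, 2], [0, 1, 3, 0, 0]],
   [[], [], [], [], [], [], [], [], [], [], [], [3, 2, 0, 2]],
   [[], [], [], [], [], [], [], [], [], [], [], []]]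

/-- Schreier words -/
def tq1 : List (List (List ℕ)) :=
  [[[], [], [], [], [], [], [], [], [], [], [], []],
   [[], [], [1], [1], [], [0, 0, 1, 2], [1, 1, 0, 1], [1, 0, 1, 2], [1, 0, 1, 1, 1], [2, 1, 1, 0], [], [1, 0, 1, 0]],
   [[], [], [], [1, 0, 0, 1], [1, 0, 0], [2, 1, 0], [], [1, 0, 1, 1, 1], [0, 1], [2], [1, 0], [0, 2, 1, 0, 0]],
   [[], [], [], [], [], [2, 0, 1, 3], [3, 1], [0, 1, 3, 0, 0], [], [3], [0, 1, 3, 0, 0], [2, 1]],
   [[], [], [], [], [], [3, 2], [3], [3, 1], [2, 0, 2, 3], [0, 1, 3, 0, 0], [3], [3, 1]],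
   [[], [], [], [], [], [], [3, 1, 0, 1], [0, 1, 3, 0, 0], [2, 1], [2, 0, 0, 2, 0], [], [2]],
   [[], [], [], [], [], [], [], [], [], [], [], []],
   [[], [], [], [], [], [], [], [], [], [], [0, 1, 0, 0], []],
   [[], [], [], [], [], [], [], [], [], [2, 3, 0, 1], [3, 1], [3, 1, 0, 1, 0]],
   [[], [], [], [], [], [], [], [], [], [], [1, 0, 1, 3, 0], []],
   [[], [], [], [], [], [], [], [], [], [], [], [1, 1, 1]],
   [[], [], [], [], [], [], [], [], [], [], [], []]]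

/-- Schreier words -/
def tq2 : List (List (List ℕ)) :=
  [[[], [], [], [], [], [], [], [], [], [], [], []],
   [[], [], [2], [2, 1, 0, 0], [], [2, 0, 0], [1, 1, 1, 0, 1], [0, 2, 1, 1, 0], [1, 0, 1, 0], [2, 0, 0, 2], [1, 1, 1, 0, 1], [1, 1, 1]],
   [[], [], [], [1, 1, 1, 0, 1], [1, 0, 0, 1], [0, 1, 0], [], [1, 1, 1], [0, 2, 0], [0, 0, 2, 0], [2, 0, 0, 2], [0, 1, 1, 1]],
   [[], [], [], [], [], [2, 3], [3, 1], [2, 0, 2, 1], [], [3], [], [3]],
   [[], [], [], [], [], [3], [0, 1, 3, 0, 0], [], [0, 0, 2, 0], [0, 1, 3, 0, 0], [], [3, 1]],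
   [[], [], [], [], [], [], [3, 1, 2], [0, 0, 2, 0], [1, 1, 1], [2, 1, 1], [], [3, 1, 0, 1]],
   [[], [], [], [], [], [], [], [], [], [], [], [3]],
   [[], [], [], [], [], [], [], [], [3, 1, 0, 1, 0], [3, 1], [2, 0, 2], [0, 1, 3, 0, 0]],
   [[], [], [], [], [], [], [], [], [], [3, 1, 2], [], [3]],
   [[], [], [], [], [], [], [], [], [], [], [2, 0, 0, 2], [3, 1]],
   [[], [], [], [], [], [], [], [], [], [], [], [1, 3]],
   [[], [], [], [], [], [], [], [], [], [], [], []]]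

/-- Schreier words -/
def tq3 : List (List (List ℕ)) :=
  [[[], [], [], [], [], [], [], [], [], [], [], []],
   [[], [], [3], [], [], [], [], [0, 2, 1, 1, 0], [1, 0, 1], [2, 0, 2, 1], [], [2, 1, 1]],
   [[], [], [], [], [0, 0, 2, 0, 0], [], [], [], [1, 0, 1], [2], [], [0, 1, 0, 0]],
   [[], [], [], [], [2, 0, 2, 3], [3], [3, 1], [3, 1], [3, 1], [], [3, 1], [3, 0, 0, 1, 0]],
   [[], [], [], [], [], [3, 1], [3, 1], [3, 1], [2, 0, 0, 2, 0], [2, 0, 0, 2, 0], [3, 1], []],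
   [[], [], [], [], [], [], [1, 0, 1], [3, 1], [2, 0, 2], [0, 0, 2, 0], [3], [2, 1, 0, 1]],
   [[], [], [], [], [], [], [], [3, 1], [2, 0, 0, 2, 0], [1], [3, 1], [1, 1, 1]],
   [[], [], [], [], [], [], [], [], [2, 0, 0, 2, 0], [], [3, 2, 0, 2], [2, 0, 0, 2, 0]],
   [[], [], [], [], [], [], [], [], [], [2], [3, 1], [2, 1, 1]],
   [[], [], [], [], [], [], [], [], [], [], [3, 0, 0, 1, 0], [3, 1]],
   [[], [], [], [], [], [], [], [], [], [], [], []],
   [[], [], [], [], [], [], [], [], [], [], [], []]]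

/-- Schreier words -/
def tq4 : List (List (List ℕ)) :=
  [[[], [], [], [], [], [], [], [], [], [], [], []],
   [[], [], [], [0, 0, 1, 3, 0], [], [1, 1, 0, 1, 0], [2, 1, 0, 0, 1], [], [1, 3, 0, 0, 1], [], [], [0, 2, 1]],
   [[], [], [], [1, 3, 0, 0, 1], [2, 3, 1, 0, 2], [1, 2, 0, 0], [], [3, 1, 0, 2, 0], [3, 0, 0, 1, 0], [], [2, 3, 1, 0, 0], [3]],
   [[], [], [], [], [], [1, 2, 0, 0], [], [], [], [], [0, 2, 0, 0], [0, 0, 1, 0]],
   [[], [], [], [], [], [0, 2, 1], [1, 1, 0, 1, 0], [0, 1, 1], [1, 3, 0, 1, 0], [1, 0, 1, 0], [0, 0, 1, 0], [1, 2, 0, 0]],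
   [[], [], [], [], [], [], [3, 1, 0, 1], [3, 0, 2, 0], [3], [3, 1, 2], [3], [0, 1, 3, 0, 0]],
   [[], [], [], [], [], [], [], [1, 3, 0, 1], [0, 2, 3], [3, 1], [1, 3], [3]],
   [[], [], [], [], [], [], [], [], [3, 0, 2, 0, 0], [1, 0, 0, 1], [1, 3, 0, 1], [1, 0, 2, 3, 1]],
   [[], [], [], [], [], [], [], [], [], [], [], [0, 2, 1]],
   [[], [], [], [], [], [], [], [], [], [], [3, 1], [3, 2]],
   [[], [], [], [], [], [], [], [], [], [], [], [1, 0, 1, 3]],
   [[], [], [], [], [], [], [], [], [], [], [], []]]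

/-- words to the representatives of the `N`-orbits on pairs -/
def tow : List (List (List ℕ)) :=
  [[[], [], [], [], [], [], [], [], [], [], [], []],
   [[], [], [], [], [0], [1, 0, 0], [1], [0, 1], [1, 0], [1, 2], [1, 1], [2]],
   [[], [], [], [3, 1, 1], [3, 1, 2], [3, 1, 0], [1, 3], [3, 0], [3, 1], [2, 3], [3], [2, 3, 1]],
   [[], [], [], [], [], [1, 3, 0, 0], [2, 0, 1], [3, 2], [2, 0], [1, 2], [0, 1, 0, 0], [0, 0]],
   [[], [], [], [], [], [2, 0, 0], [1, 3], [0, 1], [1, 0, 2], [3, 2, 0], [2, 1], [0]],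
   [[], [], [], [], [], [], [2, 0, 0, 2], [2, 3, 0, 0], [1, 0, 0, 1], [0, 2, 0, 0], [1, 0, 0], [1, 0, 2, 0]],
   [[], [], [], [], [], [], [], [1], [3, 2, 0, 2], [2, 3], [0, 2], [2]],
   [[], [], [], [], [], [], [], [], [0, 2, 0], [3, 0], [3], [2, 1, 0]],
   [[], [], [], [], [], [], [], [], [], [1, 0], [2, 3, 0], [1, 3, 0]],
   [[], [], [], [], [], [], [], [], [], [], [1, 1], [0, 1, 0]],
   [[], [], [], [], [], [], [], [], [], [], [], [2, 3, 1]],
   [[], [], [], [], [], [], [], [], [], [], [], []]]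

/-- the word of a pair -/
def rqw (a b : Fin 12) : List ℕ := if a < b then gt2 [] trq a b else gt2 [] trq b a

/-- the action on lines -/
def li (π : Equiv.Perm (Fin 24)) (a : Fin 12) : Fin 12 := idx (π (pos a))

/-- the check for the Schreier words -/
def schk (π : Equiv.Perm (Fin 24)) (t : List (List (List ℕ))) (a b : Fin 12) : Bool :=
  decide (π * evT (gt2 [] trq a b) = evT (rqw (li π a) (li π b)) * evT (gt2 [] t a b))

theorem sq0 : ∀ a b : Fin 12, 0 < a → a < b → schk lX tq0 a b = true := by decide +kernel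
theorem sq1 : ∀ a b : Fin 12, 0 < a → a < b → schk lI tq1 a b = true := by decide +kernel
theorem sq2 : ∀ a b : Fin 12, 0 < a → a < b → schk lJ tq2 a b = true := by decide +kernel
theorem sq3 : ∀ a b : Fin 12, 0 < a → a < b → schk lS tq3 a b = true := by decide +kernel
theorem sq4 : ∀ a b : Fin 12, 0 < a → a < b → schk lC tq4 a b = true := by decide +kernel

/-- the number of points in common with `{1, 2}` -/
def nc (a b : Fin 12) : Fin 3 := (if a = 1 ∨ a = 2 then 1 else 0) + (if b = 1 ∨ b = 2 then 1 else 0)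

/-- the representatives of the orbits -/
def rt (n : Fin 3) : Fin 12 × Fin 12 := if n = 2 then (1, 2) else if n = 1 then (1, 3) else (3, 4)

theorem orb2_tab : ∀ a b : Fin 12, 0 < a → a < b →
    (li (evT (gt2 [] tow a b)) a = (rt (nc a b)).1 ∧ li (evT (gt2 [] tow a b)) b = (rt (nc a b)).2) ∨
    (li (evT (gt2 [] tow a b)) a = (rt (nc a b)).2 ∧ li (evT (gt2 [] tow a b)) b = (rt (nc a b)).1) := by decide +kernel

/-- the words of `N` -/
def isN (w : List ℕ) : Bool := w.all (fun a => decide (a < 4) || decide (a = 5))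

theorem tow_N : ∀ a b : Fin 12, isN (gt2 [] tow a b) = true := by decide +kernel
theorem tq_N : ∀ a b : Fin 12, isN (gt2 [] tq0 a b) = true ∧ isN (gt2 [] tq1 a b) = true ∧ isN (gt2 [] tq2 a b) = true ∧
    isN (gt2 [] tq3 a b) = true ∧ isN (gt2 [] tq4 a b) = true := by decide +kernel

theorem rq_tab : ∀ a b : Fin 12, 0 < a → a < b → li (evT (gt2 [] trq a b)) 1 = a ∧ li (evT (gt2 [] trq a b)) 2 = b := by
  decide +kernel

theorem rq_base : gt2 [] trq 1 2 = [] := by decide +kernel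

theorem li_zero : li lX 0 = 0 ∧ li lI 0 = 0 ∧ li lJ 0 = 0 ∧ li lS 0 = 0 ∧ li lC 0 = 0 := by decide +kernel

theorem t_two : evL [4, 3, 4] * gX * (evL [4, 3, 4])⁻¹ * (evL [4, 2, 0, 0, 4] * gX * (evL [4, 2, 0, 0, 4])⁻¹) = gt :=
  gext (by decide +kernel)
theorem c_two : evL [2, 4, 3, 4] * gX * (evL [2, 4, 3, 4])⁻¹ * (evL [3, 2, 4] * gX * (evL [3, 2, 4])⁻¹) = gc :=
  gext (by decide +kernel)
theorem sX : gS * gX = gX * gS := gext (by decide +kernel)
theorem sY : gS * gY = gY⁻¹ * gS := gext (by decide +kernel)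
theorem iY : gi * gY = gX⁻¹ * gi := gext (by decide +kernel)
theorem jY : gj * gY = gX * gY⁻¹ * gj := gext (by decide +kernel)
theorem tYr : gt * gY = gY⁻¹ * gt := gext (by decide +kernel)
theorem y3 : gY * gY * gY = 1 := gext (by decide +kernel)
theorem iS : gi * gS = gS * (gi * gi * gi) := gext (by decide +kernel)
theorem jS : gj * gS = gS * (gj * gi) := gext (by decide +kernel)
theorem sS : gS * gS = 1 := gext (by decide +kernel)
theorem st' : gS * gt = gt * gS := gext (by decide +kernel)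

end Cfsg.Agent.H932.Mt
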