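import Cfsg.Agent.H932.MtTwoDat
import Cfsg.Agent.H932.MtPair

/-!
# Characteristic two: dimensions of fixed spaces in representations of `2.M₁₂` (helper932)

* `split_tri` : splitting by an element of order 3;
* `count` : `dim W + 3 dim W^E = 4 dim W^x` for `E = ⟨x, y⟩` and `W` stable under `x, y, i, j`;
* `even_kr` : `dim W - dim W^x` is even.
-/

set_option autoImplicit false
set_option linter.unusedSectionVars false

namespace Cfsg.Agent.H932.Mt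

open Module

variable {F V : Type*} [Field F] [AddCommGroup V] [Module F V] [FiniteDimensional F V]
variable {ρ : Γ →* Module.End F V}

/-- the fixed space -/
def fx (ρ : Γ →* Module.End F V) (g : Γ) : Submodule F V := es (ρ g) 1

/-- the kernel of `1 + g + g²` -/
def kr (ρ : Γ →* Module.End F V) (g : Γ) : Submodule F V := LinearMap.ker (Odd12.tri ρ g)

theorem mem_fx {g : Γ} {v : V} : v ∈ fx ρ g ↔ ρ g v = v := mem_es_one

theorem mem_kr {g : Γ} {v : V} : v ∈ kr ρ g ↔ v + ρ g v + ρ g (ρ g v) = 0 := Iff.rfl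

theorem add_self_two (h2 : (2 : F) = 0) (v : V) : v + v = 0 := by
  rw [← two_smul F, h2, zero_smul]

theorem neg_eq_two (h2 : (2 : F) = 0) (v : V) : -v = v := by
  rw [neg_eq_iff_add_eq_zero, add_self_two h2]

/-- `g` of order 3 in the representation -/
def Ord3 (ρ : Γ →* Module.End F V) (g : Γ) : Prop := ∀ v, ρ g (ρ g (ρ g v)) = v

theorem ord3_of {g : Γ} (h : g * g * g = 1) : Ord3 ρ g := by
  intro v
  rw [← rmul, ← rmul, h, rone]

theorem split_tri (h2 : (2 : F) = 0) {g : Γ} (hg : Ord3 ρ g) (W : Submodule F V) (hW : ∀ v ∈ W, ρ g v ∈ W) :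
    finrank F W = finrank F (W ⊓ fx ρ g : Submodule F V) + finrank F (W ⊓ kr ρ g : Submodule F V) := by
  have hS : ∀ v, Odd12.tri ρ g v = v + ρ g v + ρ g (ρ g v) := fun v => rfl
  have h1 : (W ⊓ fx ρ g) ⊔ (W ⊓ kr ρ g) = W := by
    apply le_antisymm (sup_le inf_le_left inf_le_left)
    intro v hv
    rw [Submodule.mem_sup]
    have hSv : v + ρ g v + ρ g (ρ g v) ∈ W := W.add_mem (W.add_mem hv (hW _ hv)) (hW _ (hW _ hv))
    refine ⟨v + ρ g v + ρ g (ρ g v), ⟨hSv, ?_⟩, ρ g v + ρ g (ρ g v), ⟨W.add_mem (hW _ hv) (hW _ (hW _ hv)), ?_⟩, ?_⟩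
    · rw [SetLike.mem_coe, mem_fx, map_add, map_add, hg]
      abel
    · rw [SetLike.mem_coe, mem_kr, map_add, map_add, hg]
      have e1 := add_self_two h2 (ρ g v)
      have e2 := add_self_two h2 (ρ g (ρ g v))
      have e3 := add_self_two h2 v
      calc ρ g v + ρ g (ρ g v) + (ρ g (ρ g v) + v) + (v + ρ g v)
          = (ρ g v + ρ g v) + (ρ g (ρ g v) + ρ g (ρ g v)) + (v + v) := by abel
        _ = 0 := by rw [e1, e2, e3, add_zero, add_zero]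
    · calc v + ρ g v + ρ g (ρ g v) + (ρ g v + ρ g (ρ g v))
          = v + (ρ g v + ρ g v) + (ρ g (ρ g v) + ρ g (ρ g v)) := by abel
        _ = v := by rw [add_self_two h2, add_self_two h2, add_zero, add_zero]
  have h3 : (W ⊓ fx ρ g) ⊓ (W ⊓ kr ρ g) = ⊥ := by
    rw [eq_bot_iff]
    rintro v ⟨⟨_, h4⟩, ⟨_, h5⟩⟩
    rw [SetLike.mem_coe, mem_fx] at h4
    rw [SetLike.mem_coe, mem_kr, h4, h4, add_self_two h2, zero_add] at h5
    exact h5
  have h6 := Submodule.finrank_sup_add_finrank_inf_eq (W ⊓ fx ρ g) (W ⊓ kr ρ g)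
  rw [h1, h3, finrank_bot, add_zero] at h6
  exact h6

/-- `z = x y` -/
def gZ : Γ := gX * gY
/-- `w = x⁻¹ y` -/
def gW : Γ := gX⁻¹ * gY

theorem z3 : gZ * gZ * gZ = 1 := gext (by decide +kernel)
theorem w3 : gW * gW * gW = 1 := gext (by decide +kernel)

section count

variable (h2 : (2 : F) = 0)
include h2

theorem XX3 (v : V) : ρ gX (ρ gX (ρ gX v)) = v := ord3_of x3 v
theorem YY3 (v : V) : ρ gY (ρ gY (ρ gY v)) = v := ord3_of y3 v
theorem YX (v : V) : ρ gY (ρ gX v) = ρ gX (ρ gY v) := (req ρ xy v).symm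
theorem Zv (v : V) : ρ gZ v = ρ gX (ρ gY v) := rmul ρ gX gY v
theorem Wv (v : V) : ρ gW v = ρ gX (ρ gX (ρ gY v)) := by
  unfold gW
  rw [rmul, Odd12.Xinv]

end count

theorem mem_count (h2 : (2 : F) = 0) {v : V} (hx : v ∈ kr ρ gX) :
    (v ∈ fx ρ gZ → v ∈ kr ρ gY) ∧ (v ∈ fx ρ gW → v ∈ kr ρ gY ∧ v ∈ kr ρ gZ) ∧
      (v ∈ kr ρ gY → v ∈ kr ρ gZ → v ∈ fx ρ gW) := by
  rw [mem_kr] at hx
  refine ⟨?_, ?_, ?_⟩
  · intro hz
    rw [mem_fx, Zv h2] at hz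
    -- `Y v = X² v`
    have h1 : ρ gY v = ρ gX (ρ gX v) := by
      have h3 := congrArg (fun w => ρ gX (ρ gX w)) hz
      simpa only [XX3 h2] using h3
    rw [mem_kr, h1, YX h2, YX h2, h1, XX3 h2]
    rw [← hx]
    abel
  · intro hw
    rw [mem_fx, Wv h2] at hw
    have h1 : ρ gY v = ρ gX v := by
      have h3 := congrArg (fun w => ρ gX w) hw
      simpa only [XX3 h2] using h3
    constructor
    · rw [mem_kr, h1, YX h2, h1]
      exact hx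
    · rw [mem_kr, Zv h2, Zv h2, YX h2, h1, YX h2, h1, XX3 h2]
      rw [← hx]
      abel
  · intro hy hz
    rw [mem_kr] at hy
    rw [mem_kr, Zv h2, Zv h2, YX h2] at hz
    rw [mem_fx, Wv h2]
    have e1 : ρ gX (ρ gX v) = v + ρ gX v := by
      have h3 := hx
      rw [add_comm, ← neg_eq_iff_add_eq_zero, neg_eq_two h2] at h3
      exact h3
    have e2 : ρ gY (ρ gY v) = v + ρ gY v := by
      have h3 := hy
      rw [add_comm, ← neg_eq_iff_add_eq_zero, neg_eq_two h2] at h3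
      exact h3
    have e3 : ρ gX (ρ gX (ρ gY v)) = ρ gY v + ρ gX (ρ gY v) := by
      have h3 := congrArg (ρ gY) e1
      rw [YX h2, YX h2, map_add, YX h2] at h3
      exact h3
    have e4 : ρ gX (ρ gX (ρ gY (ρ gY v))) = (v + ρ gX v) + (ρ gY v + ρ gX (ρ gY v)) := by
      rw [e2, map_add, map_add, e1, e3]
    rw [e4] at hz
    have h5 : (v + v) + (ρ gX (ρ gY v) + ρ gX (ρ gY v)) + (ρ gX v + ρ gY v) = 0 := by
      rw [← hz]
      abel
    rw [add_self_two h2, add_self_two h2, zero_add, zero_add] at h5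
    have h6 : ρ gY v = ρ gX v := by
      rw [add_comm, ← neg_eq_iff_add_eq_zero, neg_eq_two h2] at h5
      exact h5
    rw [h6, XX3 h2]

/-- the count -/
theorem count (h2 : (2 : F) = 0) (W : Submodule F V) (hX : ∀ v ∈ W, ρ gX v ∈ W) (hY : ∀ v ∈ W, ρ gY v ∈ W) :
    finrank F W + 3 * finrank F (W ⊓ fx ρ gX ⊓ fx ρ gY : Submodule F V)
      = finrank F (W ⊓ fx ρ gX : Submodule F V) + finrank F (W ⊓ fx ρ gY : Submodule F V)
        + finrank F (W ⊓ fx ρ gZ : Submodule F V) + finrank F (W ⊓ fx ρ gW : Submodule F V) := by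
  have ox : Ord3 ρ gX := ord3_of x3
  have oy : Ord3 ρ gY := ord3_of y3
  have oz : Ord3 ρ gZ := ord3_of z3
  have hfY : ∀ v ∈ fx ρ gY, ρ gX v ∈ fx ρ gY := by
    intro v hv
    rw [mem_fx] at hv ⊢
    rw [YX h2, hv]
  have hkX : ∀ v ∈ kr ρ gX, ρ gY v ∈ kr ρ gX := by
    intro v hv
    rw [mem_kr] at hv ⊢
    rw [← YX h2, ← YX h2, ← map_add, ← map_add, hv, map_zero]
  have hkX' : ∀ v ∈ kr ρ gX, ρ gX v ∈ kr ρ gX := by
    intro v hv
    rw [mem_kr] at hv ⊢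
    rw [← map_add, ← map_add, hv, map_zero]
  have hkY : ∀ v ∈ kr ρ gY, ρ gX v ∈ kr ρ gY := by
    intro v hv
    rw [mem_kr] at hv ⊢
    rw [YX h2, YX h2, ← map_add, ← map_add, hv, map_zero]
  have hkY' : ∀ v ∈ kr ρ gY, ρ gY v ∈ kr ρ gY := by
    intro v hv
    rw [mem_kr] at hv ⊢
    rw [← map_add, ← map_add, hv, map_zero]
  have hfZ : ∀ v ∈ fx ρ gZ, ρ gX v ∈ fx ρ gZ := by
    intro v hv
    rw [mem_fx, Zv h2] at hv ⊢
    rw [YX h2, hv]
  have hfW : ∀ v ∈ fx ρ gW, ρ gX v ∈ fx ρ gW := by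
    intro v hv
    rw [mem_fx, Wv h2] at hv ⊢
    rw [YX h2, hv]
  have s1 := split_tri h2 ox W hX
  have s2 := split_tri h2 oy (W ⊓ kr ρ gX) (fun v hv => ⟨hY v hv.1, hkX v hv.2⟩)
  have s3 := split_tri h2 oz (W ⊓ kr ρ gX ⊓ kr ρ gY) (fun v hv => by
    rw [Zv h2]
    exact ⟨⟨hX _ (hY v hv.1.1), hkX' _ (hkX v hv.1.2)⟩, hkY _ (hkY' v hv.2)⟩)
  have s4 := split_tri h2 ox (W ⊓ fx ρ gY) (fun v hv => ⟨hX v hv.1, hfY v hv.2⟩)
  have s5 := split_tri h2 ox (W ⊓ fx ρ gZ) (fun v hv => ⟨hX v hv.1, hfZ v hv.2⟩)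
  have s6 := split_tri h2 ox (W ⊓ fx ρ gW) (fun v hv => ⟨hX v hv.1, hfW v hv.2⟩)
  -- identifications
  have i4 : W ⊓ fx ρ gY ⊓ fx ρ gX = W ⊓ fx ρ gX ⊓ fx ρ gY := by
    rw [inf_assoc, inf_comm (fx ρ gY), ← inf_assoc]
  have i4' : W ⊓ fx ρ gY ⊓ kr ρ gX = W ⊓ kr ρ gX ⊓ fx ρ gY := by
    rw [inf_assoc, inf_comm (fx ρ gY), ← inf_assoc]
  have i5 : W ⊓ fx ρ gZ ⊓ fx ρ gX = W ⊓ fx ρ gX ⊓ fx ρ gY := by
    ext v
    constructor
    · rintro ⟨⟨h3, h4⟩, h5⟩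
      refine ⟨⟨h3, h5⟩, ?_⟩
      rw [SetLike.mem_coe, mem_fx] at h4 h5 ⊢
      rw [Zv h2, ← YX h2, h5] at h4
      exact h4
    · rintro ⟨⟨h3, h4⟩, h5⟩
      refine ⟨⟨h3, ?_⟩, h4⟩
      rw [SetLike.mem_coe, mem_fx] at h4 h5 ⊢
      rw [Zv h2, h5, h4]
  have i6 : W ⊓ fx ρ gW ⊓ fx ρ gX = W ⊓ fx ρ gX ⊓ fx ρ gY := by
    ext v
    constructor
    · rintro ⟨⟨h3, h4⟩, h5⟩
      refine ⟨⟨h3, h5⟩, ?_⟩
      rw [SetLike.mem_coe, mem_fx] at h4 h5 ⊢
      rw [Wv h2, ← YX h2, ← YX h2, h5, h5] at h4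
      exact h4
    · rintro ⟨⟨h3, h4⟩, h5⟩
      refine ⟨⟨h3, ?_⟩, h4⟩
      rw [SetLike.mem_coe, mem_fx] at h4 h5 ⊢
      rw [Wv h2, h5, h4, h4]
  have i5' : W ⊓ fx ρ gZ ⊓ kr ρ gX = W ⊓ kr ρ gX ⊓ kr ρ gY ⊓ fx ρ gZ := by
    ext v
    constructor
    · rintro ⟨⟨h3, h4⟩, h5⟩
      exact ⟨⟨⟨h3, h5⟩, (mem_count h2 h5).1 h4⟩, h4⟩
    · rintro ⟨⟨⟨h3, h4⟩, h5⟩, h6⟩
      exact ⟨⟨h3, h6⟩, h4⟩
  have i6' : W ⊓ fx ρ gW ⊓ kr ρ gX = W ⊓ kr ρ gX ⊓ kr ρ gY ⊓ kr ρ gZ := by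
    ext v
    constructor
    · rintro ⟨⟨h3, h4⟩, h5⟩
      have h6 := (mem_count h2 h5).2.1 h4
      exact ⟨⟨⟨h3, h5⟩, h6.1⟩, h6.2⟩
    · rintro ⟨⟨⟨h3, h4⟩, h5⟩, h6⟩
      exact ⟨⟨h3, (mem_count h2 h4).2.2 h5 h6⟩, h4⟩
  rw [i4, i4'] at s4
  rw [i5, i5'] at s5
  rw [i6, i6'] at s6
  omega

/-- a conjugating element which preserves `W` -/
theorem fx_le {W : Submodule F V} {h g g' : Γ} (hr : h * g = g' * h) (hW : ∀ v ∈ W, ρ h v ∈ W) :
    finrank F (W ⊓ fx ρ g : Submodule F V) ≤ finrank F (W ⊓ fx ρ g' : Submodule F V) := by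
  apply le_of_inj (ρ h)
  · rintro v ⟨hv, hv'⟩
    refine ⟨hW v hv, ?_⟩
    rw [SetLike.mem_coe, mem_fx] at hv' ⊢
    rw [← req ρ hr, hv']
  · intro v _ h0
    exact rinj ρ h h0

/-- a subspace stable under `N` -/
structure StabN (ρ : Γ →* Module.End F V) (W : Submodule F V) : Prop where
  x : ∀ v ∈ W, ρ gX v ∈ W
  i : ∀ v ∈ W, ρ gi v ∈ W
  j : ∀ v ∈ W, ρ gj v ∈ W

namespace StabN

variable {W : Submodule F V} (hW : StabN ρ W)
include hW

theorem t (v : V) (hv : v ∈ W) : ρ gt v ∈ W := by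
  rw [← ii, rmul]
  exact hW.i _ (hW.i _ hv)

theorem i' (v : V) (hv : v ∈ W) : ρ gi⁻¹ v ∈ W := by
  have h1 : gi⁻¹ = gi * gt := by
    rw [inv_eq_iff_mul_eq_one, it, ← mul_assoc, ← ii]
    have := tt
    rw [← ii] at this
    simpa only [mul_assoc] using this
  rw [h1, rmul]
  exact hW.i _ (hW.t _ hv)

theorem j' (v : V) (hv : v ∈ W) : ρ gj⁻¹ v ∈ W := by
  have h1 : gj⁻¹ = gj * gt := by
    rw [inv_eq_iff_mul_eq_one, jt, ← mul_assoc, ← jj]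
    have := tt
    rw [← jj] at this
    simpa only [mul_assoc] using this
  rw [h1, rmul]
  exact hW.j _ (hW.t _ hv)

theorem y (v : V) (hv : v ∈ W) : ρ gY v ∈ W := by
  unfold gY
  rw [rmul, rmul]
  exact hW.i _ (hW.x _ (hW.i' _ hv))

theorem k (v : V) (hv : v ∈ W) : ρ gk v ∈ W := by
  unfold gk
  rw [rmul]
  exact hW.i _ (hW.j _ hv)

theorem k' (v : V) (hv : v ∈ W) : ρ gk⁻¹ v ∈ W := by
  unfold gk
  rw [mul_inv_rev, rmul]
  exact hW.j' _ (hW.i' _ hv)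

/-- **The count.** -/
theorem count (h2 : (2 : F) = 0) : finrank F W + 3 * finrank F (W ⊓ fx ρ gX ⊓ fx ρ gY : Submodule F V)
      = 4 * finrank F (W ⊓ fx ρ gX : Submodule F V) := by
  have h1 := Mt.count h2 W hW.x hW.y
  have e1 : finrank F (W ⊓ fx ρ gX : Submodule F V) = finrank F (W ⊓ fx ρ gY : Submodule F V) :=
    le_antisymm (fx_le iX hW.i) (fx_le (h := gi⁻¹) (by rw [inv_mul_eq_iff_eq_mul, ← mul_assoc, iX,
      mul_inv_cancel_right]) hW.i')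
  have e2 : finrank F (W ⊓ fx ρ gX : Submodule F V) = finrank F (W ⊓ fx ρ gZ : Submodule F V) :=
    le_antisymm (fx_le jX hW.j) (fx_le (h := gj⁻¹) (by
      rw [inv_mul_eq_iff_eq_mul, ← mul_assoc, jX, mul_inv_cancel_right]; rfl) hW.j')
  have e3 : finrank F (W ⊓ fx ρ gX : Submodule F V) = finrank F (W ⊓ fx ρ gW : Submodule F V) :=
    le_antisymm (fx_le kX hW.k) (fx_le (h := gk⁻¹) (by
      rw [inv_mul_eq_iff_eq_mul, ← mul_assoc, kX, mul_inv_cancel_right]; rfl) hW.k')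
  omega

/-- **Parity.** -/
theorem even_kr (h2 : (2 : F) = 0) : Even (finrank F (W ⊓ kr ρ gX : Submodule F V)) := by
  set U := W ⊓ kr ρ gX with hU
  have hTX : ∀ v, ρ gt (ρ gX v) = ρ gX (ρ gX (ρ gt v)) := fun v => by rw [req ρ tx, Odd12.Xinv]
  have hTT : ∀ v, ρ gt (ρ gt v) = v := fun v => by rw [← rmul, tt, rone]
  have hTU : ∀ v ∈ U, ρ gt v ∈ U := by
    rintro v ⟨hv, hv'⟩
    refine ⟨hW.t v hv, ?_⟩
    rw [SetLike.mem_coe, mem_kr] at hv' ⊢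
    have h3 := congrArg (ρ gt) hv'
    rw [map_add, map_add, map_zero, hTX, hTX, hTX, XX3 h2] at h3
    rw [← h3]
    abel
  have hXU : ∀ v ∈ U, ρ gX v ∈ U := by
    rintro v ⟨hv, hv'⟩
    refine ⟨hW.x v hv, ?_⟩
    rw [SetLike.mem_coe, mem_kr] at hv' ⊢
    rw [← map_add, ← map_add, hv', map_zero]
  let N : Module.End F V := 1 + ρ gt
  have hN : ∀ v, N v = v + ρ gt v := fun v => rfl
  let f : U →ₗ[F] U := N.restrict (fun v hv => U.add_mem hv (hTU v hv))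
  have hf : ∀ u : U, (f u : V) = (u : V) + ρ gt u := fun u => rfl
  have h3 := LinearMap.finrank_range_add_finrank_ker f
  have h4 : LinearMap.range f = LinearMap.ker f := by
    apply le_antisymm
    · rintro _ ⟨u, rfl⟩
      rw [LinearMap.mem_ker]
      apply Subtype.ext
      rw [hf, hf, map_add, hTT]
      change (u : V) + ρ gt u + (ρ gt u + u) = 0
      have : (u : V) + ρ gt u + (ρ gt u + u) = ((u : V) + u) + (ρ gt u + ρ gt u) := by abel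
      rw [this, add_self_two h2, add_self_two h2, add_zero]
    · intro u hu
      rw [LinearMap.mem_ker] at hu
      have h5 : (u : V) + ρ gt u = 0 := congrArg Subtype.val hu
      have h6 : ρ gt (u : V) = u := by
        rw [← neg_eq_iff_add_eq_zero, neg_eq_two h2] at h5
        exact h5.symm
      refine ⟨⟨ρ gX u, hXU u u.2⟩, ?_⟩
      apply Subtype.ext
      rw [hf]
      change ρ gX (u : V) + ρ gt (ρ gX u) = u
      rw [hTX, h6]
      have h7 : (u : V) + ρ gX u + ρ gX (ρ gX u) = 0 := mem_kr.1 u.2.2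
      rw [add_assoc, ← neg_eq_iff_add_eq_zero, neg_eq_two h2] at h7
      exact h7.symm
  rw [h4] at h3
  exact ⟨_, h3.symm⟩

end StabN

end Cfsg.Agent.H932.Mt
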