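import Cfsg.Agent.H933.O10.Asm
import Cfsg.Agent.H911.AdForm
import Cfsg.Agent.H911.AdAltIrr
import Cfsg.Agent.H911.UF.All
import Cfsg.Agent.H887.DS.SixTen
import Cfsg.Agent.H887.DS.SixFive
import Cfsg.Agent.H887.DS.Low
import Cfsg.Agent.H905.Sp4Adj
import Cfsg.Agent.H924.D5L
import Cfsg.Agent.H925.NatMain
import Cfsg.Agent.H929.UThreeModel
import Cfsg.Agent.H861.SzN.Main
import Cfsg.Agent.H708.ReeTw
import Cfsg.Agent.H927.G2Main
import Cfsg.Agent.H927.LDTwF4
import Cfsg.Agent.H392.TD.Main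

/-!
# S5848 and S5851: the own characteristic half (helper932)

* `own_ten` : `H` maximal in `omegaGL Q`, `dim = 10`, with core `P` of Lie type in the characteristic of `F` : the
  conclusion of the two statements (`PSp_4(q)`).
-/

set_option autoImplicit false
set_option linter.unusedSectionVars false

namespace Cfsg.Agent.H932.O10

open Cfsg Cfsg.Geo Matrix Cfsg.Agent.H915.LD Cfsg.Agent.H933.O10
open Cfsg.Agent.H925.Nat

universe u

variable {F : Type u} [Field F] [Fintype F] {p : ℕ} {Q : (Fin 10 → F) → F} {H P : Subgroup (GL (Fin 10) F)}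

theorem two_ne_of_odd {K : Type} [Field K] [Fintype K] (hodd : Odd (Fintype.card K)) : (2 : K) ≠ 0 := by
  intro h0
  haveI : CharP K 2 := CharTwo.of_one_ne_zero_of_two_eq_zero one_ne_zero h0
  have h4 := FiniteField.cast_card_eq_zero K
  have h5 := (CharP.cast_eq_zero_iff K 2 _).1 h4
  exact (Nat.not_even_iff_odd.2 hodd) (even_iff_two_dvd.2 h5)

/-- `PSL(m, K)` -/
theorem row_psl (h : Cx p Q H P) (K : Type) [Field K] [Fintype K] [CharP K p] (m : ℕ) (hm : 3 ≤ m)
    (he : Nonempty (Soc P ≃* ProjectiveSpecialLinearGroup (Fin m) K)) : False := by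
  have hpf := Fact.mk h.prime
  have hch := h.char
  have hC := h.core
  obtain ⟨e⟩ := he
  obtain ⟨l, rfl⟩ : ∃ l, m = l + 1 := ⟨m - 1, by omega⟩
  have h4 : l = 1 → 4 ≤ Nat.card K := fun h => by omega
  have hr := H905.Md.psl_rank p hC.absIrred hC.perfect (by omega) h4 e
  rw [Fintype.card_fin] at hr
  rcases (show l + 1 = 10 ∨ l + 1 < 10 by omega) with h10 | h10
  · have h1 := (H905.Md.psl_eq p hC.absIrred hC.perfect (by omega) h4 e hC.no_subfield h10.symm).2
    have h2 : omegaGL Q ≤ H := (H922.omegaGL_le_specialLinear Q).trans (h1 ▸ h.hc.le)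
    exact absurd h.hH.1 (not_lt_of_ge h2)
  · have h7 := H887.DS.dim_cases p hC (m := l + 1) (by omega) (by rw [Fintype.card_fin]; exact h10)
      (by rw [Fintype.card_fin]; norm_num) e
    rw [Fintype.card_fin] at h7
    rcases (show l = 2 ∨ l = 3 ∨ l = 4 by omega) with rfl | rfl | rfl
    · have h3 := (H911.Ad.sd_psl3 p hC h.sd e (by rw [Fintype.card_fin]; norm_num)).2.2.1
      rw [Fintype.card_fin] at h3
      omega
    · have h3 := (H911.Ad.sd_psl4 p hC h.sd e (by rw [Fintype.card_fin]; norm_num)).2.1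
      rw [Fintype.card_fin] at h3
      omega
    · have h3 := (H887.DS.ten5 p hC e (Fintype.card_fin 10)).2 0
      apply h3
      intro g hg
      rw [pow_zero, pow_one]
      exact (h.sd g hg).symm

/-- `PSp_4(K)` -/
theorem row_psp4 (h : Cx p Q H P) (K : Type) [Field K] [Fintype K] [CharP K p] (h3 : 3 ≤ Fintype.card K)
    (he : Nonempty (Soc P ≃* PSp 2 K)) :
    Nonempty (Soc P ≃* PSp 2 F) ∧ (IsPlusTypeOn Q ⊤ → Fintype.card F % 4 = 1) ∧
        (¬ IsPlusTypeOn Q ⊤ → Fintype.card F % 4 = 3) := by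
  have hpf := Fact.mk h.prime
  have hch := h.char
  obtain ⟨e⟩ := he
  obtain ⟨h1, -, -, h2⟩ := H905.Sp4.core_psp4_ten p h.core (by rw [Nat.card_eq_fintype_card]; exact h3) e
    (Fintype.card_fin 10) h.hQ h.fixes
  refine ⟨h1, fun h4 => ?_, fun h4 => ?_⟩
  · rcases h2 with h2 | h2
    · exact h2.2
    · exact absurd h4 h2.1
  · rcases h2 with h2 | h2
    · exact absurd h2.1 h4
    · exact h2.2

/-- `PSp_{2m}(K)`, `m ≥ 3` -/
theorem row_psp (h : Cx p Q H P) (K : Type) [Field K] [Fintype K] [CharP K p] (m : ℕ) (hm : 3 ≤ m) (hm' : m ≤ 5)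
    (he : Nonempty (Soc P ≃* PSp m K)) : False := by
  have hpf := Fact.mk h.prime
  have hch := h.char
  have hC := h.core
  obtain ⟨e⟩ := he
  rcases (show m = 3 ∨ 4 ≤ m by omega) with rfl | h4
  · exact H924.D5.psp6_big p hC (by rw [Fintype.card_fin]; norm_num) (by rw [Fintype.card_fin]; norm_num) e
  · obtain ⟨-, h1⟩ := psp (p := p) hC (by rw [Fintype.card_fin]; norm_num) h4 (by omega) e
    exact h1.sp_not_fixQ (by omega) h.fixQ

/-- `PSU_N(K)` -/
theorem row_psu (h : Cx p Q H P) (K : Type) [Field K] [Fintype K] [CharP K p] (N q : ℕ)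
    (hK : Fintype.card K = q ^ 2) (hN : 3 ≤ N) (h32 : ¬ (N = 3 ∧ q = 2)) (he : Nonempty (Soc P ≃* PSU N K q)) :
    False := by
  have hpf := Fact.mk h.prime
  have hch := h.char
  have hC := h.core
  obtain ⟨e⟩ := he
  rcases (show N = 3 ∨ 4 ≤ N by omega) with rfl | h4
  · have hq : 3 ≤ q := by
      have h1 : 1 < Fintype.card K := Fintype.one_lt_card
      rw [hK] at h1
      have h2 : q ≠ 0 := by rintro rfl; norm_num at h1
      have h3 : q ≠ 1 := by rintro rfl; norm_num at h1
      have h5 : q ≠ 2 := fun h => h32 ⟨rfl, h⟩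
      omega
    have h1 := H929.U3.core_psu3_sd p hC hq hK e (by rw [Fintype.card_fin]; norm_num) h.sd
    rw [Fintype.card_fin] at h1
    omega
  · have h1 := (H911.UF.sd_psu p K h4 (by rw [Fintype.card_fin]; norm_num) hK hC h.sd e).2.1
    rw [Fintype.card_fin] at h1
    omega

/-- Suzuki groups -/
theorem row_sz (h : Cx p Q H P) (h2 : p = 2) (he : Lie.IsoSuzuki (Soc P)) : False := by
  subst h2
  have hch := h.char
  obtain ⟨K, i1, i2, m, hm, hK, ⟨e⟩⟩ := he
  exact H861.SzN.sz_false h.core hm hK e (by rw [Fintype.card_fin]; norm_num) (by rw [Fintype.card_fin]; norm_num)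

/-- Ree groups -/
theorem row_ree (h : Cx p Q H P) (h3 : p = 3) (he : Lie.IsoRee (Soc P)) : False := by
  subst h3
  have hch := h.char
  obtain ⟨K, i1, i2, m, hm, hK, ⟨e⟩⟩ := he
  have h1 := H708.ReeSix.ree_eq_seven h.core hm hK e (by rw [Fintype.card_fin]; norm_num)
  rw [Fintype.card_fin] at h1
  omega

/-- orthogonal groups in odd dimension -/
theorem row_oo (h : Cx p Q H P) (K : Type) [Field K] [Fintype K] [CharP K p] (m : ℕ) (hm : 3 ≤ m) (hm' : m ≤ 5)
    (hodd : Odd (Fintype.card K)) (he : Nonempty (Soc P ≃* POmega K (quadFormOdd m K))) : False := by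
  have hpf := Fact.mk h.prime
  have hch := h.char
  have hC := h.core
  obtain ⟨e⟩ := he
  have h2 := two_ne_of_odd hodd
  rcases (show m = 3 ∨ 4 ≤ m by omega) with rfl | h4
  · exact H924.D5.po7_big p hC (by rw [Fintype.card_fin]; norm_num) (by rw [Fintype.card_fin]; norm_num) h2 e
  · obtain ⟨-, h1⟩ := po_odd (p := p) hC (by rw [Fintype.card_fin]; norm_num) h4 (by omega) h2 e
    have h5 := h1.card_eq
    rw [Fintype.card_sum, Fintype.card_sum, Fintype.card_fin, Fintype.card_fin, Fintype.card_unit] at h5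
    omega

/-- orthogonal groups of plus type -/
theorem row_op (h : Cx p Q H P) (K : Type) [Field K] [Fintype K] [CharP K p] (m : ℕ) (hm : 4 ≤ m) (hm' : m ≤ 5)
    (he : Nonempty (Soc P ≃* POmega K (quadFormPlus m K))) : False := by
  have hpf := Fact.mk h.prime
  have hch := h.char
  have hC := h.core
  obtain ⟨e⟩ := he
  rcases (show m = 4 ∨ 5 ≤ m by omega) with rfl | h4
  · have h5 := H924.D5.po8plus_card p hC (by rw [Fintype.card_fin]; norm_num) e
    rw [Fintype.card_fin] at h5
    omega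
  · obtain ⟨-, h1⟩ := po_plus (p := p) hC (by rw [Fintype.card_fin]; norm_num) h4 (by omega) e
    refine h1.not_maximal_omega h.hc ?_ h.hQ h.hH
    rw [← LieClassical.OrthForms.coe_plusForm]
    exact H925.isND_of_nondeg (LieClassical.OrthForms.nondeg_plusForm m F)

/-- orthogonal groups of minus type -/
theorem row_om (h : Cx p Q H P) (K : Type) [Field K] [Fintype K] [CharP K p] (m : ℕ) (a b : K) (hm : 3 ≤ m)
    (hm' : m ≤ 5) (hab : ∀ z₁ z₂ : K, z₁ ^ 2 + a * z₁ * z₂ + b * z₂ ^ 2 = 0 → z₁ = 0 ∧ z₂ = 0)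
    (he : Nonempty (Soc P ≃* POmega K (quadFormMinus m K a b))) : False := by
  have hpf := Fact.mk h.prime
  have hch := h.char
  have hC := h.core
  obtain ⟨e⟩ := he
  rcases (show m = 3 ∨ 4 ≤ m by omega) with rfl | h4
  · have h5 := H924.D5.po8minus_card p hC (by rw [Fintype.card_fin]; norm_num) hab e
    rw [Fintype.card_fin] at h5
    omega
  · obtain ⟨τ, h1⟩ := po_minus (p := p) hC (by rw [Fintype.card_fin]; norm_num) h4 (by omega) hab e
    refine h1.not_maximal_omega h.hc ?_ h.hQ h.hH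
    rw [← LieClassical.OrthForms.coe_minusForm]
    refine H925.isND_of_nondeg (LieClassical.OrthForms.nondeg_minusForm m F (τ a) (τ b) fun z₁ z₂ hz => ?_)
    have h6 := hab (τ.symm z₁) (τ.symm z₂) (τ.injective (by
      simp only [map_add, map_mul, map_pow, RingEquiv.apply_symm_apply, map_zero]
      exact hz))
    exact ⟨by simpa using congrArg τ h6.1, by simpa using congrArg τ h6.2⟩

/-- `G₂(K)` -/
theorem row_g2 (h : Cx p Q H P) (K : Type) [Field K] [Fintype K] [CharP K p] (h3 : 3 ≤ Fintype.card K)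
    (he : Nonempty (Soc P ≃* Lie.chevG2.group K)) : False := by
  have hpf := Fact.mk h.prime
  have hch := h.char
  obtain ⟨e⟩ := he
  have h1 := (H927.G2.core_g2 p h.core (by rw [Nat.card_eq_fintype_card]; exact h3) e
    (by rw [Fintype.card_fin]; norm_num)).2.2.2.2
  rw [Fintype.card_fin] at h1
  rcases h1 with h1 | h1
  · omega
  · omega

/-- `³D₄(q)` -/
theorem row_d4 (h : Cx p Q H P) (K : Type) [Field K] [Fintype K] [CharP K p] (q : ℕ) (hq : IsPrimePow q)
    (hK : Fintype.card K = q ^ 3) (he : Nonempty (Soc P ≃* Lie.twistedD4 K q)) : False := by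
  have hpf := Fact.mk h.prime
  have hch := h.char
  obtain ⟨e⟩ := he
  have h1 := (H392.TD.d4_small p h.core hq hK e (by rw [Fintype.card_fin]; norm_num)).1
  rw [Fintype.card_fin] at h1
  omega

/-- `²F₄(q)` -/
theorem row_f4 (h : Cx p Q H P) (h2 : p = 2) (he : Lie.Iso2F4 (Soc P)) : False := by
  have hch := h.char
  have h4 := H927.LDTwF4.card_le_iso h2 h.core.perfect he
  rw [Fintype.card_fin] at h4
  omega

/-- **The own characteristic half of S5848 and S5851.** -/
theorem own_ten (h : Cx p Q H P) (hL : IsLieTypeChar p (Soc P)) : Concl Q P :=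
  own h hL (row_psl h) (row_psp4 h) (row_psp h) (row_psu h) (row_sz h) (row_ree h) (row_oo h) (row_op h) (row_om h)
    (row_g2 h) (row_d4 h) (row_f4 h)

end Cfsg.Agent.H932.O10
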