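import Cfsg.Agent.H912.TensForm4

/-!
Linear maps of `F² ⊗ F²` preserving the determinant form up to a factor (H932).
-/

set_option autoImplicit false
set_option linter.unusedSectionVars false

namespace Cfsg.Agent.H932

open Cfsg Cfsg.Geo Module
open Cfsg.Agent.H912 (pt kronecker_mulVec_pt)
open scoped Matrix Kronecker MatrixGroups

variable {F : Type*} [Field F]

/-- the determinant form -/
def dq (z : Fin 2 × Fin 2 → F) : F := z (0, 0) * z (1, 1) - z (0, 1) * z (1, 0)

/-- its polar form -/
def dp (z z' : Fin 2 × Fin 2 → F) : F :=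
  z (0, 0) * z' (1, 1) + z (1, 1) * z' (0, 0) - z (0, 1) * z' (1, 0) - z (1, 0) * z' (0, 1)

theorem dq_add (z z' : Fin 2 × Fin 2 → F) : dq (z + z') = dq z + dq z' + dp z z' := by
  simp only [dq, dp, Pi.add_apply]; ring

/-- the alternating form on the plane -/
def om (v v' : Fin 2 → F) : F := v 0 * v' 1 - v 1 * v' 0

theorem dq_pt (v w : Fin 2 → F) : dq (pt v w) = 0 := by
  simp only [dq, pt]; ring

theorem dp_pt (v w v' w' : Fin 2 → F) : dp (pt v w) (pt v' w') = om v v' * om w w' := by
  simp only [dp, om, pt]; ring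

theorem exists_pure {z : Fin 2 × Fin 2 → F} (hz : dq z = 0) : ∃ v w : Fin 2 → F, z = pt v w := by
  have hz' : z (0, 0) * z (1, 1) = z (0, 1) * z (1, 0) := by
    unfold dq at hz
    linear_combination hz
  have key : ∀ i j k l : Fin 2, z (i, j) * z (k, l) = z (k, j) * z (i, l) := by
    intro i j k l
    fin_cases i <;> fin_cases j <;> fin_cases k <;> fin_cases l <;>
      simp only [Fin.zero_eta, Fin.mk_one] <;>
      first
        | ring1
        | linear_combination hz'
        | linear_combination -hz'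
  by_cases h0 : z = 0
  · exact ⟨0, 0, by rw [h0]; funext a; simp [pt]⟩
  · obtain ⟨⟨i, j⟩, hij⟩ : ∃ a, z a ≠ 0 := by
      by_contra hc
      push Not at hc
      exact h0 (funext hc)
    refine ⟨fun k => z (k, j), fun l => z (i, l) / z (i, j), ?_⟩
    funext ⟨k, l⟩
    change z (k, l) = z (k, j) * (z (i, l) / z (i, j))
    rw [← mul_div_assoc, ← key i j k l, mul_div_cancel_left₀ _ hij]

theorem eq_smul_of_om {v v' : Fin 2 → F} (hv : v ≠ 0) (h : om v v' = 0) : ∃ c : F, v' = c • v := by
  unfold om at h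
  by_cases h0 : v 0 = 0
  · have h1 : v 1 ≠ 0 := by
      intro h1
      apply hv
      funext i
      fin_cases i
      · exact h0
      · exact h1
    rw [h0, zero_mul, zero_sub, neg_eq_zero] at h
    have h2 : v' 0 = 0 := (mul_eq_zero.1 h).resolve_left h1
    refine ⟨v' 1 / v 1, ?_⟩
    funext i
    fin_cases i
    · change v' 0 = v' 1 / v 1 * v 0
      rw [h0, h2, mul_zero]
    · change v' 1 = v' 1 / v 1 * v 1
      rw [div_mul_cancel₀ _ h1]
  · refine ⟨v' 0 / v 0, ?_⟩
    funext i
    fin_cases i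
    · change v' 0 = v' 0 / v 0 * v 0
      rw [div_mul_cancel₀ _ h0]
    · change v' 1 = v' 0 / v 0 * v 1
      field_simp
      linear_combination h

theorem om_smul_right (c : F) (v w : Fin 2 → F) : om v (c • w) = c * om v w := by
  simp only [om, Pi.smul_apply, smul_eq_mul]; ring

theorem om_smul_left (c : F) (v w : Fin 2 → F) : om (c • v) w = c * om v w := by
  simp only [om, Pi.smul_apply, smul_eq_mul]; ring

theorem om_self (v : Fin 2 → F) : om v v = 0 := by simp only [om]; ring

theorem om_swap (v w : Fin 2 → F) : om v w = - om w v := by simp only [om]; ring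

theorem om_zero_left (v : Fin 2 → F) : om 0 v = 0 := by simp [om]

theorem om_zero_right (v : Fin 2 → F) : om v 0 = 0 := by simp [om]

/-- the matrix with the given columns -/
def colM (v w : Fin 2 → F) : Matrix (Fin 2) (Fin 2) F := Matrix.of fun i j => ![v i, w i] j

theorem colM_zero (v w : Fin 2 → F) : colM v w *ᵥ Pi.single 0 1 = v := by
  funext i
  simp [colM]

theorem colM_one (v w : Fin 2 → F) : colM v w *ᵥ Pi.single 1 1 = w := by
  funext i
  simp [colM]

theorem det_colM (v w : Fin 2 → F) : (colM v w).det = om v w := by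
  rw [Matrix.det_fin_two]
  simp only [colM, om, Matrix.of_apply, Matrix.cons_val_zero, Matrix.cons_val_one]
  ring

theorem pt_single (i j : Fin 2) : pt (Pi.single i (1 : F)) (Pi.single j (1 : F)) = Pi.single (i, j) 1 := by
  funext ⟨k, l⟩
  simp only [pt, Pi.single_apply, Prod.mk.injEq]
  split_ifs <;> simp_all

theorem mul_sw (B : Matrix (Fin 2 × Fin 2) (Fin 2 × Fin 2) F) (i j : Fin 2) :
    (B.submatrix id (Equiv.prodComm (Fin 2) (Fin 2))) *ᵥ Pi.single (i, j) 1 = B *ᵥ Pi.single (j, i) 1 := by
  funext a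
  simp

/-- **Linear preservers of the determinant form.** -/
theorem preserver {B : Matrix (Fin 2 × Fin 2) (Fin 2 × Fin 2) F} {ν : F} (hν : ν ≠ 0)
    (hB : ∀ z, dq (B *ᵥ z) = ν * dq z) :
    ∃ x y : Matrix (Fin 2) (Fin 2) F, x.det ≠ 0 ∧ y.det ≠ 0 ∧ x.det * y.det = ν ∧
      (B = x ⊗ₖ y ∨ B.submatrix id (Equiv.prodComm (Fin 2) (Fin 2)) = x ⊗ₖ y) := by
  have hp : ∀ z z', dp (B *ᵥ z) (B *ᵥ z') = ν * dp z z' := by
    intro z z'
    have h1 := dq_add (B *ᵥ z) (B *ᵥ z')
    rw [← Matrix.mulVec_add, hB, hB, hB, dq_add] at h1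
    linear_combination -h1
  have hs : ∀ i j : Fin 2, dq (B *ᵥ Pi.single (i, j) 1) = 0 := by
    intro i j
    rw [hB, ← pt_single, dq_pt, mul_zero]
  obtain ⟨v, w, h00⟩ := exists_pure (hs 0 0)
  obtain ⟨v', w', h11⟩ := exists_pure (hs 1 1)
  obtain ⟨s, t, h01⟩ := exists_pure (hs 0 1)
  obtain ⟨s', t', h10⟩ := exists_pure (hs 1 0)
  have e1 : om v v' * om w w' = ν := by
    rw [← dp_pt, ← h00, ← h11, hp, ← pt_single, ← pt_single, dp_pt]
    simp [om]
  have hvv : om v v' ≠ 0 := by
    intro h; rw [h, zero_mul] at e1; exact hν e1.symm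
  have hww : om w w' ≠ 0 := by
    intro h; rw [h, mul_zero] at e1; exact hν e1.symm
  have hv0 : v ≠ 0 := by rintro rfl; exact hvv (om_zero_left _)
  have hv'0 : v' ≠ 0 := by rintro rfl; exact hvv (om_zero_right _)
  have hw0 : w ≠ 0 := by rintro rfl; exact hww (om_zero_left _)
  have hw'0 : w' ≠ 0 := by rintro rfl; exact hww (om_zero_right _)
  have e2 : om v s * om w t = 0 := by
    rw [← dp_pt, ← h00, ← h01, hp, ← pt_single, ← pt_single, dp_pt]
    simp [om]
  have e3 : om v' s * om w' t = 0 := by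
    rw [← dp_pt, ← h11, ← h01, hp, ← pt_single, ← pt_single, dp_pt]
    simp [om]
  have e4 : om v s' * om w t' = 0 := by
    rw [← dp_pt, ← h00, ← h10, hp, ← pt_single, ← pt_single, dp_pt]
    simp [om]
  have e5 : om v' s' * om w' t' = 0 := by
    rw [← dp_pt, ← h11, ← h10, hp, ← pt_single, ← pt_single, dp_pt]
    simp [om]
  have e6 : om s s' * om t t' = - ν := by
    rw [← dp_pt, ← h01, ← h10, hp, ← pt_single, ← pt_single, dp_pt]
    simp [om]
  -- a pure tensor orthogonal to `v ⊗ w` and `v' ⊗ w'`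
  have horth : ∀ s t : Fin 2 → F, om v s * om w t = 0 → om v' s * om w' t = 0 →
      (∃ α : F, pt s t = pt v (α • w')) ∨ ∃ α : F, pt s t = pt (α • v') w := by
    intro s t h1 h2
    rcases mul_eq_zero.1 h1 with h | h
    · obtain ⟨c, rfl⟩ := eq_smul_of_om hv0 h
      rcases mul_eq_zero.1 h2 with h' | h'
      · rw [om_smul_right] at h'
        rcases mul_eq_zero.1 h' with h'' | h''
        · left
          refine ⟨0, ?_⟩
          rw [h'']
          funext a; simp [pt]
        · exact absurd (by rw [om_swap, h'', neg_zero]) hvv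
      · obtain ⟨d, rfl⟩ := eq_smul_of_om hw'0 h'
        left
        refine ⟨c * d, ?_⟩
        funext a; simp only [pt, Pi.smul_apply, smul_eq_mul]; ring
    · obtain ⟨c, rfl⟩ := eq_smul_of_om hw0 h
      rcases mul_eq_zero.1 h2 with h' | h'
      · obtain ⟨d, rfl⟩ := eq_smul_of_om hv'0 h'
        right
        refine ⟨c * d, ?_⟩
        funext a; simp only [pt, Pi.smul_apply, smul_eq_mul]; ring
      · rw [om_smul_right] at h'
        rcases mul_eq_zero.1 h' with h'' | h''
        · left
          refine ⟨0, ?_⟩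
          rw [h'']
          funext a; simp [pt]
        · exact absurd (by rw [om_swap, h'', neg_zero]) hww
  have e6' : dp (pt s t) (pt s' t') = -ν := by rw [dp_pt, e6]
  rcases horth s t e2 e3 with ⟨α, hα⟩ | ⟨α, hα⟩ <;> rcases horth s' t' e4 e5 with ⟨β, hβ⟩ | ⟨β, hβ⟩
  · exfalso
    rw [hα, hβ, dp_pt, om_self, zero_mul] at e6'
    exact hν (by linear_combination e6')
  · -- the first case
    rw [hα, hβ, dp_pt, om_smul_right, om_smul_left, om_swap w' w] at e6'
    have hαβ : α * β = 1 := by
      have h1 : ν * (α * β - 1) = 0 := by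
        linear_combination -e6' - (α * β) * e1
      rcases mul_eq_zero.1 h1 with h | h
      · exact absurd h hν
      · linear_combination h
    refine ⟨colM v (β • v'), colM w (α • w'), ?_, ?_, ?_, Or.inl ?_⟩
    · rw [det_colM, om_smul_right]
      exact mul_ne_zero (right_ne_zero_of_mul_eq_one hαβ) hvv
    · rw [det_colM, om_smul_right]
      exact mul_ne_zero (left_ne_zero_of_mul_eq_one hαβ) hww
    · rw [det_colM, det_colM, om_smul_right, om_smul_right]
      linear_combination (om v v' * om w w') * hαβ + e1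
    · apply Matrix.ext_of_mulVec_single
      rintro ⟨i, j⟩
      rw [← pt_single, kronecker_mulVec_pt, pt_single]
      fin_cases i <;> fin_cases j
      · change B *ᵥ Pi.single (0, 0) 1 = pt (colM v (β • v') *ᵥ Pi.single 0 1) (colM w (α • w') *ᵥ Pi.single 0 1)
        rw [colM_zero, colM_zero]; exact h00
      · change B *ᵥ Pi.single (0, 1) 1 = pt (colM v (β • v') *ᵥ Pi.single 0 1) (colM w (α • w') *ᵥ Pi.single 1 1)
        rw [colM_zero, colM_one, ← hα]; exact h01
      · change B *ᵥ Pi.single (1, 0) 1 = pt (colM v (β • v') *ᵥ Pi.single 1 1) (colM w (α • w') *ᵥ Pi.single 0 1)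
        rw [colM_one, colM_zero, ← hβ]; exact h10
      · change B *ᵥ Pi.single (1, 1) 1 = pt (colM v (β • v') *ᵥ Pi.single 1 1) (colM w (α • w') *ᵥ Pi.single 1 1)
        rw [colM_one, colM_one, h11]
        funext a
        simp only [pt, Pi.smul_apply, smul_eq_mul]
        linear_combination -(v' a.1 * w' a.2) * hαβ
  · -- the second case
    rw [hα, hβ, dp_pt, om_smul_right, om_smul_left, om_swap v' v] at e6'
    have hαβ : α * β = 1 := by
      have h1 : ν * (α * β - 1) = 0 := by
        linear_combination -e6' - (α * β) * e1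
      rcases mul_eq_zero.1 h1 with h | h
      · exact absurd h hν
      · linear_combination h
    refine ⟨colM v (α • v'), colM w (β • w'), ?_, ?_, ?_, Or.inr ?_⟩
    · rw [det_colM, om_smul_right]
      exact mul_ne_zero (left_ne_zero_of_mul_eq_one hαβ) hvv
    · rw [det_colM, om_smul_right]
      exact mul_ne_zero (right_ne_zero_of_mul_eq_one hαβ) hww
    · rw [det_colM, det_colM, om_smul_right, om_smul_right]
      linear_combination (om v v' * om w w') * hαβ + e1
    · apply Matrix.ext_of_mulVec_single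
      rintro ⟨i, j⟩
      rw [mul_sw, ← pt_single i j, kronecker_mulVec_pt]
      fin_cases i <;> fin_cases j
      · change B *ᵥ Pi.single (0, 0) 1 = pt (colM v (α • v') *ᵥ Pi.single 0 1) (colM w (β • w') *ᵥ Pi.single 0 1)
        rw [colM_zero, colM_zero]; exact h00
      · change B *ᵥ Pi.single (1, 0) 1 = pt (colM v (α • v') *ᵥ Pi.single 0 1) (colM w (β • w') *ᵥ Pi.single 1 1)
        rw [colM_zero, colM_one, ← hβ]; exact h10
      · change B *ᵥ Pi.single (0, 1) 1 = pt (colM v (α • v') *ᵥ Pi.single 1 1) (colM w (β • w') *ᵥ Pi.single 0 1)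
        rw [colM_one, colM_zero, ← hα]; exact h01
      · change B *ᵥ Pi.single (1, 1) 1 = pt (colM v (α • v') *ᵥ Pi.single 1 1) (colM w (β • w') *ᵥ Pi.single 1 1)
        rw [colM_one, colM_one, h11]
        funext a
        simp only [pt, Pi.smul_apply, smul_eq_mul]
        linear_combination -(v' a.1 * w' a.2) * hαβ
  · exfalso
    rw [hα, hβ, dp_pt, om_self, mul_zero] at e6'
    exact hν (by linear_combination e6')

/-- A preserver of determinant `ν²` is a Kronecker product (odd characteristic). -/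
theorem preserver_of_det {B : Matrix (Fin 2 × Fin 2) (Fin 2 × Fin 2) F} {ν : F} (hν : ν ≠ 0)
    (hB : ∀ z, dq (B *ᵥ z) = ν * dq z) (hdet : B.det ≠ - ν ^ 2) :
    ∃ x y : Matrix (Fin 2) (Fin 2) F, x.det ≠ 0 ∧ y.det ≠ 0 ∧ B = x ⊗ₖ y := by
  obtain ⟨x, y, hx, hy, hxy, h | h⟩ := preserver hν hB
  · exact ⟨x, y, hx, hy, h⟩
  · exfalso
    apply hdet
    have h1 := congrArg Matrix.det h
    rw [Matrix.det_kronecker, Fintype.card_fin] at h1
    have h3 : (B.submatrix id (Equiv.prodComm (Fin 2) (Fin 2))).det = - B.det := by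
      rw [Matrix.det_permute']
      have : Equiv.Perm.sign (Equiv.prodComm (Fin 2) (Fin 2)) = -1 := by decide
      rw [this]
      simp
    rw [h3] at h1
    rw [← hxy]
    linear_combination -h1

theorem det_of_preserver {B : Matrix (Fin 2 × Fin 2) (Fin 2 × Fin 2) F} {ν : F} (hν : ν ≠ 0)
    (hB : ∀ z, dq (B *ᵥ z) = ν * dq z) : B.det = ν ^ 2 ∨ B.det = - ν ^ 2 := by
  obtain ⟨x, y, hx, hy, hxy, h | h⟩ := preserver hν hB
  · left
    rw [h, Matrix.det_kronecker, Fintype.card_fin, ← hxy]; ring
  · right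
    have h1 := congrArg Matrix.det h
    rw [Matrix.det_kronecker, Fintype.card_fin] at h1
    have h3 : (B.submatrix id (Equiv.prodComm (Fin 2) (Fin 2))).det = - B.det := by
      rw [Matrix.det_permute']
      have : Equiv.Perm.sign (Equiv.prodComm (Fin 2) (Fin 2)) = -1 := by decide
      rw [this]
      simp
    rw [h3] at h1
    rw [← hxy]
    linear_combination -h1

end Cfsg.Agent.H932
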