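import Cfsg.Agent.H932.TypeSub
import Cfsg.Agent.H920.PlusA
import Cfsg.Agent.H922.OddThree
import Cfsg.Agent.H925.OrthPlane4

/-!
Orthogonal decompositions of quadratic spaces (H932).

* `isNondegenerateMDecomposition_of_orth`: pairwise orthogonal nondegenerate `m`-spaces filling the dimension;
* `plus_part_of_plus`: `V` of plus type, `t` odd, `m` even: the members are of plus type;
* `plus_of_plus_part`: members of plus type: `V` of plus type;
* `plus_fours_two`: `q = 2`, members of dimension four and plus type: refine to planes of minus type.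
-/

set_option autoImplicit false
set_option linter.unusedSectionVars false

namespace Cfsg.Agent.H932

open Cfsg Cfsg.Geo Module
open QuadraticMap hiding proj
open Cfsg.Agent.LieClassical.OrthCore Cfsg.Agent.LieClassical.OrthTrans Cfsg.Agent.LieClassical.OrthFinite
open Cfsg.Agent.H925 Cfsg.Agent.H922
open scoped Matrix

variable {ι : Type} [Fintype ι] [DecidableEq ι] {F : Type*} [Field F] {Q : (ι → F) → F}

theorem isNondegenerateMDecomposition_of_orth (hQ : IsNondegenerateQuadraticForm Q) {s m : ℕ} (hs : 2 ≤ s)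
    (hm : 0 < m) (hcard : s * m = Fintype.card ι) {D : Fin s → Submodule F (ι → F)}
    (hfr : ∀ i, finrank F (D i) = m) (hnd : ∀ i, IsNondegenerateOn (polar Q) (D i))
    (horth : ∀ i j, i ≠ j → AreOrthogonalFor (polar Q) (D i) (D j)) :
    IsNondegenerateMDecomposition (polar Q) m D := by
  classical
  have hf := H925.hermForm_polar hQ
  let L : (∀ i, D i) →ₗ[F] (ι → F) := ∑ i, (D i).subtype ∘ₗ LinearMap.proj i
  have hL : ∀ x, L x = ∑ i, (x i : ι → F) := by
    intro x
    simp only [L, LinearMap.sum_apply]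
    rfl
  have hinj : Function.Injective L := by
    rw [← LinearMap.ker_eq_bot, eq_bot_iff]
    intro x hx
    rw [LinearMap.mem_ker, hL] at hx
    rw [Submodule.mem_bot]
    funext i
    by_contra h0
    have h0' : (x i : ι → F) ≠ 0 := fun h => h0 (Subtype.ext h)
    obtain ⟨-, y, hy, hxy⟩ := hnd i _ (x i).2 h0'
    apply hxy
    have h1 : polar Q (∑ j, (x j : ι → F)) y = 0 := by
      rw [hx]
      exact hf.zero_left y
    rw [hf.sum_left, Finset.sum_eq_single i] at h1
    · exact h1
    · intro j _ hj
      exact horth j i hj _ (x j).2 _ hy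
    · intro h; exact absurd (Finset.mem_univ i) h
  refine ⟨⟨hs, hm, hfr, ?_, ?_⟩, hnd, horth⟩
  · rw [iSupIndep_def]
    intro i
    rw [disjoint_iff, eq_bot_iff, ← inf_perp hQ (hnd i)]
    apply inf_le_inf le_rfl
    apply iSup₂_le
    intro j hj x hx y hy
    exact horth i j (Ne.symm hj) y hy x hx
  · have h1 : finrank F (LinearMap.range L) = Fintype.card ι := by
      rw [LinearMap.finrank_range_of_inj hinj, Module.finrank_pi_fintype]
      simp only [hfr, Finset.sum_const, Finset.card_univ, Fintype.card_fin, smul_eq_mul]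
      exact hcard
    have h2 : LinearMap.range L = ⊤ := by
      apply Submodule.eq_top_of_finrank_eq
      rw [h1, Module.finrank_fintype_fun_eq_card]
    rw [eq_top_iff, ← h2]
    rintro _ ⟨x, rfl⟩
    rw [hL]
    exact Submodule.sum_mem _ fun i _ => (le_iSup D i) (x i).2

/-- **`V` of plus type, an odd number of isometric members of even dimension: the members are of plus type.** -/
theorem plus_part_of_plus [Fintype F] (hQ : IsNondegenerateQuadraticForm Q) (hplus : IsPlusTypeOn Q ⊤) {t m : ℕ}
    (ht : Odd t) (hm : Even m) {D : Fin t → Submodule F (ι → F)} (hD : IsOrthogonalMDecomposition Q m D)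
    (i₀ : Fin t) : IsPlusTypeOn Q (D i₀) := by
  obtain ⟨s, hs⟩ := ht
  have htm : t * m = Fintype.card ι := H922.mul_eq_card hD.decomp.decomp
  let z : Fin t := ⟨2 * s, by omega⟩
  apply isPlusTypeOn_of_isometric (hD.isometric z i₀)
  choose e he using hD.isometric z
  let q : QuadraticForm F (D z) := (H925.qf hQ).comp (D z).subtype
  have hnd := nondeg_sub hQ (hD.decomp.nondegenerate z)
  have hfr : Module.finrank F (D z) = m := hD.decomp.decomp.finrank_eq z
  set W' := perp hQ.polar_bilinear (D z) with hW'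
  let q' : QuadraticForm F W' := (H925.qf hQ).comp W'.subtype
  have hle : ∀ p : Fin s × Fin 2, (finProdFinEquiv p).val < 2 * s := by
    intro p
    have := (finProdFinEquiv p).isLt
    omega
  let idx : Fin s × Fin 2 → Fin t := fun p => ⟨(finProdFinEquiv p).val, by have := hle p; omega⟩
  have hidx : ∀ p, idx p ≠ z := by
    intro p h
    have h1 : (finProdFinEquiv p).val = 2 * s := congrArg Fin.val h
    have := hle p
    omega
  have hinj : Function.Injective idx := by
    intro p p' h
    have h1 : (idx p).val = (idx p').val := by rw [h]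
    exact finProdFinEquiv.injective (Fin.ext h1)
  let E : Fin s × Fin 2 → (D z →ₗ[F] W') := fun p =>
    LinearMap.codRestrict W' ((D (idx p)).subtype.comp (e (idx p) : D z →ₗ[F] D (idx p))) (by
      intro w x hx
      exact hD.decomp.orthogonal z (idx p) (Ne.symm (hidx p)) x hx _ (e (idx p) w).2)
  obtain ⟨U, hU, hU'⟩ := H920.ts_two_mul q' q hnd (H920.exists_anti_even q hnd (hfr ▸ hm)) E
    (fun p w => he _ w)
    (fun i j hij x y => hD.decomp.orthogonal _ _ (fun h => hij (hinj h)) _ (e (idx i) x).2 _ (e (idx j) y).2)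
  have hfr' := finrank_perp hQ.polar_bilinear hQ.nondegenerate (D z)
  have hW'p : IsPlusTypeOn Q W' := by
    rw [← pl_sub_iff hQ]
    refine ⟨U, hU, ?_⟩
    rw [hU', hfr]
    have h1 : finrank F W' = Fintype.card ι - m := by rw [hW']; omega
    rw [h1, ← htm, hs]
    have : (2 * s + 1) * m = 2 * (s * m) + m := by ring
    omega
  have h := plus_perp hQ hplus (perp_nondegenerate hQ (hD.decomp.nondegenerate z)) hW'p
  rwa [perp_perp hQ.polar_bilinear (fun u v => polar_comm Q u v) hQ.nondegenerate] at h

/-- **Members of plus type: the space is of plus type.** -/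
theorem plus_of_plus_part (hQ : IsNondegenerateQuadraticForm Q) {t m : ℕ}
    {D : Fin t → Submodule F (ι → F)} (hD : IsOrthogonalMDecomposition Q m D)
    (i₀ : Fin t) (hp : IsPlusTypeOn Q (D i₀)) : IsPlusTypeOn Q ⊤ := by
  have htm : t * m = Fintype.card ι := H922.mul_eq_card hD.decomp.decomp
  obtain ⟨Φ, hΦ, -⟩ := exists_power_iso hQ hD i₀
  obtain ⟨U, hUD, hU, hd⟩ := hp
  let U₁ : Submodule F (D i₀) := U.comap (D i₀).subtype
  have e1 : finrank F U₁ = finrank F U := by
    rw [← finrank_map_subtype, Submodule.map_comap_subtype, inf_eq_right.2 hUD]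
  let X : (Fin t → U₁) →ₗ[F] (ι → F) :=
    Φ.toLinearMap ∘ₗ LinearMap.pi (fun i => U₁.subtype ∘ₗ LinearMap.proj i)
  have hX : ∀ x, X x = Φ (fun i => (x i : D i₀)) := fun x => rfl
  have hinj : Function.Injective X := by
    intro x y h
    rw [hX, hX] at h
    funext i
    exact Subtype.ext (congrFun (Φ.injective h) i)
  refine ⟨LinearMap.range X, le_top, ?_, ?_⟩
  · rintro _ ⟨x, rfl⟩
    rw [hX, hΦ]
    exact Finset.sum_eq_zero fun i _ => hU _ (x i).2
  · have hfree : Module.Free F U₁ := Module.Free.of_divisionRing F U₁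
    rw [LinearMap.finrank_range_of_inj hinj, Module.finrank_pi_fintype, finrank_top,
      Module.finrank_fintype_fun_eq_card]
    simp only [Finset.sum_const, Finset.card_univ, Fintype.card_fin, smul_eq_mul]
    rw [e1, ← htm, ← hD.decomp.decomp.finrank_eq i₀, ← hd]
    ring

/-! ### Four-dimensional members over the field with two elements -/

/-- the form `x² + x y + y²` -/
def nB (F : Type*) [Field F] : LinearMap.BilinForm F (F × F) :=
  LinearMap.mk₂ F (fun p q => p.1 * q.1 + p.1 * q.2 + p.2 * q.2)
    (fun p p' q => by simp; ring) (fun c p q => by simp; ring) (fun p q q' => by simp; ring)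
    (fun c p q => by simp; ring)

def nQ (F : Type*) [Field F] : QuadraticForm F (F × F) := (nB F).toQuadraticMap

theorem nQ_apply (p : F × F) : nQ F p = p.1 * p.1 + p.1 * p.2 + p.2 * p.2 := rfl

theorem polar_nQ (p q : F × F) : polar (nQ F) p q = 2 * (p.1 * q.1) + (p.1 * q.2 + p.2 * q.1) + 2 * (p.2 * q.2) := by
  simp only [polar, nQ_apply, Prod.fst_add, Prod.snd_add]
  ring

theorem nQ_eq_one [Fintype F] (hF : Fintype.card F = 2) {p : F × F} (hp : p ≠ 0) : nQ F p = 1 := by
  have h2 : (2 : F) = 0 := by
    have := FiniteField.cast_card_eq_zero F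
    rw [hF] at this
    exact_mod_cast this
  have h01 : ∀ x : F, x = 0 ∨ x = 1 := by
    intro x
    by_cases hx : x = 0
    · exact Or.inl hx
    · right
      have := FiniteField.pow_card_sub_one_eq_one x hx
      rwa [hF, pow_one] at this
  obtain ⟨a, b⟩ := p
  rw [nQ_apply]
  rcases h01 a with rfl | rfl <;> rcases h01 b with rfl | rfl
  · exact absurd rfl hp
  · ring
  · ring
  · linear_combination h2

/-- **q = 2**: the stabiliser of an orthogonal decomposition into four-dimensional members of plus type stabilises an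
orthogonal decomposition into planes of minus type. -/
theorem plus_fours_two [Fintype F] (hF : Fintype.card F = 2) (hQ : IsNondegenerateQuadraticForm Q) {t : ℕ}
    {D : Fin t → Submodule F (ι → F)} (hD : IsOrthogonalMDecomposition Q 4 D) (hp : ∀ i, IsPlusTypeOn Q (D i)) :
    ∃ D' : Fin (t * 2) → Submodule F (ι → F), IsOrthogonalMDecomposition Q 2 D' ∧
      (∀ i, ¬ IsPlusTypeOn Q (D' i)) ∧
      decompositionStabilizer D ⊓ isometryGroup F Q ≤ decompositionStabilizer D' := by
  classical
  have h2 : (2 : F) = 0 := by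
    have := FiniteField.cast_card_eq_zero F
    rw [hF] at this
    exact_mod_cast this
  have hcard : t * 4 = Fintype.card ι := H922.mul_eq_card hD.decomp.decomp
  have hn0 : ∀ p : F × F, nQ F p = 0 → p = 0 := by
    intro p h
    by_contra h0
    rw [nQ_eq_one hF h0] at h
    exact one_ne_zero h
  -- the model
  have hnd : Nondeg ((nQ F).prod (nQ F)) := by
    rintro ⟨⟨a, b⟩, ⟨c, d⟩⟩ h
    have e1 := h (((0 : F), (1 : F)), ((0 : F), (0 : F)))
    have e2 := h (((1 : F), (0 : F)), ((0 : F), (0 : F)))
    have e3 := h (((0 : F), (0 : F)), ((0 : F), (1 : F)))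
    have e4 := h (((0 : F), (0 : F)), ((1 : F), (0 : F)))
    simp only [polar, QuadraticMap.prod_apply, nQ_apply, Prod.fst_add, Prod.snd_add] at e1 e2 e3 e4
    have f1 : a = 0 := by linear_combination e1 - b * h2
    have f2 : b = 0 := by linear_combination e2 - a * h2
    have f3 : c = 0 := by linear_combination e3 - d * h2
    have f4 : d = 0 := by linear_combination e4 - c * h2
    rw [f1, f2, f3, f4]; rfl
  have hfr : finrank F ((F × F) × (F × F)) = 4 := by
    rw [finrank_prod, finrank_prod, finrank_self]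
  have hpl : Pl ((nQ F).prod (nQ F)) := by
    let φ : (F × F) →ₗ[F] ((F × F) × (F × F)) := LinearMap.prod LinearMap.id LinearMap.id
    have hφ : ∀ w, φ w = (w, w) := fun w => rfl
    have hinj : Function.Injective φ := by
      intro x y h
      exact congrArg Prod.fst h
    refine ⟨LinearMap.range φ, ?_, ?_⟩
    · rintro _ ⟨w, rfl⟩
      rw [hφ, QuadraticMap.prod_apply]
      change nQ F w + nQ F w = 0
      linear_combination (nQ F w) * h2
    · rw [LinearMap.finrank_range_of_inj hinj, hfr, finrank_prod, finrank_self]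
  choose e he using fun i => exists_isometry hnd (nondeg_sub hQ (hD.decomp.nondegenerate i)) (by rw [hfr]; decide)
    (by rw [hfr, hD.decomp.decomp.finrank_eq i])
    ⟨fun _ => (pl_sub_iff hQ (D i)).2 (hp i), fun _ => hpl⟩
  have he' : ∀ i x, Q (e i x : ι → F) = nQ F x.1 + nQ F x.2 := fun i x => he i x
  let j : Fin 2 → ((F × F) →ₗ[F] ((F × F) × (F × F))) := ![LinearMap.inl F (F × F) (F × F), LinearMap.inr F (F × F) (F × F)]
  have hj : ∀ k w, nQ F (j k w).1 + nQ F (j k w).2 = nQ F w := by
    intro k w
    fin_cases k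
    · change nQ F w + nQ F 0 = nQ F w
      rw [QuadraticMap.map_zero, add_zero]
    · change nQ F 0 + nQ F w = nQ F w
      rw [QuadraticMap.map_zero, zero_add]
  let φ : Fin t → Fin 2 → ((F × F) →ₗ[F] (ι → F)) := fun i k =>
    (D i).subtype ∘ₗ (e i : ((F × F) × (F × F)) →ₗ[F] D i) ∘ₗ j k
  have hφ : ∀ i k w, φ i k w = (e i (j k w) : ι → F) := fun i k w => rfl
  have hφD : ∀ i k w, φ i k w ∈ D i := fun i k w => (e i (j k w)).2
  have hφQ : ∀ i k w, Q (φ i k w) = nQ F w := by
    intro i k w
    rw [hφ, he', hj]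
  have hφinj : ∀ i k, Function.Injective (φ i k) := by
    intro i k x y h
    have h1 : φ i k (x - y) = 0 := by rw [map_sub, h, sub_self]
    have h3 : nQ F (x - y) = 0 := by rw [← hφQ i k, h1]; exact Q_zero hQ
    exact sub_eq_zero.1 (hn0 _ h3)
  have hφp : ∀ i k w w', polar Q (φ i k w) (φ i k w') = polar (nQ F) w w' := by
    intro i k w w'
    simp only [polar, ← map_add, hφQ]
  have hφo : ∀ i k l, k ≠ l → ∀ w w', polar Q (φ i k w) (φ i l w') = 0 := by
    intro i k l hkl w w'
    have h3 : Q (φ i k w + φ i l w') = nQ F w + nQ F w' := by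
      rw [hφ, hφ, ← Submodule.coe_add, ← map_add, he']
      fin_cases k <;> fin_cases l
      · exact absurd rfl hkl
      · change nQ F (w + 0) + nQ F (0 + w') = _
        rw [add_zero, zero_add]
      · change nQ F (0 + w') + nQ F (w + 0) = _
        rw [add_zero, zero_add, add_comm]
      · exact absurd rfl hkl
    rw [polar, h3, hφQ, hφQ]; ring
  let E : Fin (t * 2) ≃ Fin t × Fin 2 := finProdFinEquiv.symm
  let D' : Fin (t * 2) → Submodule F (ι → F) := fun a => LinearMap.range (φ (E a).1 (E a).2)
  have hDnd : IsNondegenerateMDecomposition (polar Q) 2 D' := by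
    have ht := hD.decomp.decomp.two_le
    apply isNondegenerateMDecomposition_of_orth hQ (by omega) two_pos (by omega)
    · intro a
      change finrank F (LinearMap.range _) = 2
      rw [LinearMap.finrank_range_of_inj (hφinj _ _), finrank_prod, finrank_self]
    · rintro a _ ⟨w, rfl⟩ hw
      have hw0 : w ≠ 0 := by
        rintro rfl
        exact hw (map_zero _)
      have key : ∃ w', polar (nQ F) w w' ≠ 0 := by
        obtain ⟨x, y⟩ := w
        by_contra hc
        push Not at hc
        have c1 := hc (0, 1)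
        have c2 := hc (1, 0)
        rw [polar_nQ] at c1 c2
        apply hw0
        have f1 : x = 0 := by linear_combination c1 - y * h2
        have f2 : y = 0 := by linear_combination c2 - x * h2
        rw [f1, f2]; rfl
      obtain ⟨w', hw'⟩ := key
      refine ⟨⟨_, ⟨w', rfl⟩, ?_⟩, ⟨_, ⟨w', rfl⟩, ?_⟩⟩
      · rw [hφp, polar_comm]; exact hw'
      · rw [hφp]; exact hw'
    · rintro a b hab _ ⟨w, rfl⟩ _ ⟨w', rfl⟩
      have hne : E a ≠ E b := fun h => hab (E.injective h)
      rcases h1 : E a with ⟨a1, a2⟩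
      rcases h2' : E b with ⟨b1, b2⟩
      rw [h1, h2'] at hne
      change polar Q (φ a1 a2 w) (φ b1 b2 w') = 0
      by_cases h3 : a1 = b1
      · subst h3
        exact hφo a1 a2 b2 (fun h => hne (by rw [h])) w w'
      · exact hD.decomp.orthogonal a1 b1 h3 _ (hφD _ _ _) _ (hφD _ _ _)
  refine ⟨D', ⟨hDnd, ?_⟩, ?_, ?_⟩
  · intro a b
    refine ⟨(LinearEquiv.ofInjective _ (hφinj (E a).1 (E a).2)).symm.trans
      (LinearEquiv.ofInjective _ (hφinj (E b).1 (E b).2)), fun w => ?_⟩
    obtain ⟨x, rfl⟩ := (LinearEquiv.ofInjective _ (hφinj (E a).1 (E a).2)).surjective w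
    rw [LinearEquiv.trans_apply, LinearEquiv.symm_apply_apply]
    change Q (φ (E b).1 (E b).2 x) = Q (φ (E a).1 (E a).2 x)
    rw [hφQ, hφQ]
  · rintro a ⟨U, hUD, hU, hd⟩
    rw [hDnd.decomp.finrank_eq a] at hd
    have h3 : 0 < finrank F U := by omega
    have : Nontrivial U := Module.finrank_pos_iff.1 h3
    obtain ⟨u, hu⟩ := exists_ne (0 : U)
    obtain ⟨w, hw⟩ := hUD u.2
    have h4 := hU u.1 u.2
    rw [← hw, hφQ] at h4
    apply hu
    apply Subtype.ext
    rw [← hw, hn0 w h4, map_zero]; rfl
  · rintro g ⟨⟨σ, hσ⟩, hgI⟩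
    apply mem_decompositionStabilizer_of_forall hDnd.decomp
    intro a
    rcases h1 : E a with ⟨i, k⟩
    have hDa : D' a = LinearMap.range (φ i k) := by
      change LinearMap.range (φ (E a).1 (E a).2) = _
      rw [h1]
    have key : ∀ x ∈ (D' a).map (Matrix.toLin' (g : Matrix ι ι F)),
        x ∈ LinearMap.range (φ (σ i) 0) ∨ x ∈ LinearMap.range (φ (σ i) 1) := by
      rw [hDa]
      rintro _ ⟨_, ⟨w, rfl⟩, rfl⟩
      have h3 : Matrix.toLin' (g : Matrix ι ι F) (φ i k w) ∈ D (σ i) := by
        rw [← hσ i]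
        exact ⟨_, hφD i k w, rfl⟩
      by_cases hw : w = 0
      · left
        rw [hw, map_zero, map_zero]
        exact Submodule.zero_mem _
      obtain ⟨⟨p, r⟩, hpr⟩ := (e (σ i)).surjective ⟨_, h3⟩
      have h4 : (e (σ i) (p, r) : ι → F) = Matrix.toLin' (g : Matrix ι ι F) (φ i k w) := by rw [hpr]
      have h5 : nQ F p + nQ F r = 1 := by
        have := he' (σ i) (p, r)
        rw [h4] at this
        rw [← this]
        change Q ((g : Matrix ι ι F) *ᵥ (φ i k w)) = 1
        rw [mem_iso_iff.1 hgI, hφQ, nQ_eq_one hF hw]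
      by_cases hr : r = 0
      · left
        refine ⟨p, ?_⟩
        rw [← h4, hr]; rfl
      · right
        have hp0 : p = 0 := by
          by_contra hp0
          rw [nQ_eq_one hF hp0, nQ_eq_one hF hr, one_add_one_eq_two, h2] at h5
          exact zero_ne_one h5
        refine ⟨r, ?_⟩
        rw [← h4, hp0]; rfl
    -- contained in one of the two
    have hone : ∃ l, (D' a).map (Matrix.toLin' (g : Matrix ι ι F)) ≤ LinearMap.range (φ (σ i) l) := by
      by_contra hc
      push Not at hc
      obtain ⟨x, hx, hx0⟩ := SetLike.not_le_iff_exists.1 (hc 0)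
      obtain ⟨y, hy, hy1⟩ := SetLike.not_le_iff_exists.1 (hc 1)
      have hx1 := (key x hx).resolve_left hx0
      have hy0 := (key y hy).resolve_right hy1
      rcases key (x + y) (Submodule.add_mem _ hx hy) with h | h
      · apply hx0
        have := Submodule.sub_mem _ h hy0
        rwa [add_sub_cancel_right] at this
      · apply hy1
        have := Submodule.sub_mem _ h hx1
        rwa [add_sub_cancel_left] at this
    obtain ⟨l, hl⟩ := hone
    refine ⟨E.symm (σ i, l), ?_⟩
    have h6 : D' (E.symm (σ i, l)) = LinearMap.range (φ (σ i) l) := by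
      change LinearMap.range (φ (E (E.symm (σ i, l))).1 (E (E.symm (σ i, l))).2) = _
      rw [Equiv.apply_symm_apply]
    rw [h6]
    apply Submodule.eq_of_le_of_finrank_eq hl
    have h7 : finrank F ((D' a).map (Matrix.toLin' (g : Matrix ι ι F))) = finrank F (D' a) :=
      LinearEquiv.finrank_map_eq (glLin g) (D' a)
    rw [h7, hDnd.decomp.finrank_eq a, ← h6, hDnd.decomp.finrank_eq]

end Cfsg.Agent.H932
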