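import Cfsg.Agent.H932.Preserver
import Cfsg.Agent.H932.Refine
import Cfsg.Agent.H932.TensAlt
import Cfsg.Agent.H914.SpExc2

/-!
Orthogonal tensor decompositions `n₁ ⊗ 4` (H932).

* `exists_decomp_of_tensor`: `n₂` odd, odd characteristic: the tensor decomposition `n₁ ⊗ n₂` into symmetric forms gives an
  orthogonal decomposition into `n₂` isometric members of dimension `n₁`, similar to the first factor;
* `exists_regroup`: `n₁` odd, second factor of dimension four and plus type: the elements of determinant one of the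
  stabiliser lie in the stabiliser of a tensor decomposition `2 ⊗ 2 n₁` into alternating forms.
-/

set_option autoImplicit false
set_option linter.unusedSectionVars false

namespace Cfsg.Agent.H932

open Cfsg Cfsg.Geo Module
open QuadraticMap hiding proj
open Cfsg.Agent.LieClassical.OrthCore Cfsg.Agent.LieClassical.OrthTrans Cfsg.Agent.LieClassical.OrthFinite
open Cfsg.Agent.H919 (HermForm)
open Cfsg.Agent.H925 Cfsg.Agent.H922
open Cfsg.Agent.H912 (pt tens kronecker_mulVec_pt form_pt isometry_factors mem_tensorProductSubgroup_iff chBasis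
  tens_chBasis isTensorFormStructure_chBasis formOfGram_gramMatrix gramMatrix_formOfGram hermForm_formOfGram)
open scoped Matrix Kronecker MatrixGroups

variable {ι : Type} [Fintype ι] [DecidableEq ι] {F : Type*} [Field F] {Q : (ι → F) → F}

/-! ### `HermForm` and symmetric / symplectic forms -/

theorem isBilinearForm_of_herm {κ : Type} [Fintype κ] [DecidableEq κ] {ε : F} {f : (κ → F) → (κ → F) → F}
    (hf : HermForm (RingEquiv.refl F) ε f) : IsBilinearForm f :=
  ⟨hf.add_left, hf.smul_left, hf.add_right, fun c v x => hf.smul_right v c x⟩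

theorem isSymmetricForm_of_herm {κ : Type} [Fintype κ] [DecidableEq κ] {f : (κ → F) → (κ → F) → F}
    (hf : HermForm (RingEquiv.refl F) 1 f) : IsSymmetricForm f :=
  ⟨isBilinearForm_of_herm hf, fun u v => by have := hf.herm u v; rw [one_mul] at this; exact this, hf.nondegenerate⟩

theorem alternating_of_herm {κ : Type} [Fintype κ] [DecidableEq κ] (h2 : (2 : F) ≠ 0) {f : (κ → F) → (κ → F) → F}
    (hf : HermForm (RingEquiv.refl F) (-1) f) (v : κ → F) : f v v = 0 := by
  have h : f v v = -1 * f v v := hf.herm v v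
  have h3 : (2 : F) * f v v = 0 := by linear_combination h
  exact (mul_eq_zero.1 h3).resolve_left h2

theorem isSymplecticForm_of_alt {κ : Type} [Fintype κ] [DecidableEq κ] {ε : F} {f : (κ → F) → (κ → F) → F}
    (hf : HermForm (RingEquiv.refl F) ε f) (halt : ∀ v, f v v = 0) : IsSymplecticForm f := by
  refine ⟨isBilinearForm_of_herm hf, fun v w => ?_, halt, hf.nondegenerate⟩
  have h := halt (v + w)
  rw [hf.add_left, hf.add_right, hf.add_right, halt, halt] at h
  linear_combination h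

/-! ### Orthogonal decompositions from tensor decompositions -/

theorem exists_decomp_of_tensor [Finite F] (h2 : (2 : F) ≠ 0) (hQ : IsNondegenerateQuadraticForm Q) {n₁ n₂ : ℕ}
    (hn₁ : 0 < n₁) (hn₂ : 2 ≤ n₂) (hodd : Odd n₂) {f₁ : (Fin n₁ → F) → (Fin n₁ → F) → F}
    {f₂ : (Fin n₂ → F) → (Fin n₂ → F) → F}
    (h1 : HermForm (RingEquiv.refl F) 1 f₁) (h2' : HermForm (RingEquiv.refl F) 1 f₂)
    {e : ι ≃ Fin n₁ × Fin n₂} {P : GL ι F}
    (h : IsTensorFormStructure (RingEquiv.refl F) (polar Q) f₁ f₂ e P) :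
    ∃ D : Fin n₂ → Submodule F (ι → F), IsOrthogonalMDecomposition Q n₁ D ∧
      ∀ j, (IsPlusTypeOn Q (D j) ↔ IsPlusTypeOn (fun v : Fin n₁ → F => f₁ v v) ⊤) := by
  classical
  obtain ⟨c, hc, hpt⟩ := form_pt h1 h2' h
  have hpt' : ∀ v v' w w', polar Q (H914.pureL e P w v) (H914.pureL e P w' v') = c * (f₁ v v' * f₂ w w') :=
    fun v v' w w' => hpt v v' w w'
  have hS2 := isSymmetricForm_of_herm h2'
  obtain ⟨d, W, hd, hW⟩ := exists_basis_const h2 (toBilin hS2.bilinear)
    ⟨fun u v => hS2.symm u v⟩ (toBilin_nondegenerate hS2.bilinear hS2.nondegenerate) hodd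
    (by rw [Module.finrank_fintype_fun_eq_card, Fintype.card_fin])
  have hW' : ∀ i j, f₂ (W i) (W j) = if i = j then d else 0 := hW
  let φ : Fin n₂ → ((Fin n₁ → F) →ₗ[F] (ι → F)) := fun j => H914.pureL e P (W j)
  have hφinj : ∀ j, Function.Injective (φ j) := fun j => H914.pureL_injective e P (W.ne_zero j)
  have hφQ : ∀ j v, 2 * Q (φ j v) = c * d * f₁ v v := by
    intro j v
    rw [← polar_self hQ]
    change polar Q (H914.pureL e P (W j) v) (H914.pureL e P (W j) v) = _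
    rw [hpt', hW', if_pos rfl]; ring
  have hcard : n₂ * n₁ = Fintype.card ι := by
    rw [Fintype.card_congr e, Fintype.card_prod, Fintype.card_fin, Fintype.card_fin, mul_comm]
  let D : Fin n₂ → Submodule F (ι → F) := fun j => LinearMap.range (φ j)
  have hDnd : IsNondegenerateMDecomposition (polar Q) n₁ D := by
    apply isNondegenerateMDecomposition_of_orth hQ hn₂ hn₁ hcard
    · intro j
      change finrank F (LinearMap.range (φ j)) = n₁
      rw [LinearMap.finrank_range_of_inj (hφinj j), Module.finrank_fintype_fun_eq_card, Fintype.card_fin]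
    · rintro j _ ⟨v, rfl⟩ hv
      have hv0 : v ≠ 0 := by
        rintro rfl
        exact hv (map_zero _)
      obtain ⟨⟨x, hx⟩, ⟨y, hy⟩⟩ := h1.nondegenerate v hv0
      refine ⟨⟨_, ⟨x, rfl⟩, ?_⟩, ⟨_, ⟨y, rfl⟩, ?_⟩⟩
      · change polar Q (H914.pureL e P (W j) x) (H914.pureL e P (W j) v) ≠ 0
        rw [hpt', hW', if_pos rfl]
        exact mul_ne_zero hc (mul_ne_zero hx hd)
      · change polar Q (H914.pureL e P (W j) v) (H914.pureL e P (W j) y) ≠ 0
        rw [hpt', hW', if_pos rfl]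
        exact mul_ne_zero hc (mul_ne_zero hy hd)
    · rintro i j hij _ ⟨v, rfl⟩ _ ⟨w, rfl⟩
      change polar Q (H914.pureL e P (W i) v) (H914.pureL e P (W j) w) = 0
      rw [hpt', hW', if_neg hij, mul_zero, mul_zero]
  refine ⟨D, ⟨hDnd, ?_⟩, ?_⟩
  · intro a b
    refine ⟨(LinearEquiv.ofInjective _ (hφinj a)).symm.trans (LinearEquiv.ofInjective _ (hφinj b)), fun w => ?_⟩
    obtain ⟨x, rfl⟩ := (LinearEquiv.ofInjective _ (hφinj a)).surjective w
    rw [LinearEquiv.trans_apply, LinearEquiv.symm_apply_apply]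
    change Q (φ b x) = Q (φ a x)
    apply mul_left_cancel₀ h2
    rw [hφQ, hφQ]
  · intro j
    constructor
    · rintro ⟨U, hUD, hU, hdU⟩
      refine ⟨U.comap (φ j), le_top, ?_, ?_⟩
      · intro v hv
        have h3 := hφQ j v
        have h4 : Q (φ j v) = 0 := hU _ hv
        rw [h4, mul_zero] at h3
        exact (mul_eq_zero.1 h3.symm).resolve_left (mul_ne_zero hc hd)
      · have h5 : (U.comap (φ j)).map (φ j) = U := by
          rw [Submodule.map_comap_eq]
          exact inf_eq_right.2 hUD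
        have h6 : finrank F ((U.comap (φ j)).map (φ j)) = finrank F (U.comap (φ j)) :=
          (Submodule.equivMapOfInjective (φ j) (hφinj j) _).finrank_eq.symm
        rw [← h6, h5, hdU, finrank_top, Module.finrank_fintype_fun_eq_card, Fintype.card_fin]
        exact hDnd.decomp.finrank_eq j
    · rintro ⟨U, -, hU, hdU⟩
      refine ⟨U.map (φ j), ?_, ?_, ?_⟩
      · rintro _ ⟨v, -, rfl⟩
        exact ⟨v, rfl⟩
      · rintro _ ⟨v, hv, rfl⟩
        have h3 := hφQ j v
        have h4 : f₁ v v = 0 := hU v hv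
        rw [h4, mul_zero] at h3
        exact (mul_eq_zero.1 h3).resolve_left h2
      · have h6 : finrank F (U.map (φ j)) = finrank F U :=
          (Submodule.equivMapOfInjective (φ j) (hφinj j) _).finrank_eq.symm
        rw [h6, hdU, finrank_top, Module.finrank_fintype_fun_eq_card, Fintype.card_fin]
        exact (hDnd.decomp.finrank_eq j).symm

/-! ### The model in dimension four -/

/-- indices of `F² ⊗ F²` -/
def u4 : Fin 4 ≃ Fin 2 × Fin 2 := (finProdFinEquiv (m := 2) (n := 2)).symm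

def J2 (F : Type*) [Field F] : Matrix (Fin 2) (Fin 2) F := !![0, 1; -1, 0]

theorem det_J2 : (J2 F).det = 1 := by
  rw [J2, Matrix.det_fin_two_of]; ring

/-- the tensor square of the alternating form, as a bilinear form on `F⁴` -/
def mB (F : Type*) [Field F] : LinearMap.BilinForm F (Fin 4 → F) :=
  LinearMap.mk₂ F (fun y y' => dp (y ∘ u4.symm) (y' ∘ u4.symm))
    (fun y z y' => by simp only [dp, Function.comp, Pi.add_apply]; ring)
    (fun c y y' => by simp only [dp, Function.comp, Pi.smul_apply, smul_eq_mul]; ring)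
    (fun y y' z => by simp only [dp, Function.comp, Pi.add_apply]; ring)
    (fun c y y' => by simp only [dp, Function.comp, Pi.smul_apply, smul_eq_mul]; ring)

theorem mB_apply (y y' : Fin 4 → F) : mB F y y' = dp (y ∘ u4.symm) (y' ∘ u4.symm) := rfl

theorem dp_self (z : Fin 2 × Fin 2 → F) : dp z z = 2 * dq z := by simp only [dp, dq]; ring

theorem dp_comm (z z' : Fin 2 × Fin 2 → F) : dp z z' = dp z' z := by simp only [dp]; ring

theorem exists_dp_ne {z : Fin 2 × Fin 2 → F} (hz : z ≠ 0) : ∃ z', dp z z' ≠ 0 := by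
  by_contra hc
  push Not at hc
  apply hz
  funext ⟨i, j⟩
  have h1 := hc (Pi.single (0, 0) 1)
  have h2 := hc (Pi.single (0, 1) 1)
  have h3 := hc (Pi.single (1, 0) 1)
  have h4 := hc (Pi.single (1, 1) 1)
  simp [dp] at h1 h2 h3 h4
  fin_cases i <;> fin_cases j
  · exact h4
  · exact h3
  · exact h2
  · exact h1

/-- **A symmetric form of plus type on `F⁴` is the tensor square of the alternating form of `F²`.** -/
theorem exists_model [Finite F] (h2 : (2 : F) ≠ 0) {f₂ : (Fin 4 → F) → (Fin 4 → F) → F}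
    (h2' : HermForm (RingEquiv.refl F) 1 f₂) (hp : IsPlusTypeOn (fun v : Fin 4 → F => f₂ v v) ⊤) :
    ∃ R : GL (Fin 4) F, ∀ y y' : Fin 4 → F, f₂ ((R : Matrix (Fin 4) (Fin 4) F) *ᵥ y) ((R : Matrix (Fin 4) (Fin 4) F) *ᵥ y') =
      dp (y ∘ u4.symm) (y' ∘ u4.symm) := by
  have hS := isSymmetricForm_of_herm h2'
  let q₂ : QuadraticForm F (Fin 4 → F) := (toBilin hS.bilinear).toQuadraticMap
  let q₀ : QuadraticForm F (Fin 4 → F) := (mB F).toQuadraticMap
  have hq₂ : ∀ v, q₂ v = f₂ v v := fun v => rfl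
  have hq₀ : ∀ v, q₀ v = dp (v ∘ u4.symm) (v ∘ u4.symm) := fun v => rfl
  have hpol₂ : ∀ u v, polar q₂ u v = 2 * f₂ u v := by
    intro u v
    simp only [polar, hq₂]
    rw [hS.bilinear.add_left, hS.bilinear.add_right, hS.bilinear.add_right, hS.symm v u]; ring
  have hpol₀ : ∀ u v, polar q₀ u v = 2 * dp (u ∘ u4.symm) (v ∘ u4.symm) := by
    intro u v
    simp only [polar, hq₀, dp, Function.comp, Pi.add_apply]; ring
  have hnd₂ : Nondeg q₂ := by
    intro x hx
    by_contra h0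
    obtain ⟨-, y, hy⟩ := hS.nondegenerate x h0
    have := hx y
    rw [hpol₂] at this
    exact hy ((mul_eq_zero.1 this).resolve_left h2)
  have hnd₀ : Nondeg q₀ := by
    intro x hx
    by_contra h0
    have h0' : x ∘ u4.symm ≠ 0 := by
      intro h
      apply h0
      funext i
      have := congrFun h (u4 i)
      simpa using this
    obtain ⟨z, hz⟩ := exists_dp_ne h0'
    have := hx (z ∘ u4)
    rw [hpol₀] at this
    apply hz
    have h3 := (mul_eq_zero.1 this).resolve_left h2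
    rwa [Function.comp_assoc, Equiv.self_comp_symm, Function.comp_id] at h3
  have hfr : finrank F (Fin 4 → F) = 4 := by rw [Module.finrank_fintype_fun_eq_card, Fintype.card_fin]
  have hpl₂ : Pl q₂ := by
    obtain ⟨U, -, hU, hd⟩ := hp
    exact ⟨U, fun u hu => hU u hu, by rw [hd, finrank_top]⟩
  have hpl₀ : Pl q₀ := by
    let φ : (Fin 2 → F) →ₗ[F] (Fin 4 → F) :=
      { toFun := fun w => pt (Pi.single 0 1) w ∘ u4
        map_add' := fun w w' => by rw [pt_add_right]; rfl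
        map_smul' := fun c w => by rw [pt_smul_right]; rfl }
    have hφ : ∀ w, φ w = pt (Pi.single 0 1) w ∘ u4 := fun w => rfl
    have hinj : Function.Injective φ := by
      intro w w' h
      funext j
      have := congrFun h (u4.symm (0, j))
      rw [hφ, hφ] at this
      simpa [pt] using this
    refine ⟨LinearMap.range φ, ?_, ?_⟩
    · rintro _ ⟨w, rfl⟩
      rw [hq₀, hφ, Function.comp_assoc, Equiv.self_comp_symm, Function.comp_id, dp_pt, om_self, zero_mul]
    · rw [LinearMap.finrank_range_of_inj hinj, hfr, Module.finrank_fintype_fun_eq_card, Fintype.card_fin]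
  obtain ⟨β, hβ⟩ := exists_isometry hnd₀ hnd₂ (by rw [hfr]; decide) rfl ⟨fun _ => hpl₂, fun _ => hpl₀⟩
  refine ⟨Cfsg.Agent.H912.ofLinEquiv β, fun y y' => ?_⟩
  rw [Cfsg.Agent.H912.ofLinEquiv_mulVec, Cfsg.Agent.H912.ofLinEquiv_mulVec]
  apply mul_left_cancel₀ h2
  rw [← hpol₂, ← hpol₀]
  simp only [polar, ← map_add, hβ]

theorem gram_model {f₂ : (Fin 4 → F) → (Fin 4 → F) → F}
    (h : ∀ y y' : Fin 4 → F, f₂ y y' = dp (y ∘ u4.symm) (y' ∘ u4.symm)) (i j : Fin 4) :
    gramMatrix f₂ i j = J2 F (u4 i).1 (u4 j).1 * J2 F (u4 i).2 (u4 j).2 := by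
  have key : ∀ k : Fin 4, (Pi.single k (1 : F) : Fin 4 → F) ∘ u4.symm =
      pt (Pi.single (u4 k).1 1) (Pi.single (u4 k).2 1) := by
    intro k
    rw [pt_single]
    funext a
    simp only [Function.comp, Pi.single_apply, Prod.mk.eta]
    by_cases hh : u4.symm a = k
    · rw [if_pos hh, if_pos]
      rw [← hh, Equiv.apply_symm_apply]
    · rw [if_neg hh, if_neg]
      intro h3
      apply hh
      rw [h3, Equiv.symm_apply_apply]
  have hom : ∀ a b : Fin 2, om (Pi.single a (1 : F)) (Pi.single b (1 : F)) = J2 F a b := by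
    intro a b
    fin_cases a <;> fin_cases b <;> simp [om, J2]
  rw [gramMatrix, h, key, key, dp_pt, hom, hom]

/-! ### Regrouping -/

/-- `n₁ ⊗ (2 ⊗ 2) = 2 ⊗ (n₁ ⊗ 2)` on indices -/
def sg (n₁ : ℕ) : Fin n₁ × Fin 4 ≃ Fin 2 × Fin (n₁ * 2) where
  toFun p := ((u4 p.2).1, finProdFinEquiv (p.1, (u4 p.2).2))
  invFun r := ((finProdFinEquiv.symm r.2).1, u4.symm (r.1, (finProdFinEquiv.symm r.2).2))
  left_inv p := by
    show ((finProdFinEquiv.symm (finProdFinEquiv (p.1, (u4 p.2).2))).1,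
      u4.symm ((u4 p.2).1, (finProdFinEquiv.symm (finProdFinEquiv (p.1, (u4 p.2).2))).2)) = p
    rw [Equiv.symm_apply_apply]
    exact Prod.ext rfl (u4.symm_apply_apply p.2)
  right_inv r := by
    refine Prod.ext ?_ ?_
    · show (u4 (u4.symm _)).1 = r.1
      rw [Equiv.apply_symm_apply]
    · show finProdFinEquiv ((finProdFinEquiv.symm r.2).1, (u4 (u4.symm _)).2) = r.2
      rw [Equiv.apply_symm_apply]
      exact finProdFinEquiv.apply_symm_apply r.2

theorem tens_regroup {n₁ : ℕ} (e : ι ≃ Fin n₁ × Fin 4) (P : GL ι F) (a : Matrix (Fin n₁) (Fin n₁) F)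
    (x y : Matrix (Fin 2) (Fin 2) F) :
    tens e P a ((x ⊗ₖ y).submatrix u4 u4) =
      tens (e.trans (sg n₁)) P x ((a ⊗ₖ y).submatrix finProdFinEquiv.symm finProdFinEquiv.symm) := by
  unfold tens
  congr 2
  ext i j
  simp only [Matrix.coe_reindexAlgEquiv, Matrix.reindex_apply, Equiv.symm_symm, Matrix.submatrix_apply,
    Matrix.kroneckerMap_apply, Equiv.trans_apply, sg, Equiv.coe_fn_mk, Equiv.symm_apply_apply]
  ring

/-- the alternating form of the plane -/
def gA (F : Type*) [Field F] : (Fin 2 → F) → (Fin 2 → F) → F := formOfGram (RingEquiv.refl F) (J2 F)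

/-- the second factor after regrouping -/
def gB {n₁ : ℕ} (f₁ : (Fin n₁ → F) → (Fin n₁ → F) → F) : (Fin (n₁ * 2) → F) → (Fin (n₁ * 2) → F) → F :=
  formOfGram (RingEquiv.refl F) ((gramMatrix f₁ ⊗ₖ J2 F).submatrix finProdFinEquiv.symm finProdFinEquiv.symm)

theorem hermForm_gA : HermForm (RingEquiv.refl F) (-1) (gA F) := by
  apply hermForm_formOfGram (fun a => rfl)
  · rw [det_J2]; exact isUnit_one
  · simp
  · intro i j
    fin_cases i <;> fin_cases j <;> simp [J2]

theorem hermForm_gB {n₁ : ℕ} {f₁ : (Fin n₁ → F) → (Fin n₁ → F) → F} (h1 : HermForm (RingEquiv.refl F) 1 f₁) :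
    HermForm (RingEquiv.refl F) (-1) (gB f₁) := by
  apply hermForm_formOfGram (fun a => rfl)
  · rw [Matrix.det_submatrix_equiv_self, Matrix.det_kronecker, det_J2, one_pow, mul_one]
    apply IsUnit.pow
    rw [isUnit_iff_ne_zero]
    exact gramMatrix_det_ne_zero (isBilinearForm_of_herm h1) h1.nondegenerate
  · simp
  · intro i j
    simp only [Matrix.submatrix_apply, Matrix.kroneckerMap_apply, RingEquiv.refl_apply]
    have e1 : ∀ a b, gramMatrix f₁ a b = gramMatrix f₁ b a := fun a b => (isSymmetricForm_of_herm h1).symm _ _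
    have e2 : ∀ a b : Fin 2, J2 F a b = - J2 F b a := by
      intro a b
      fin_cases a <;> fin_cases b <;> simp [J2]
    rw [e1, e2]; ring

theorem structure_regroup {n₁ : ℕ} {f₁ : (Fin n₁ → F) → (Fin n₁ → F) → F} {f₂ : (Fin 4 → F) → (Fin 4 → F) → F}
    {g : (ι → F) → (ι → F) → F}
    (hf₂ : ∀ y y' : Fin 4 → F, f₂ y y' = dp (y ∘ u4.symm) (y' ∘ u4.symm)) {e : ι ≃ Fin n₁ × Fin 4} {P : GL ι F}
    (h : IsTensorFormStructure (RingEquiv.refl F) g f₁ f₂ e P) :
    IsTensorFormStructure (RingEquiv.refl F) g (gA F) (gB f₁) (e.trans (sg n₁)) P := by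
  obtain ⟨c, hc, h⟩ := h
  refine ⟨c, hc, fun x y => ?_⟩
  have e1 : ∀ x : Fin 2 × Fin (n₁ * 2) → F, x ∘ (e.trans (sg n₁)) = (x ∘ sg n₁) ∘ e := fun x => rfl
  rw [e1, e1, h]
  congr 1
  rw [gA, gB, gramMatrix_formOfGram, gramMatrix_formOfGram]
  unfold formOfGram
  rw [← Equiv.sum_comp (sg n₁)]
  refine Finset.sum_congr rfl fun a _ => ?_
  rw [← Equiv.sum_comp (sg n₁)]
  refine Finset.sum_congr rfl fun b _ => ?_
  simp only [Function.comp, Matrix.kroneckerMap_apply, Matrix.submatrix_apply, gram_model hf₂]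
  simp only [sg, Equiv.coe_fn_mk, Equiv.symm_apply_apply]
  ring

theorem det_tens {n₁ n₂ : ℕ} (e : ι ≃ Fin n₁ × Fin n₂) (P : GL ι F) (a : Matrix (Fin n₁) (Fin n₁) F)
    (b : Matrix (Fin n₂) (Fin n₂) F) : (tens e P a b).det = a.det ^ n₂ * b.det ^ n₁ := by
  unfold tens
  rw [Matrix.det_mul_right_comm, ← Units.val_mul, mul_inv_cancel, Units.val_one, Matrix.one_mul,
    Matrix.coe_reindexAlgEquiv, Matrix.det_reindex_self, Matrix.det_kronecker, Fintype.card_fin, Fintype.card_fin]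

theorem sq_det_of_similarity {n₁ : ℕ} {f₁ : (Fin n₁ → F) → (Fin n₁ → F) → F}
    (h1 : HermForm (RingEquiv.refl F) 1 f₁) {a : Matrix (Fin n₁) (Fin n₁) F} {μ : F}
    (h : ∀ v v', f₁ (a *ᵥ v) (a *ᵥ v') = μ * f₁ v v') : a.det ^ 2 = μ ^ n₁ := by
  have hb := isBilinearForm_of_herm h1
  have hG0 : (gramMatrix f₁).det ≠ 0 := gramMatrix_det_ne_zero hb h1.nondegenerate
  have e1 := gramMatrix_comp hb a
  have e2 : gramMatrix (fun u v => f₁ (a *ᵥ u) (a *ᵥ v)) = μ • gramMatrix f₁ := by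
    ext i j
    exact h _ _
  rw [e2] at e1
  have e3 := congrArg Matrix.det e1
  rw [Matrix.det_smul, Matrix.det_mul, Matrix.det_mul, Matrix.det_transpose, Fintype.card_fin] at e3
  apply mul_right_cancel₀ hG0
  linear_combination -e3

/-- **Regrouping `n₁ ⊗ 4⁺` as `2 ⊗ 2 n₁`.** -/
theorem exists_regroup [Finite F] (h2 : (2 : F) ≠ 0) {n₁ : ℕ} (hn₁ : Odd n₁)
    {f₁ : (Fin n₁ → F) → (Fin n₁ → F) → F} {f₂ : (Fin 4 → F) → (Fin 4 → F) → F}
    (h1 : HermForm (RingEquiv.refl F) 1 f₁) (h2' : HermForm (RingEquiv.refl F) 1 f₂)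
    (hp : IsPlusTypeOn (fun v : Fin 4 → F => f₂ v v) ⊤) {g : (ι → F) → (ι → F) → F}
    {e : ι ≃ Fin n₁ × Fin 4} {P : GL ι F}
    (h : IsTensorFormStructure (RingEquiv.refl F) g f₁ f₂ e P) :
    ∃ (e' : ι ≃ Fin 2 × Fin (n₁ * 2)) (P' : GL ι F) (g₁ : (Fin 2 → F) → (Fin 2 → F) → F)
      (g₂ : (Fin (n₁ * 2) → F) → (Fin (n₁ * 2) → F) → F),
      HermForm (RingEquiv.refl F) (-1) g₁ ∧ HermForm (RingEquiv.refl F) (-1) g₂ ∧
      IsTensorFormStructure (RingEquiv.refl F) g g₁ g₂ e' P' ∧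
      ∀ x ∈ tensorProductSubgroup n₁ 4 e P,
        (∀ u v, g ((x : Matrix ι ι F) *ᵥ u) ((x : Matrix ι ι F) *ᵥ v) = g u v) →
        (x : Matrix ι ι F).det = 1 → x ∈ tensorProductSubgroup 2 (n₁ * 2) e' P' := by
  obtain ⟨R, hR⟩ := exists_model h2 h2' hp
  let f₂' : (Fin 4 → F) → (Fin 4 → F) → F := fun y y' =>
    f₂ ((R : Matrix (Fin 4) (Fin 4) F) *ᵥ y) ((R : Matrix (Fin 4) (Fin 4) F) *ᵥ y')
  have hb2 := isBilinearForm_of_herm h2'
  have hst : IsTensorFormStructure (RingEquiv.refl F) g f₁ f₂' e (chBasis e P 1 R) := by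
    apply isTensorFormStructure_chBasis h 1 R
    · have : (((1 : GL (Fin n₁) F) : Matrix (Fin n₁) (Fin n₁) F)).map (RingEquiv.refl F) = 1 := by
        ext i j; rfl
      rw [this, Units.val_one, Matrix.transpose_one, Matrix.one_mul, Matrix.mul_one]
    · have : (R : Matrix (Fin 4) (Fin 4) F).map (RingEquiv.refl F) = R := by
        ext i j; rfl
      rw [this, ← gramMatrix_comp hb2]
  have hf2'H : HermForm (RingEquiv.refl F) 1 f₂' :=
    ⟨fun x y v => by simp only [f₂', Matrix.mulVec_add, h2'.add_left],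
     fun c x v => by simp only [f₂', Matrix.mulVec_smul, h2'.smul_left], fun a => rfl, by simp,
     fun x y => h2'.herm _ _, by
      intro v hv
      have hRv : (R : Matrix (Fin 4) (Fin 4) F) *ᵥ v ≠ 0 := by
        intro h0
        apply hv
        have := congrArg (fun u => ((R⁻¹ : GL (Fin 4) F) : Matrix (Fin 4) (Fin 4) F) *ᵥ u) h0
        simpa [Matrix.mulVec_mulVec, ← Units.val_mul] using this
      obtain ⟨⟨x, hx⟩, ⟨y, hy⟩⟩ := h2'.nondegenerate _ hRv
      refine ⟨⟨((R⁻¹ : GL (Fin 4) F) : Matrix (Fin 4) (Fin 4) F) *ᵥ x, ?_⟩,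
        ⟨((R⁻¹ : GL (Fin 4) F) : Matrix (Fin 4) (Fin 4) F) *ᵥ y, ?_⟩⟩
      · change f₂ (R.val *ᵥ (R⁻¹.val *ᵥ x)) _ ≠ 0
        rw [Matrix.mulVec_mulVec, ← Units.val_mul, mul_inv_cancel, Units.val_one, Matrix.one_mulVec]
        exact hx
      · change f₂ _ (R.val *ᵥ (R⁻¹.val *ᵥ y)) ≠ 0
        rw [Matrix.mulVec_mulVec, ← Units.val_mul, mul_inv_cancel, Units.val_one, Matrix.one_mulVec]
        exact hy⟩
  refine ⟨e.trans (sg n₁), chBasis e P 1 R, gA F, gB f₁, hermForm_gA, hermForm_gB h1,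
    structure_regroup hR hst, ?_⟩
  intro x hx hxg hdet
  obtain ⟨a, b, hab⟩ := mem_tensorProductSubgroup_iff.1 hx
  obtain ⟨b', hb'⟩ : ∃ b' : GL (Fin 4) F, b' = R⁻¹ * b * R := ⟨_, rfl⟩
  have hxt : (x : Matrix ι ι F) = tens e (chBasis e P 1 R) (a : Matrix (Fin n₁) (Fin n₁) F) (b' : Matrix (Fin 4) (Fin 4) F) := by
    rw [tens_chBasis, hab]
    have e1 : ((1 : GL (Fin n₁) F) : Matrix (Fin n₁) (Fin n₁) F) * a * (((1 : GL (Fin n₁) F)⁻¹ : GL (Fin n₁) F) : Matrix (Fin n₁) (Fin n₁) F) = a := by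
      rw [inv_one, Units.val_one, Matrix.one_mul, Matrix.mul_one]
    have e2 : (R : Matrix (Fin 4) (Fin 4) F) * b' * ((R⁻¹ : GL (Fin 4) F) : Matrix (Fin 4) (Fin 4) F) = b := by
      rw [← Units.val_mul, ← Units.val_mul, hb']
      congr 1
      group
    rw [e1, e2]
  have hn₁0 : 0 < n₁ := hn₁.pos
  obtain ⟨μ, hμ, ha, hb⟩ := isometry_factors hn₁0 (by norm_num) h1 hf2'H hst (a := (a : Matrix (Fin n₁) (Fin n₁) F))
    (b := (b' : Matrix (Fin 4) (Fin 4) F)) (by rw [← hxt]; exact hxg)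
  have hda := sq_det_of_similarity h1 ha
  -- the second factor
  set B : Matrix (Fin 2 × Fin 2) (Fin 2 × Fin 2) F := (b' : Matrix (Fin 4) (Fin 4) F).submatrix u4.symm u4.symm with hBdef
  have hBb : (b' : Matrix (Fin 4) (Fin 4) F) = B.submatrix u4 u4 := by
    ext i j
    simp [hBdef]
  have hBv : ∀ z : Fin 2 × Fin 2 → F, B *ᵥ z = ((b' : Matrix (Fin 4) (Fin 4) F) *ᵥ (z ∘ u4)) ∘ u4.symm := by
    intro z
    rw [hBdef, Matrix.submatrix_mulVec_equiv]
    rfl
  have hBq : ∀ z, dq (B *ᵥ z) = μ⁻¹ * dq z := by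
    intro z
    apply mul_left_cancel₀ h2
    have h3 := hb (z ∘ u4) (z ∘ u4)
    change f₂ (R.val *ᵥ _) (R.val *ᵥ _) = μ⁻¹ * f₂ (R.val *ᵥ _) (R.val *ᵥ _) at h3
    rw [hR, hR, ← hBv, Function.comp_assoc, Equiv.self_comp_symm, Function.comp_id, dp_self, dp_self] at h3
    linear_combination h3
  have hνB : μ⁻¹ ≠ 0 := inv_ne_zero hμ
  have hdetB : B.det ≠ - (μ⁻¹) ^ 2 := by
    intro hBd
    rw [hxt, det_tens] at hdet
    have hbd : (b' : Matrix (Fin 4) (Fin 4) F).det = B.det := by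
      rw [hBb, Matrix.det_submatrix_equiv_self]
    have h4 : (a : Matrix (Fin n₁) (Fin n₁) F).det ^ 4 = (μ ^ n₁) ^ 2 := by
      rw [← hda]; ring
    rw [hbd, hBd, h4, neg_pow, hn₁.neg_one_pow] at hdet
    have h5 : (μ ^ n₁) ^ 2 * (-1 * ((μ⁻¹) ^ 2) ^ n₁) = -1 := by
      have : (μ ^ n₁) ^ 2 * ((μ⁻¹) ^ 2) ^ n₁ = 1 := by
        rw [← pow_mul, ← pow_mul, mul_comm n₁ 2, ← mul_pow, mul_inv_cancel₀ hμ, one_pow]
      linear_combination -this
    rw [h5] at hdet
    apply h2
    linear_combination -hdet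
  obtain ⟨X, Y, hX, hY, hXY⟩ := preserver_of_det hνB hBq hdetB
  rw [mem_tensorProductSubgroup_iff]
  have hdetA : (a : Matrix (Fin n₁) (Fin n₁) F).det ≠ 0 := by
    intro h0
    rw [h0] at hda
    exact pow_ne_zero n₁ hμ (by rw [← hda]; ring)
  refine ⟨Matrix.GeneralLinearGroup.mkOfDetNeZero X hX,
    Matrix.GeneralLinearGroup.mkOfDetNeZero
      (((a : Matrix (Fin n₁) (Fin n₁) F) ⊗ₖ Y).submatrix finProdFinEquiv.symm finProdFinEquiv.symm) ?_, ?_⟩
  · rw [Matrix.det_submatrix_equiv_self, Matrix.det_kronecker]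
    exact mul_ne_zero (pow_ne_zero _ hdetA) (pow_ne_zero _ hY)
  · rw [hxt, hBb, hXY, tens_regroup]
    rfl

end Cfsg.Agent.H932
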