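import Cfsg.Agent.H932.ThreeInv

/-!
`O₃ ⊗ O₄⁻` in `Ω₁₂⁻(q)`, `q ≥ 5` odd: a proper overgroup of the tensor group is contained in the tensor group.
-/

set_option autoImplicit false
set_option linter.unusedSimpArgs false
set_option linter.unusedSectionVars false

namespace Cfsg.Agent.H932.Three

open QuadraticMap hiding proj
open Cfsg.Agent.LieClassical.OrthCore Cfsg.Agent.LieClassical.OrthTrans Cfsg.Agent.H883.Root
open Cfsg.Agent Cfsg.Agent.H882.Ten Cfsg.Agent.H882.Good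

variable {F : Type*} {U : Type*} {W : Type*} {V : Type*} [Field F] [AddCommGroup U] [Module F U]
  [AddCommGroup W] [Module F W] [AddCommGroup V] [Module F V]
  {t : U →ₗ[F] W →ₗ[F] V} {QU : QuadraticForm F U} {QW : QuadraticForm F W} {Q : QuadraticForm F V}
  {X : Subgroup (V ≃ₗ[F] V)} {S : TSt t QU QW Q}

theorem pgroup_Es {p : ℕ} [CharP F p] {s : W} (hs : QW s = 0) : IsPGroup p (Es S X hs) := by
  rintro ⟨g, w, hw, h⟩
  refine ⟨1, ?_⟩
  apply Subtype.ext
  apply Subtype.ext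
  show (g : V ≃ₗ[F] V) ^ (p ^ 1) = 1
  have h0 : (p ^ 1) • w = 0 := by
    rw [pow_one, ← Nat.cast_smul_eq_nsmul F, CharP.cast_eq_zero, zero_smul]
  have hp : polar QW s ((p ^ 1) • w) = 0 := by rw [h0]; exact polar_zero_right _ _
  rw [h, ← map_pow, siegel_pow hs hw _ hp, siegel_congr hs hp (polar_zero_right _ _) h0, siegel_zero', map_one]

namespace Ov3

variable (hX : Ov3 S X)

include hX

/-- a nonsingular vector orthogonal to `s, s', w0` -/
theorem exists_w1 {s s' w0 : W} (hyp : Hyp QW s s') :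
    ∃ w, polar QW s w = 0 ∧ polar QW s' w = 0 ∧ polar QW w0 w = 0 ∧ QW w ≠ 0 := by
  have hfW := hX.finW
  obtain ⟨c, hc0, hc⟩ := exists_perp_ne (Q := QW) ![s, s', w0] (by rw [hX.d4]; norm_num)
  have h0 : polar QW s c = 0 := hc 0
  have h1 : polar QW s' c = 0 := hc 1
  have h2 : polar QW w0 c = 0 := hc 2
  refine ⟨c, h0, h1, h2, fun hcn => hc0 ?_⟩
  obtain ⟨d, rfl⟩ := hX.an s c hyp.left hyp.left_ne h0 hcn
  rw [polar_smul_right, hyp.pair', smul_eq_mul, mul_one] at h1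
  rw [h1, zero_smul]

theorem not_cyclic {s s' : W} (hyp : Hyp QW s s') : ¬ IsCyclic (Es S X hyp.left) := by
  intro hc
  have := hX.finX
  obtain ⟨g, hg⟩ := hc.exists_generator
  obtain ⟨w, hw, hgw⟩ := g.2
  obtain ⟨u0, u1, hu⟩ := hX.sU
  have key : ∀ x, polar QW s x = 0 → ∃ (i : F) (c : F), x = i • w + c • s := by
    intro x hx
    let e : Es S X hyp.left := ⟨⟨rW S.ten (siegel QW s x hyp.left hx), hX.rWs_mem _ _⟩, x, hx, rfl⟩
    obtain ⟨n, hn⟩ := mem_powers_iff_mem_zpowers.2 (hg e)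
    have h1 : rW S.ten (siegel QW s w hyp.left hw) ^ n = rW S.ten (siegel QW s x hyp.left hx) := by
      have h2 := congrArg (fun z : Es S X hyp.left => ((z : X) : V ≃ₗ[F] V)) hn
      rw [← hgw]
      exact h2
    have hn' : polar QW s (n • w) = 0 := by
      rw [← Nat.cast_smul_eq_nsmul F, polar_smul_right, hw, smul_zero]
    rw [← map_pow, siegel_pow hyp.left hw n hn'] at h1
    have h2 := LinearEquiv.congr_fun h1 (t u0 s')
    rw [rW_apply, rW_apply] at h2
    have h3 := t_right_inj S.ten hu.left_ne h2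
    rw [siegel_apply, siegel_apply, hyp.pair, one_smul, one_smul, mul_one, mul_one] at h3
    refine ⟨(n : F), (polar QW x s' + QW x) - (polar QW (n • w) s' + QW (n • w)), ?_⟩
    rw [Nat.cast_smul_eq_nsmul, sub_smul, add_smul, add_smul]
    have h4 : x = (s' + x - polar QW x s' • s - QW x • s) - s' + polar QW x s' • s + QW x • s := by abel
    refine h4.trans ?_
    rw [← h3]
    abel
  obtain ⟨w0, h00, h01, h0n⟩ := hX.exists_w0 hyp
  obtain ⟨w1, h10, h11, h12, h1n⟩ := hX.exists_w1 (w0 := w0) hyp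
  obtain ⟨i, c, hi⟩ := key w0 h00
  obtain ⟨j, d, hj⟩ := key w1 h10
  have hws : polar QW w s = 0 := by rw [polar_comm]; exact hw
  have hss : polar QW s s = 0 := polar_self_of_sing hyp.left
  have hQ : ∀ i c : F, QW (i • w + c • s) = i * i * QW w := by
    intro i c
    rw [Q_add, QuadraticMap.map_smul, QuadraticMap.map_smul, hyp.left, polar_smul_left, polar_smul_right, hws]
    simp
  rw [hi, hQ] at h0n
  rw [hj, hQ] at h1n
  rw [hi, hj] at h12
  simp only [polar_add_left, polar_add_right, polar_smul_left, polar_smul_right, hws, hss, hw, polar_self',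
    smul_eq_mul, mul_zero, add_zero] at h12
  have hi0 : i ≠ 0 := by rintro rfl; simp at h0n
  have hj0 : j ≠ 0 := by rintro rfl; simp at h1n
  have hw0 : QW w ≠ 0 := by
    intro h; rw [h] at h0n; simp at h0n
  exact (mul_ne_zero hi0 (mul_ne_zero hj0 (mul_ne_zero S.two hw0))) (by linear_combination h12)

theorem Ka_le (hne : ¬ E Q ≤ X) {a : U} (ha : QU a ≠ 0) : Ka t X a ≤ HH S X := by
  have hfin := hX.fin
  have hfX := hX.finX
  have h2 := S.two
  obtain ⟨u0, u1, hu⟩ := hX.sU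
  obtain ⟨s, s', hyp⟩ := hX.sW
  have hntW : Nontrivial W := ⟨s, 0, hyp.left_ne⟩
  have hntU : Nontrivial U := ⟨u0, 0, hu.left_ne⟩
  obtain ⟨p, hp⟩ := CharP.exists F
  have hpp : Fact p.Prime := ⟨(CharP.char_is_prime_or_zero F p).resolve_right
    (fun h => (CharP.char_ne_zero_of_finite F p) h)⟩
  refine le_of_cop (p := p) (Es S X hyp.left) (Ka t X a) (hX.not_cyclic hyp) (pgroup_Es _) ?_ ?_ ?_
  · rintro e ⟨w, hw, he⟩ he1
    have hwn : QW w ≠ 0 := by
      intro h0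
      obtain ⟨c, rfl⟩ := hX.an s w hyp.left hyp.left_ne hw h0
      apply he1
      apply Subtype.ext
      rw [he]
      have : siegel QW s (c • s) hyp.left hw = 1 := by
        ext v
        rw [siegel_apply, QuadraticMap.map_smul, hyp.left, polar_smul_left, smul_smul]
        simp [mul_comm]
      rw [this, map_one]
      rfl
    have e1 : e = ⟨rW S.ten (siegel QW s w hyp.left hw), hX.rWs_mem hyp.left hw⟩ := Subtype.ext he
    rw [e1]
    exact hX.gd_siegel hne hyp.left hyp.left_ne hw hwn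
  · rintro e ⟨w, hw, he⟩ k hk x
    show (e : V ≃ₗ[F] V) ((k : V ≃ₗ[F] V) ((e : V ≃ₗ[F] V)⁻¹ (t a x))) = t a x
    have e1 : (e : V ≃ₗ[F] V)⁻¹ (t a x) = t a ((siegel QW s w hyp.left hw)⁻¹ x) := by
      rw [he, ← map_inv, rW_apply]
    rw [e1, hk, ← e1]
    exact LinearEquiv.apply_symm_apply _ _
  · intro hdvd
    obtain ⟨g, hg⟩ := exists_prime_orderOf_dvd_card' p hdvd
    obtain ⟨g0, hgK, hgH⟩ := g
    obtain ⟨m, hmX⟩ := g0
    have hgp := pow_orderOf_eq_one (⟨⟨m, hmX⟩, hgK, hgH⟩ : (Ka t X a ⊓ HH S X : Subgroup X))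
    rw [hg] at hgp
    have hmp : m ^ p = 1 := congrArg (fun z : (Ka t X a ⊓ HH S X : Subgroup X) => ((z : X) : V ≃ₗ[F] V)) hgp
    have hm1 : m ≠ 1 := by
      intro h
      have : (⟨⟨m, hmX⟩, hgK, hgH⟩ : (Ka t X a ⊓ HH S X : Subgroup X)) = 1 := Subtype.ext (Subtype.ext h)
      rw [this, orderOf_one] at hg
      exact hpp.out.one_lt.ne hg
    have hmK : ∀ w, m (t a w) = t a w := hgK
    obtain ⟨k, l, hkl⟩ : m ∈ TT t S.ten := mem_HH.1 hgH
    rw [hkl] at hmp
    obtain ⟨k', l', hkl', hk', hl'⟩ := exists_tm_pow_eq_one S.ten hmp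
    have hmT : m = tm S.ten k' l' := by rw [hkl, hkl']
    have hmO : m ∈ O Q := hX.le hmX
    obtain ⟨c, hc0, hkc, hlc⟩ := S.sim_of_mem_O (k := k') (l := l') (by rw [← hmT]; exact hmO)
    obtain ⟨hc1, hk'O⟩ := isometry_of_pow h2 S.ndU hkc hk'
    have ha0 : a ≠ 0 := by
      rintro rfl
      exact ha (QuadraticMap.map_zero QU)
    obtain ⟨y, hy⟩ := S.ndU.exists_polar_eq ha0 1
    set β := polar QU y (k' a) with hβ
    have hlw : ∀ w, β • l' w = w := by
      intro w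
      have h3 := congrArg (S.cu y) (hmK w)
      rw [hmT, tm_apply, S.cu_t, S.cu_t, polar_comm QU y a, hy, one_smul] at h3
      exact h3
    have hlp : ∀ n : ℕ, ∀ w, β ^ n • (l' ^ n) w = w := by
      intro n
      induction n with
      | zero => intro w; simp
      | succ n ih =>
        intro w
        rw [pow_succ, pow_succ', mul_smul]
        show β ^ n • β • l' ((l' ^ n) w) = w
        rw [hlw, ih]
    obtain ⟨w0, hw0⟩ := exists_ne (0 : W)
    have hβp : β ^ p = 1 := by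
      have h3 := hlp p w0
      rw [hl'] at h3
      have h4 : (β ^ p - 1) • w0 = 0 := by
        rw [sub_smul, one_smul, sub_eq_zero]
        exact h3
      exact sub_eq_zero.1 ((smul_eq_zero.1 h4).resolve_right hw0)
    have hβ1 : β = 1 := by
      apply frobenius_inj F p
      show β ^ p = 1 ^ p
      rw [hβp, one_pow]
    have hl1 : l' = 1 := by
      ext w
      have := hlw w
      rw [hβ1, one_smul] at this
      exact this
    have hka : k' a = a := by
      have h3 := hmK w0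
      rw [hmT, tm_apply, hl1] at h3
      exact t_left_inj S.ten hw0 h3
    have hk1 := eq_one_of_fix S.ndU h2 hX.d3 hk'O hk' ha hka
    apply hm1
    rw [hmT, hk1, hl1, tm_one]

/-- **The centraliser of `k_a ⊗ 1`.** -/
theorem cent_kk (hne : ¬ E Q ≤ X) {a : U} (ha : QU a ≠ 0) {g : V ≃ₗ[F] V} (hg : g ∈ X)
    (hc : g * rU S.ten (kk QU a ha) = rU S.ten (kk QU a ha) * g) : g ∈ TT t S.ten := by
  have hfW := hX.finW
  have h2 := S.two
  obtain ⟨s, s', hyp⟩ := hX.sW
  have ha0 : a ≠ 0 := by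
    rintro rfl
    exact ha (QuadraticMap.map_zero QU)
  have hfix : ∀ w, g (t a w) = t a ((2 * QU a)⁻¹ • S.cu a (g (t a w))) := by
    intro w
    apply fixed_kk S ha
    have h3 : g (rU S.ten (kk QU a ha) (t a w)) = rU S.ten (kk QU a ha) (g (t a w)) :=
      LinearEquiv.congr_fun hc (t a w)
    rw [t_kk S ha] at h3
    exact h3.symm
  let γ0 : W →ₗ[F] W := (2 * QU a)⁻¹ • (S.cu a ∘ₗ (g : V →ₗ[F] V) ∘ₗ t a)
  have hγ0 : ∀ w, g (t a w) = t a (γ0 w) := hfix
  have hinj : Function.Injective γ0 := by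
    rw [← LinearMap.ker_eq_bot, LinearMap.ker_eq_bot']
    intro w hw
    have h3 := hγ0 w
    rw [hw, map_zero] at h3
    have h4 := (LinearEquiv.map_eq_zero_iff g).1 h3
    by_contra hw0
    exact t_ne S.ten ha0 hw0 h4
  let γ : W ≃ₗ[F] W := LinearEquiv.ofInjectiveEndo γ0 hinj
  have hγ : ∀ w, g (t a w) = t a (γ w) := hγ0
  have hgO := hX.le hg
  have hγO : γ ∈ O QW := by
    refine mem_O_of_polar h2 fun x y => ?_
    have h3 := polar_map hgO (t a x) (t a y)
    rw [hγ, hγ, S.pol, S.pol] at h3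
    rw [polar_self'] at h3
    exact mul_left_cancel₀ (mul_ne_zero h2 ha) h3
  obtain ⟨w, hw, -, hwn⟩ := hX.exists_w0 hyp
  set d := rW S.ten (siegel QW s w hyp.left hw) with hd
  have hdX : d ∈ X := hX.rWs_mem _ _
  have hs1 : QW (γ s) = 0 := by rw [hγO]; exact hyp.left
  have hw1 : polar QW (γ s) (γ w) = 0 := by rw [polar_map hγO]; exact hw
  have hconj := siegel_conj hγO hyp.left hw hs1 hw1
  set d' := rW S.ten (siegel QW (γ s) (γ w) hs1 hw1) with hd'
  have hd'X : d' ∈ X := hX.rWs_mem _ _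
  have hgi : ∀ v, g (g⁻¹ v) = v := fun v => LinearEquiv.apply_symm_apply g v
  have hig : ∀ v, g⁻¹ (g v) = v := fun v => LinearEquiv.symm_apply_apply g v
  have hkey : ∀ x, (g * d * g⁻¹) (t a x) = d' (t a x) := by
    intro x
    obtain ⟨y, rfl⟩ := γ.surjective x
    rw [← hγ]
    show g (d (g⁻¹ (g (t a y)))) = d' (g (t a y))
    rw [hig, hγ, hd, hd', rW_apply, rW_apply, hγ, ← hconj]
    show t a (γ (siegel QW s w hyp.left hw y)) = t a (γ (siegel QW s w hyp.left hw (γ⁻¹ (γ y))))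
    have h4 : γ⁻¹ (γ y) = y := LinearEquiv.symm_apply_apply γ y
    rw [h4]
  have hmem : d'⁻¹ * (g * d * g⁻¹) ∈ X :=
    X.mul_mem (X.inv_mem hd'X) (X.mul_mem (X.mul_mem hg hdX) (X.inv_mem hg))
  have hK : (⟨_, hmem⟩ : X) ∈ Ka t X a := by
    intro x
    show d'⁻¹ ((g * d * g⁻¹) (t a x)) = t a x
    rw [hkey]
    exact LinearEquiv.symm_apply_apply _ _
  have hT : d'⁻¹ * (g * d * g⁻¹) ∈ TT t S.ten := mem_HH.1 (hX.Ka_le hne ha hK)
  have hd'T : d' ∈ TT t S.ten := tm_mem_TT _ _ _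
  have h5 := (TT t S.ten).mul_mem hd'T hT
  rw [mul_inv_cancel_left] at h5
  exact hX.ti hne hyp.left hyp.left_ne hw hwn hg h5

theorem finrank_fix_kk {a : U} (ha : QU a ≠ 0) :
    Module.finrank F (LinearMap.ker ((rU S.ten (kk QU a ha) : V →ₗ[F] V) - LinearMap.id)) = 4 := by
  have hfW := hX.finW
  have ha0 : a ≠ 0 := by
    rintro rfl
    exact ha (QuadraticMap.map_zero QU)
  have hinj : Function.Injective (t a) := fun x y h => t_right_inj S.ten ha0 h
  have : LinearMap.ker ((rU S.ten (kk QU a ha) : V →ₗ[F] V) - LinearMap.id) = LinearMap.range (t a) := by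
    ext v
    rw [LinearMap.mem_ker, LinearMap.sub_apply, sub_eq_zero, LinearMap.mem_range]
    constructor
    · intro h
      exact ⟨_, (fixed_kk S ha h).symm⟩
    · rintro ⟨w, rfl⟩
      exact t_kk S ha w
  rw [this, LinearMap.finrank_range_of_inj hinj, hX.d4]

/-- **The involutions `k_a ⊗ 1` are good.** -/
theorem gd_kk (hne : ¬ E Q ≤ X) {a : U} (ha : QU a ≠ 0) :
    Gd (HH S X) (⟨rU S.ten (kk QU a ha), hX.kU a ha⟩ : X) := by
  obtain ⟨s, s', hyp⟩ := hX.sW
  refine Gd.of_cent (mem_HH.2 (tm_mem_TT _ _ _)) ?_ ?_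
  · intro c hc
    exact mem_HH.2 (hX.cent_kk hne ha c.2 (congrArg Subtype.val hc))
  · rintro ⟨g, hg⟩ hgs
    have hT : g * rU S.ten (kk QU a ha) * g⁻¹ ∈ TT t S.ten := mem_HH.1 hgs
    obtain ⟨k, l, hkl⟩ := mem_TT.1 hT
    have hss : rU S.ten (kk QU a ha) * rU S.ten (kk QU a ha) = 1 := by rw [← map_mul, kk_mul_self, map_one]
    have hy2 : ∀ v, tm S.ten k l (tm S.ten k l v) = v := by
      intro v
      have h3 : (g * rU S.ten (kk QU a ha) * g⁻¹) * (g * rU S.ten (kk QU a ha) * g⁻¹) = 1 := by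
        calc (g * rU S.ten (kk QU a ha) * g⁻¹) * (g * rU S.ten (kk QU a ha) * g⁻¹)
            = g * (rU S.ten (kk QU a ha) * rU S.ten (kk QU a ha)) * g⁻¹ := by group
          _ = 1 := by rw [hss]; group
      rw [hkl] at h3
      exact LinearEquiv.congr_fun h3 v
    have hfr : Module.finrank F (LinearMap.ker ((tm S.ten k l : V →ₗ[F] V) - LinearMap.id)) = 4 := by
      rw [← hX.finrank_fix_kk ha, ← hkl]
      have hmap : LinearMap.ker (((g * rU S.ten (kk QU a ha) * g⁻¹ : V ≃ₗ[F] V) : V →ₗ[F] V) - LinearMap.id) =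
          (LinearMap.ker ((rU S.ten (kk QU a ha) : V →ₗ[F] V) - LinearMap.id)).map (g : V →ₗ[F] V) := by
        ext v
        rw [LinearMap.mem_ker, LinearMap.sub_apply, sub_eq_zero, Submodule.mem_map]
        have hgi : ∀ v, g (g⁻¹ v) = v := fun v => LinearEquiv.apply_symm_apply g v
        have hig : ∀ v, g⁻¹ (g v) = v := fun v => LinearEquiv.symm_apply_apply g v
        constructor
        · intro h
          have h4 : g (rU S.ten (kk QU a ha) (g⁻¹ v)) = v := h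
          refine ⟨g⁻¹ v, ?_, hgi v⟩
          rw [LinearMap.mem_ker, LinearMap.sub_apply, sub_eq_zero]
          show rU S.ten (kk QU a ha) (g⁻¹ v) = g⁻¹ v
          have h5 := congrArg (g⁻¹ : V ≃ₗ[F] V) h4
          rw [hig] at h5
          exact h5
        · rintro ⟨y, hy, rfl⟩
          rw [LinearMap.mem_ker, LinearMap.sub_apply, sub_eq_zero] at hy
          have hy' : rU S.ten (kk QU a ha) y = y := hy
          show g (rU S.ten (kk QU a ha) (g⁻¹ (g y))) = g y
          rw [hig, hy']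
      rw [hmap]
      exact LinearEquiv.finrank_map_eq g _
    obtain ⟨c, hc⟩ := scalar_of_fix S.ten S.two hX.d3 hX.d4 hy2 hfr
    obtain ⟨w, hw, -, hwn⟩ := hX.exists_w0 hyp
    refine ⟨_, hX.gd_siegel hne hyp.left hyp.left_ne hw hwn, ?_⟩
    apply Subtype.ext
    show rW S.ten (siegel QW s w hyp.left hw) * (g * rU S.ten (kk QU a ha) * g⁻¹) =
      (g * rU S.ten (kk QU a ha) * g⁻¹) * rW S.ten (siegel QW s w hyp.left hw)
    rw [hkl]
    refine ext_t' S.ten fun u x => ?_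
    show rW S.ten (siegel QW s w hyp.left hw) (tm S.ten k l (t u x)) =
      tm S.ten k l (rW S.ten (siegel QW s w hyp.left hw) (t u x))
    rw [tm_apply, rW_apply, rW_apply, tm_apply, hc, hc, map_smul]

/-- conjugates of `k_a ⊗ 1` in the tensor group -/
theorem conj_kk {a : U} (ha : QU a ≠ 0) {m : V ≃ₗ[F] V} (hm : m ∈ X) (hmT : m ∈ TT t S.ten) :
    ∃ (b : U) (hb : QU b ≠ 0) (e : F), QU b = e * e * QU a ∧
      m * rU S.ten (kk QU a ha) * m⁻¹ = rU S.ten (kk QU b hb) := by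
  obtain ⟨u0, u1, hu⟩ := hX.sU
  obtain ⟨s, s', hyp⟩ := hX.sW
  have hntW : Nontrivial W := ⟨s, 0, hyp.left_ne⟩
  have hntU : Nontrivial U := ⟨u0, 0, hu.left_ne⟩
  obtain ⟨k, l, rfl⟩ := hmT
  obtain ⟨c, hc0, hk, hl⟩ := S.sim_of_mem_O (hX.le hm)
  obtain ⟨e, he⟩ := sq_of_sim S.ndU hX.d3 hk
  obtain ⟨hb, hkb⟩ := sim_kk S.two hc0 hk ha
  refine ⟨k a, hb, e, ?_, ?_⟩
  · rw [Q_eq_half S.two, Q_eq_half S.two a, hk, ← he]; ring
  · rw [← hkb]
    show tm S.ten k l * tm S.ten (kk QU a ha) 1 * (tm S.ten k l)⁻¹ = tm S.ten (k * kk QU a ha * k⁻¹) 1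
    rw [tm_inv, ← tm_mul, ← tm_mul, mul_one, mul_inv_cancel]

/-- **A proper overgroup of the tensor group is contained in the tensor group.** -/
theorem le_TT (hne : ¬ E Q ≤ X) : X ≤ TT t S.ten := by
  have hfin := hX.fin
  have hfX := hX.finX
  have h2 := S.two
  obtain ⟨u0, u1, hu⟩ := hX.sU
  -- two vectors with inequivalent norms
  have ha1 : QU (u0 + u1) ≠ 0 := by
    rw [Q_add, hu.left, hu.right, hu.pair]; simp
  set a1 := u0 + u1 with ha1d
  obtain ⟨b, c, hOB⟩ := exists_OB S.ndU h2 (by rw [hX.d3]) ha1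
  obtain ⟨δ, hδ⟩ : ∃ δ : F, ¬ IsSquare δ := by
    apply FiniteField.exists_nonsquare
    intro h
    have : CharP F 2 := (ringChar.eq_iff).1 h
    exact h2 (CharP.cast_eq_zero F 2)
  have hδ0 : δ ≠ 0 := by
    rintro rfl
    exact hδ ⟨0, by simp⟩
  obtain ⟨x, y, hxy⟩ := exists_sq_add_sq h2 hOB.na hOB.nb (δ * QU a1)
  set a2 := x • a1 + y • b with ha2d
  have hQ2 : QU a2 = δ * QU a1 := by
    rw [← hxy, ha2d, Q_add, QuadraticMap.map_smul, QuadraticMap.map_smul, polar_smul_left, polar_smul_right,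
      hOB.ab]
    simp only [smul_eq_mul, mul_zero, add_zero]
    ring
  have ha2 : QU a2 ≠ 0 := by rw [hQ2]; exact mul_ne_zero hδ0 ha1
  set s1 : X := ⟨rU S.ten (kk QU a1 ha1), hX.kU a1 ha1⟩ with hs1
  set s2 : X := ⟨rU S.ten (kk QU a2 ha2), hX.kU a2 ha2⟩ with hs2
  have hsq : ∀ (a : U) (ha : QU a ≠ 0), (⟨rU S.ten (kk QU a ha), hX.kU a ha⟩ : X) *
      ⟨rU S.ten (kk QU a ha), hX.kU a ha⟩ = 1 := by
    intro a ha
    apply Subtype.ext
    show rU S.ten (kk QU a ha) * rU S.ten (kk QU a ha) = 1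
    rw [← map_mul, kk_mul_self, map_one]
  have hG1 := hX.gd_kk hne ha1
  have hG2 := hX.gd_kk hne ha2
  -- injectivity
  obtain ⟨s, s', hyp⟩ := hX.sW
  have hinj : ∀ k k' : U ≃ₗ[F] U, rU S.ten k = rU S.ten k' → k = k' := by
    intro k k' h
    ext u
    have h3 := LinearEquiv.congr_fun h (t u s)
    rw [rU_apply, rU_apply] at h3
    exact t_left_inj S.ten hyp.left_ne h3
  -- products
  have hprod : ∀ (a : U) (ha : QU a ≠ 0), ∀ h ∈ HH S X, ∀ j,
      j = s2 * (h * (⟨rU S.ten (kk QU a ha), hX.kU a ha⟩ : X) * h⁻¹) → j * j = 1 → j ≠ 1 →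
      ∀ c, c * j = j * c → c ∈ HH S X := by
    rintro a ha ⟨h, hhX⟩ hh ⟨j, hjX⟩ hj hjj hj1 ⟨c, hcX⟩ hc
    obtain ⟨b, hb, -, -, hbe⟩ := hX.conj_kk ha hhX (mem_HH.1 hh)
    have hj' : j = rU S.ten (kk QU a2 ha2 * kk QU b hb) := by
      rw [map_mul, ← hbe]
      exact congrArg Subtype.val hj
    have h3 : (kk QU a2 ha2 * kk QU b hb) * (kk QU a2 ha2 * kk QU b hb) = 1 := by
      apply hinj
      rw [map_mul, ← hj', map_one]
      exact congrArg Subtype.val hjj
    have h4 : kk QU a2 ha2 * kk QU b hb ≠ 1 := by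
      intro h5
      apply hj1
      apply Subtype.ext
      show j = 1
      rw [hj', h5, map_one]
    obtain ⟨d, hd, hdd⟩ := kk_mul_kk S.ndU h2 hX.d3 ha2 hb h3 h4
    refine mem_HH.2 (hX.cent_kk hne hd hcX ?_)
    rw [← hdd, ← hj']
    exact congrArg Subtype.val hc
  intro g hg
  have hfinal := top_of_pair (H := HH S X) s1 s2 (hsq a1 ha1) (hsq a2 ha2) hG1 hG2 ?_ (hprod a1 ha1)
    (hprod a2 ha2) ⟨g, hg⟩
  · exact mem_HH.1 hfinal
  · rintro ⟨h, hh⟩ he
    have hhT : (⟨h, hh⟩ : X) ∈ HH S X := by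
      refine hG1.2 _ ?_
      rw [he]
      exact hG2.1
    obtain ⟨b, hb, e, hbe, hconj⟩ := hX.conj_kk ha1 hh (mem_HH.1 hhT)
    have h3 : rU S.ten (kk QU b hb) = rU S.ten (kk QU a2 ha2) := by
      rw [← hconj]
      exact congrArg Subtype.val he
    have h4 := hinj _ _ h3
    have h5 : kk QU b hb a2 = a2 := by rw [h4, kk_self]
    have h6 := smul_of_kk h2 hb h5
    set κ := (2 * QU b)⁻¹ * polar QU b a2
    have h7 : QU a2 = κ * κ * QU b := by
      nth_rewrite 1 [h6]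
      rw [QuadraticMap.map_smul, smul_eq_mul]
    rw [hQ2, hbe] at h7
    apply hδ
    refine ⟨κ * e, mul_right_cancel₀ ha1 ?_⟩
    rw [h7]; ring

end Ov3

end Cfsg.Agent.H932.Three
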