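import Cfsg.Agent.H882.Ten.Form

/-!
Orthogonal bases of three-dimensional quadratic spaces and the involutions `k_a = - r_a`.
-/

set_option autoImplicit false
set_option linter.unusedSimpArgs false
set_option linter.unusedSectionVars false

namespace Cfsg.Agent.H932.Three

open QuadraticMap hiding proj
open Cfsg.Agent.LieClassical.OrthCore Cfsg.Agent.LieClassical.OrthTrans
open Cfsg.Agent Cfsg.Agent.H882.Ten

variable {F : Type*} {U : Type*} [Field F] [AddCommGroup U] [Module F U] {R : QuadraticForm F U}

/-- The involution `x ↦ Q(a)⁻¹ b(a,x) a - x`. -/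
noncomputable def kk (R : QuadraticForm F U) (a : U) (ha : R a ≠ 0) : U ≃ₗ[F] U :=
  (refl R a ha).trans (LinearEquiv.neg F)

theorem kk_apply {a : U} (ha : R a ≠ 0) (x : U) :
    kk R a ha x = ((R a)⁻¹ * polar R a x) • a - x := by
  show -(refl R a ha x) = _
  rw [refl_apply, neg_sub]

theorem kk_mem_O {a : U} (ha : R a ≠ 0) : kk R a ha ∈ O R := by
  intro x
  show R (-(refl R a ha x)) = R x
  rw [QuadraticMap.map_neg]
  exact refl_mem_O ha x

theorem kk_kk {a : U} (ha : R a ≠ 0) (x : U) : kk R a ha (kk R a ha x) = x := by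
  show -(refl R a ha (-(refl R a ha x))) = x
  rw [map_neg, neg_neg]
  have := refl_mul_self (Q := R) ha
  have h2 := LinearEquiv.congr_fun this x
  exact h2

theorem kk_mul_self {a : U} (ha : R a ≠ 0) : kk R a ha * kk R a ha = 1 := by
  ext x
  exact kk_kk ha x

theorem kk_inv {a : U} (ha : R a ≠ 0) : (kk R a ha)⁻¹ = kk R a ha :=
  inv_eq_of_mul_eq_one_left (kk_mul_self ha)

theorem kk_self {a : U} (ha : R a ≠ 0) : kk R a ha a = a := by
  rw [kk_apply, polar_self']
  have : (R a)⁻¹ * (2 * R a) = 2 := by
    rw [mul_comm, mul_assoc, mul_inv_cancel₀ ha, mul_one]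
  rw [this, two_smul, add_sub_cancel_right]

theorem kk_perp {a x : U} (ha : R a ≠ 0) (hx : polar R a x = 0) : kk R a ha x = -x := by
  rw [kk_apply, hx, mul_zero, zero_smul, zero_sub]

/-- `k_a` moves to the other side of the form. -/
theorem kk_adj {a : U} (ha : R a ≠ 0) (x y : U) : polar R (kk R a ha x) y = polar R x (kk R a ha y) := by
  rw [← polar_map (kk_mem_O ha) x, kk_kk]

/-- `k_(c+v)` maps `c` to `v` if the norms agree. -/
theorem kk_swap {c v : U} (h : R c = R v) (hn : R (c + v) ≠ 0) : kk R (c + v) hn c = v := by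
  have h1 : polar R (c + v) c = R (c + v) := by
    rw [polar_add_left, polar_self', Q_add, polar_comm R v c, ← h]
    ring
  rw [kk_apply, h1, inv_mul_cancel₀ hn, one_smul, add_sub_cancel_left]

/-- An orthogonal triple of nonsingular vectors. -/
structure OB (R : QuadraticForm F U) (a b c : U) : Prop where
  na : R a ≠ 0
  nb : R b ≠ 0
  nc : R c ≠ 0
  ab : polar R a b = 0
  ac : polar R a c = 0
  bc : polar R b c = 0

namespace OB

variable {a b c : U}

theorem ba (h : OB R a b c) : polar R b a = 0 := by rw [polar_comm]; exact h.ab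
theorem ca (h : OB R a b c) : polar R c a = 0 := by rw [polar_comm]; exact h.ac
theorem cb (h : OB R a b c) : polar R c b = 0 := by rw [polar_comm]; exact h.bc

theorem swap12 (h : OB R a b c) : OB R b a c := ⟨h.nb, h.na, h.nc, h.ba, h.bc, h.ac⟩
theorem swap23 (h : OB R a b c) : OB R a c b := ⟨h.na, h.nc, h.nb, h.ac, h.ab, h.cb⟩
theorem rot (h : OB R a b c) : OB R b c a := ⟨h.nb, h.nc, h.na, h.bc, h.ba, h.ca⟩

theorem eq_zero (h : OB R a b c) (h2 : (2 : F) ≠ 0) (d3 : Module.finrank F U = 3) {u : U}
    (ha : polar R a u = 0) (hb : polar R b u = 0) (hc : polar R c u = 0) : u = 0 := by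
  have hna : 2 * R a ≠ 0 := mul_ne_zero h2 h.na
  have hnb : 2 * R b ≠ 0 := mul_ne_zero h2 h.nb
  have hnc : 2 * R c ≠ 0 := mul_ne_zero h2 h.nc
  have hli : LinearIndependent F ![a, b, c] := by
    rw [Fintype.linearIndependent_iff]
    intro d hd
    rw [Fin.sum_univ_three] at hd
    have hd' : d 0 • a + d 1 • b + d 2 • c = 0 := hd
    have e1 := congrArg (polar R a) hd'
    have e2 := congrArg (polar R b) hd'
    have e3 := congrArg (polar R c) hd'
    simp only [polar_add_right, polar_smul_right, polar_self', h.ab, h.ac, h.bc, h.ba, h.ca, h.cb,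
      polar_zero_right, smul_eq_mul, mul_zero, zero_add, add_zero] at e1 e2 e3
    intro i
    fin_cases i
    · exact (mul_eq_zero.1 e1).resolve_right hna
    · exact (mul_eq_zero.1 e2).resolve_right hnb
    · exact (mul_eq_zero.1 e3).resolve_right hnc
  have hsp := hli.span_eq_top_of_card_eq_finrank (by simp [d3])
  have hp : u ∈ Submodule.span F (Set.range ![a, b, c]) := by rw [hsp]; trivial
  rw [Submodule.mem_span_range_iff_exists_fun] at hp
  obtain ⟨d, hd⟩ := hp
  rw [Fin.sum_univ_three] at hd
  have hd' : d 0 • a + d 1 • b + d 2 • c = u := hd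
  rw [← hd'] at ha hb hc ⊢
  simp only [polar_add_right, polar_smul_right, polar_self', h.ab, h.ac, h.bc, h.ba, h.ca, h.cb,
    smul_eq_mul, mul_zero, zero_add, add_zero] at ha hb hc
  rw [(mul_eq_zero.1 ha).resolve_right hna, (mul_eq_zero.1 hb).resolve_right hnb,
    (mul_eq_zero.1 hc).resolve_right hnc]
  simp

theorem expand (h : OB R a b c) (h2 : (2 : F) ≠ 0) (d3 : Module.finrank F U = 3) (u : U) :
    u = ((2 * R a)⁻¹ * polar R a u) • a + ((2 * R b)⁻¹ * polar R b u) • b +
      ((2 * R c)⁻¹ * polar R c u) • c := by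
  have hna : 2 * R a ≠ 0 := mul_ne_zero h2 h.na
  have hnb : 2 * R b ≠ 0 := mul_ne_zero h2 h.nb
  have hnc : 2 * R c ≠ 0 := mul_ne_zero h2 h.nc
  rw [← sub_eq_zero]
  apply h.eq_zero h2 d3
  · simp only [polar_sub_right, polar_add_right, polar_smul_right, polar_self', h.ab, h.ac, h.bc, h.ba, h.ca,
      h.cb, smul_eq_mul, mul_zero, add_zero, zero_add]
    rw [mul_right_comm, inv_mul_cancel₀ hna, one_mul, sub_self]
  · simp only [polar_sub_right, polar_add_right, polar_smul_right, polar_self', h.ab, h.ac, h.bc, h.ba, h.ca,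
      h.cb, smul_eq_mul, mul_zero, add_zero, zero_add]
    rw [mul_right_comm, inv_mul_cancel₀ hnb, one_mul, sub_self]
  · simp only [polar_sub_right, polar_add_right, polar_smul_right, polar_self', h.ab, h.ac, h.bc, h.ba, h.ca,
      h.cb, smul_eq_mul, mul_zero, add_zero, zero_add]
    rw [mul_right_comm, inv_mul_cancel₀ hnc, one_mul, sub_self]

/-- two vectors with the same products with the triple are equal -/
theorem ext (h : OB R a b c) (h2 : (2 : F) ≠ 0) (d3 : Module.finrank F U = 3) {u v : U}
    (ha : polar R u a = polar R v a) (hb : polar R u b = polar R v b) (hc : polar R u c = polar R v c) :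
    u = v := by
  rw [← sub_eq_zero]
  apply h.eq_zero h2 d3
  · rw [polar_comm, polar_sub_left, ha, sub_self]
  · rw [polar_comm, polar_sub_left, hb, sub_self]
  · rw [polar_comm, polar_sub_left, hc, sub_self]

/-- two linear maps which agree on the triple are equal -/
theorem lext (h : OB R a b c) (h2 : (2 : F) ≠ 0) (d3 : Module.finrank F U = 3) {Y : Type*} [AddCommGroup Y]
    [Module F Y] {f g : U →ₗ[F] Y} (ha : f a = g a) (hb : f b = g b) (hc : f c = g c) (u : U) : f u = g u := by
  rw [h.expand h2 d3 u]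
  simp only [map_add, map_smul, ha, hb, hc]

end OB

theorem exists_nonsing_of_perp {n : ℕ} (hQ : Nondeg R) (h2 : (2 : F) ≠ 0) (e : Fin n → U)
    (he : ∀ i, R (e i) ≠ 0) (heo : ∀ i j, i ≠ j → polar R (e i) (e j) = 0) (hn : n < Module.finrank F U) :
    ∃ c, R c ≠ 0 ∧ ∀ i, polar R (e i) c = 0 := by
  obtain ⟨c, hc0, hc⟩ := exists_perp_ne (Q := R) e hn
  by_cases hcn : R c = 0
  · obtain ⟨y, hy⟩ := hQ.exists_polar_ne hc0
    set y' := y - ∑ i, ((2 * R (e i))⁻¹ * polar R (e i) y) • e i with hy'
    have hsum : ∀ z, polar R z (∑ i, ((2 * R (e i))⁻¹ * polar R (e i) y) • e i) =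
        ∑ i, ((2 * R (e i))⁻¹ * polar R (e i) y) * polar R z (e i) := by
      intro z
      have : ∀ s : Finset (Fin n), polar R z (∑ i ∈ s, ((2 * R (e i))⁻¹ * polar R (e i) y) • e i) =
        ∑ i ∈ s, ((2 * R (e i))⁻¹ * polar R (e i) y) * polar R z (e i) := by
        intro s
        classical
        induction s using Finset.induction_on with
        | empty => simp
        | insert a s ha ih => rw [Finset.sum_insert ha, Finset.sum_insert ha, polar_add_right, ih,
            polar_smul_right, smul_eq_mul]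
      exact this Finset.univ
    have h1 : ∀ j, polar R (e j) y' = 0 := by
      intro j
      rw [hy', polar_sub_right, hsum, Finset.sum_eq_single j]
      · rw [polar_self', mul_right_comm, inv_mul_cancel₀ (mul_ne_zero h2 (he j)), one_mul, sub_self]
      · intro i _ hij
        rw [heo j i (Ne.symm hij), mul_zero]
      · intro h
        exact absurd (Finset.mem_univ j) h
    have h3 : polar R c y' ≠ 0 := by
      rw [hy', polar_sub_right, hsum, Finset.sum_eq_zero, sub_zero]
      · exact hy
      · intro i _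
        rw [polar_comm R c, hc i, mul_zero]
    by_cases hyn : R y' = 0
    · refine ⟨c + y', ?_, fun i => by rw [polar_add_right, hc, h1, add_zero]⟩
      rw [Q_add, hcn, hyn, zero_add, zero_add]
      exact h3
    · exact ⟨y', hyn, h1⟩
  · exact ⟨c, hcn, hc⟩

/-- A nonsingular vector is a member of an orthogonal triple. -/
theorem exists_OB (hQ : Nondeg R) (h2 : (2 : F) ≠ 0) (d3 : 3 ≤ Module.finrank F U) {a : U} (ha : R a ≠ 0) :
    ∃ b c, OB R a b c := by
  obtain ⟨b, hb, hab⟩ := exists_nonsing_of_perp hQ h2 ![a] (by intro i; fin_cases i; exact ha)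
    (by intro i j hij; exact absurd (Subsingleton.elim i j) hij) (by omega)
  have hab' : polar R a b = 0 := hab 0
  obtain ⟨c, hc, hac⟩ := exists_nonsing_of_perp hQ h2 ![a, b] (by
      intro i; fin_cases i
      · exact ha
      · exact hb)
    (by
      intro i j hij
      fin_cases i <;> fin_cases j
      · exact absurd rfl hij
      · exact hab'
      · show polar R b a = 0
        rw [polar_comm]; exact hab'
      · exact absurd rfl hij) (by omega)
  exact ⟨b, c, ha, hb, hc, hab', hac 0, hac 1⟩

/-- A binary diagonal form over a finite field of odd order represents every scalar. -/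
theorem exists_sq_add_sq [Finite F] (h2 : (2 : F) ≠ 0) {a b : F} (ha : a ≠ 0) (hb : b ≠ 0) (c : F) :
    ∃ x y : F, a * x ^ 2 + b * y ^ 2 = c := by
  have := Fintype.ofFinite F
  have hodd : Fintype.card F % 2 = 1 := by
    apply FiniteField.odd_card_of_char_ne_two
    intro h
    have : CharP F 2 := (ringChar.eq_iff).1 h
    exact h2 (CharP.cast_eq_zero F 2)
  obtain ⟨x, y, hxy⟩ := FiniteField.exists_root_sum_quadratic (R := F)
    (f := Polynomial.C a * Polynomial.X ^ 2 - Polynomial.C c) (g := Polynomial.C b * Polynomial.X ^ 2)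
    (by
      have : (Polynomial.C a * Polynomial.X ^ 2 - Polynomial.C c : Polynomial F) =
        Polynomial.C a * Polynomial.X ^ 2 + Polynomial.C (-c) := by rw [Polynomial.C_neg, sub_eq_add_neg]
      rw [this, Polynomial.degree_add_eq_left_of_degree_lt]
      · exact Polynomial.degree_C_mul_X_pow 2 ha
      · rw [Polynomial.degree_C_mul_X_pow 2 ha]
        exact lt_of_le_of_lt Polynomial.degree_C_le (by norm_num))
    (Polynomial.degree_C_mul_X_pow 2 hb) hodd
  refine ⟨x, y, ?_⟩
  simp only [Polynomial.eval_sub, Polynomial.eval_mul, Polynomial.eval_C, Polynomial.eval_pow,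
    Polynomial.eval_X] at hxy
  linear_combination hxy

end Cfsg.Agent.H932.Three
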