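import Cfsg.Agent.H882.Ten.RadThree

/-!
`O₃ ⊗ O₄⁻` in `Ω₁₂⁻(q)`, `q` odd: root elements. Variant of the lemmas of `H882/Ten` for a space `W` of Witt
index one; the hypothesis `Good QW` is replaced by the transitivity of `E QW` on nonzero singular vectors.
-/

set_option autoImplicit false
set_option linter.unusedSimpArgs false
set_option linter.unusedSectionVars false

namespace Cfsg.Agent.H932.Three

open QuadraticMap hiding proj
open Cfsg.Agent.LieClassical.OrthCore Cfsg.Agent.LieClassical.OrthTrans Cfsg.Agent.H883.Root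
open Cfsg.Agent Cfsg.Agent.H882.Ten

variable {F : Type*} {U : Type*} {W : Type*} {V : Type*} [Field F] [AddCommGroup U] [Module F U]
  [AddCommGroup W] [Module F W] [AddCommGroup V] [Module F V]
  {t : U →ₗ[F] W →ₗ[F] V} {QU : QuadraticForm F U} {QW : QuadraticForm F W} {Q : QuadraticForm F V}
  {X : Subgroup (V ≃ₗ[F] V)} {S : TSt t QU QW Q}

/-- The hypotheses on an overgroup `X` used below. -/
structure Ov (S : TSt t QU QW Q) (X : Subgroup (V ≃ₗ[F] V)) : Prop where
  le : X ≤ O Q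
  rU : ∀ k ∈ E QU, Cfsg.Agent.H882.Ten.rU S.ten k ∈ X
  rW : ∀ l ∈ E QW, Cfsg.Agent.H882.Ten.rW S.ten l ∈ X
  tr : ∀ {x x' : W}, QW x = 0 → QW x' = 0 → x ≠ 0 → x' ≠ 0 → ∃ l ∈ E QW, l x = x'
  hG : Good Q
  dU : 3 ≤ Module.finrank F U
  dW : 3 ≤ Module.finrank F W
  sU : ∃ x y : U, Hyp QU x y
  sW : ∃ x y : W, Hyp QW x y

namespace Ov

variable (hX : Ov S X)

include hX

theorem has_line {u y y' : U} {w : W} (hu : QU u = 0) (hw : QW w = 0) (hw0 : w ≠ 0)
    (hy : polar QU u y = 0) (hy' : polar QU u y' = 0) (hyy : polar QU y' y ≠ 0)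
    (h1 : Has Q X (t u w) (t y w)) (h2 : Has Q X (t u w) (t y' w)) (z : W) : Has Q X (t u w) (t u z) := by
  obtain ⟨w0, hw0'⟩ := LieClassical.OrthTrans.exists_hyp S.ndW hw hw0
  refine op_ind hw0' (P := fun z => Has Q X (t u w) (t u z)) ?_ ?_ ?_ z
  · intro a c ha hc
    exact (ha.add hc).congr rfl (by rw [map_add])
  · intro c
    exact (has_self (S.sing_left hu w) c).congr rfl (by rw [map_smul])
  · intro w' hw' hww'
    have hw'0 : w' ≠ 0 := by
      rintro rfl
      exact hww' (polar_zero_right _ _)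
    set d : F := - (polar QU y' y * polar QW w' w) with hd
    have hd0 : d ≠ 0 := neg_ne_zero.2 (mul_ne_zero hyy (by rwa [polar_comm]))
    have key : ∀ c : F, Has Q X (t u w) ((c * c) • (d • t u w')) := by
      intro c
      by_cases hc : c = 0
      · subst hc
        refine (has_zero (S.sing_left hu w)).congr rfl (by simp)
      obtain ⟨l, hl, hlw⟩ := hX.tr hw (x' := c • w') (by rw [QuadraticMap.map_smul, hw', smul_zero])
        hw0 (smul_ne_zero hc hw'0)
      have h3 := h2.map (hX.le (hX.rW l hl)) (hX.rW l hl)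
      rw [rW_apply, rW_apply, hlw] at h3
      have p1 : polar Q (t u (c • w')) (t u w) = 0 := by rw [S.pol, polar_self_of_sing hu, zero_mul]
      have p2 : polar Q (t y' (c • w')) (t u w) = 0 := by rw [S.pol, polar_comm, hy', zero_mul]
      have h4 := h3.comm h1 p1 p2
      refine h4.congr rfl ?_
      have p3 : polar Q (t u (c • w')) (t y w) = 0 := by rw [S.pol, hy, zero_mul]
      rw [p3, S.pol, hd]
      simp only [map_smul, polar_smul_left, smul_eq_mul]
      module
    have h4 := has_smul_of_sq S.two key d⁻¹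
    refine h4.congr rfl ?_
    rw [smul_smul, inv_mul_cancel₀ hd0, one_smul]

theorem AA_of_line {u : U} {w : W} (hu : QU u = 0) (hw : QW w = 0) (hw0 : w ≠ 0)
    (h : ∀ z, Has Q X (t u w) (t u z)) : AA Q t X u := by
  have h1 : ∀ w1, QW w1 = 0 → ∀ z, Has Q X (t u w1) (t u z) := by
    intro w1 hw1 z
    by_cases h0 : w1 = 0
    · subst h0
      rw [map_zero]
      exact has_zero_left _
    obtain ⟨l, hl, hlw⟩ := hX.tr hw hw1 hw0 h0
    have h2 := (h (l.symm z)).map (hX.le (hX.rW l hl)) (hX.rW l hl)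
    rwa [rW_apply, rW_apply, hlw, LinearEquiv.apply_symm_apply] at h2
  intro z1 z2
  obtain ⟨x0, y0, h0⟩ := hX.sW
  refine sing_induction h0 (P := fun z2 => Has Q X (t u z1) (t u z2)) ?_ ?_ z2
  · intro a c ha hc
    exact (ha.add hc).congr rfl (by rw [map_add])
  · intro a ha
    have h2 := ((h1 a ha z1).swap (S.sing_left hu z1)).neg
    rwa [neg_neg] at h2

theorem AA_of_nonperp {u u' : U} (hu : QU u = 0) (hu' : QU u' = 0) (huu' : polar QU u u' ≠ 0)
    (h : AA Q t X u) : AA Q t X u' := by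
  have hyp : Hyp QU u ((polar QU u u')⁻¹ • u') := by
    refine ⟨hu, by rw [QuadraticMap.map_smul, hu', smul_zero], ?_⟩
    rw [polar_smul_right, smul_eq_mul, inv_mul_cancel₀ huu']
  obtain ⟨z, hz, hz1, hz2⟩ := exists_third S.ndU hX.dU hyp
  rw [polar_smul_right, smul_eq_mul] at hz2
  have hz3 : polar QU z u' ≠ 0 := right_ne_zero_of_mul hz2
  have hy1 : Hyp QU z ((polar QU z u)⁻¹ • u) :=
    ⟨hz, by rw [QuadraticMap.map_smul, hu, smul_zero], by rw [polar_smul_right, smul_eq_mul, inv_mul_cancel₀ hz1]⟩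
  have hy2 : Hyp QU z ((polar QU z u')⁻¹ • u') :=
    ⟨hz, by rw [QuadraticMap.map_smul, hu', smul_zero], by rw [polar_smul_right, smul_eq_mul, inv_mul_cancel₀ hz3]⟩
  obtain ⟨g, hg, -, hgu⟩ := siegel_partner hy1 hy2
  have hgu' : g u = (polar QU z u * (polar QU z u')⁻¹) • u' := by
    have : u = (polar QU z u) • ((polar QU z u)⁻¹ • u) := by rw [smul_smul, mul_inv_cancel₀ hz1, one_smul]
    conv_lhs => rw [this]
    rw [map_smul, hgu, smul_smul]
  set γ := polar QU z u * (polar QU z u')⁻¹ with hγ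
  have hγ0 : γ ≠ 0 := mul_ne_zero hz1 (inv_ne_zero hz3)
  intro z1 z2
  have h1 := (h (γ⁻¹ • z1) (γ⁻¹ • z2)).map (hX.le (hX.rU g hg)) (hX.rU g hg)
  rw [rU_apply, rU_apply, hgu'] at h1
  refine h1.congr ?_ ?_
  · rw [map_smul, map_smul, LinearMap.smul_apply, smul_smul, inv_mul_cancel₀ hγ0, one_smul]
  · rw [map_smul, map_smul, LinearMap.smul_apply, smul_smul, inv_mul_cancel₀ hγ0, one_smul]

theorem has_opp {u u' : U} (hu : QU u = 0) (hu' : QU u' = 0) (huu' : polar QU u u' ≠ 0)
    (h : AA Q t X u) (h' : AA Q t X u') {z1 z' : W} (hz : polar QW z1 z' = 0) :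
    Has Q X (t u z1) (t u' z') := by
  have key : ∀ z', polar QW z1 z' = 0 → Has Q X (t u z1) (polar QU u' u • t u' z') := by
    intro z' hz
    by_cases hz' : z' = 0
    · subst hz'
      rw [map_zero, smul_zero]
      exact has_zero (S.sing_left hu z1)
    obtain ⟨z1', h1, h2⟩ := exists_perp_not_mult (Q := QW) (by have := hX.dW; omega) z1 z'
    obtain ⟨z2, h3, h4⟩ := exists_sep S.ndW h2
    have h5 := (h' z1' z').comm (h z1 z2) (by rw [S.pol, polar_comm QW, h1, mul_zero])
      (by rw [S.pol, polar_comm QW, hz, mul_zero])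
    refine h5.congr rfl ?_
    have e1 : polar Q (t u' z1') (t u z2) = polar QU u' u := by rw [S.pol, h4, mul_one]
    have e2 : polar Q (t u' z') (t u z2) = 0 := by rw [S.pol, h3, mul_zero]
    have e3 : Q (t u' z') = 0 := S.sing_left hu' z'
    rw [e1, e2, e3]
    module
  have huu'' : polar QU u' u ≠ 0 := by rwa [polar_comm]
  have h1 := key ((polar QU u' u)⁻¹ • z') (by rw [polar_smul_right, hz, smul_zero])
  refine h1.congr rfl ?_
  rw [map_smul, smul_smul, mul_inv_cancel₀ huu'', one_smul]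

theorem has_perpW {u u' : U} (hy : Hyp QU u u')
    (h : AA Q t X u) {z1 z' : W} (hz : polar QW z1 z' = 0) (y : U) :
    Has Q X (t u z1) (t y z') := by
  refine op_ind hy (P := fun y => Has Q X (t u z1) (t y z')) ?_ ?_ ?_ y
  · intro a c ha hc
    exact (ha.add hc).congr rfl (by rw [map_add]; rfl)
  · intro c
    refine (h z1 (c • z')).congr rfl ?_
    rw [map_smul, map_smul]; rfl
  · intro a ha hua
    exact hX.has_opp hy.left ha hua h (hX.AA_of_nonperp hy.left ha hua h) hz

theorem has_perpU {u u' : U} (hyp : Hyp QU u u')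
    (h : AA Q t X u) {y : U} (hy : polar QU u y = 0) (z1 z' : W) :
    Has Q X (t u z1) (t y z') := by
  obtain ⟨z2, h1, h2⟩ := exists_perp_not_mult (Q := QW) (by have := hX.dW; omega) z' z1
  obtain ⟨z3, h3, h4⟩ := exists_sep S.ndW h2
  have h5 := (hX.has_perpW hyp h (z1 := z2) (z' := z') (by rw [polar_comm]; exact h1) y).comm
    (hX.has_perpW hyp h (z1 := z1) (z' := z3) h3 u')
    (by rw [S.pol, hyp.polar_left, zero_mul]) (by rw [S.pol, polar_comm, hy, zero_mul])
  have e1 : polar Q (t u z2) (t u' z3) = 1 := by rw [S.pol, hyp.pair, h4, one_mul]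
  rw [e1] at h5
  have h6 := h z1 ((polar Q (t y z') (t u' z3) + Q (t y z') * 1) • z2)
  refine (h5.add h6).congr rfl ?_
  rw [map_smul]
  module

theorem full_of_AA {u u' : U} (hyp : Hyp QU u u')
    (h : AA Q t X u) (z1 : W) (hz1 : z1 ≠ 0) : Full Q X (t u z1) := by
  obtain ⟨z1', hz1'⟩ := S.ndW.exists_polar_eq hz1 1
  have key : ∀ v : V, ∃ c : F, Has Q X (t u z1) (v - c • t u' z1') := by
    intro v
    induction v using S.ten.inductionOn with
    | zero => exact ⟨0, (has_zero (S.sing_left hyp.left z1)).congr rfl (by simp)⟩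
    | tmul y z =>
      set β := polar QU u y with hβ
      set γ := polar QW z1 z with hγ
      have h1 := hX.has_perpU hyp h (y := y - β • u') (by
        rw [polar_sub_right, polar_smul_right, hyp.pair, hβ]; simp) z1 z
      have h2 := hX.has_perpW hyp h (z1 := z1) (z' := β • (z - γ • z1')) (by
        rw [polar_smul_right, polar_sub_right, polar_smul_right, hz1', hγ]; simp) u'
      refine ⟨β * γ, (h1.add h2).congr rfl ?_⟩
      simp only [map_sub, map_smul, LinearMap.sub_apply, LinearMap.smul_apply]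
      module
    | add x y hx hy =>
      obtain ⟨c, hc⟩ := hx
      obtain ⟨d, hd⟩ := hy
      exact ⟨c + d, (hc.add hd).congr rfl (by module)⟩
  refine ⟨S.sing_left hyp.left z1, fun v hv => ?_⟩
  obtain ⟨c, hc⟩ := key v
  have h1 := hc.perp
  rw [polar_sub_right, hv, polar_smul_right, S.pol, hyp.pair, hz1'] at h1
  have hc0 : c = 0 := by simpa using h1
  subst hc0
  exact hc.congr rfl (by simp)

theorem E_le_of_AA {u : U} (hu : QU u = 0) (hu0 : u ≠ 0) (h : AA Q t X u) : E Q ≤ X := by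
  obtain ⟨u', hyp⟩ := LieClassical.OrthTrans.exists_hyp S.ndU hu hu0
  obtain ⟨x, x2, hxx⟩ := hX.sW
  have hx0 := hxx.left_ne
  obtain ⟨x', hx'⟩ := S.ndW.exists_polar_eq hx0 1
  have hx'0 : x' ≠ 0 := by
    rintro rfl
    rw [polar_zero_right] at hx'
    exact zero_ne_one hx'
  have h1 := hX.full_of_AA hyp h x hx0
  have h2 := hX.full_of_AA hyp.symm
    (hX.AA_of_nonperp hyp.left hyp.right (by rw [hyp.pair]; exact one_ne_zero) h) x' hx'0
  exact E_le_of_full_pair hX.hG h1 h2 (by rw [S.pol, hyp.pair, hx']; simp)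

/-- **Case 1, final form.** -/
theorem E_le_of_has {u y y' : U} {w : W} (hu : QU u = 0) (hu0 : u ≠ 0) (hw : QW w = 0)
    (hw0 : w ≠ 0) (hy : polar QU u y = 0) (hy' : polar QU u y' = 0) (hyy : polar QU y' y ≠ 0)
    (h1 : Has Q X (t u w) (t y w)) (h2 : Has Q X (t u w) (t y' w)) : E Q ≤ X :=
  hX.E_le_of_AA hu hu0 (hX.AA_of_line hu hw hw0 (hX.has_line hu hw hw0 hy hy' hyy h1 h2))

theorem has_y {w : W} (hw : QW w = 0) (hw0 : w ≠ 0) {κ : U →ₗ[F] U} (h : InZ t QW X w κ)
    {u x : U} (hu : QU u = 0) (hx : polar QU u x = 0) :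
    Has Q X (t u w) (t ((2 * QU x) • κ u - (2 * polar QU (κ u) x) • x) w) := by
  have hsk := S.inZ_skew hX.le hw hw0 h
  have hk : Cfsg.Agent.H882.Ten.rU S.ten (siegel QU u x hu hx) ∈ X := hX.rU _ (siegel_mem_E hu hx)
  have h1 := S.inZ_sub hw (S.inZ_cj h hk) h
  have h2 := S.inZ_sub hw (S.inZ_cj h1 hk) h1
  have h3 := kappa2 hsk S.two hu hx
  have hxu : polar QU u (κ u) = 0 := by
    have h4 := hsk u u
    rw [polar_comm] at h4
    have h5 : 2 * polar QU u (κ u) = 0 := by linear_combination h4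
    exact (mul_eq_zero.1 h5).resolve_left S.two
  have hp : polar QU u ((2 * QU x) • κ u - (2 * polar QU (κ u) x) • x) = 0 := by
    rw [polar_sub_right, polar_smul_right, polar_smul_right, hxu, hx]; simp
  have h4 := S.has_of_inZ hw h2 (u := u) (y := -((2 * QU x) • κ u - (2 * polar QU (κ u) x) • x)) hu
    (by rw [polar_neg_right, hp, neg_zero]) (by
      intro v
      rw [h3, polar_neg_left]
      module)
  refine h4.neg.congr rfl ?_
  rw [map_neg, LinearMap.neg_apply, neg_neg]

/-- **Case 1.** -/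
theorem E_le_of_inZ (hPU : PU QU) {w : W} (hw : QW w = 0) (hw0 : w ≠ 0) {κ : U →ₗ[F] U}
    (h : InZ t QW X w κ) (hκ : κ ≠ 0) : E Q ≤ X := by
  have hsk := S.inZ_skew hX.le hw hw0 h
  obtain ⟨x0, y0, hxy0⟩ := hX.sU
  have hself : ∀ u, polar QU u (κ u) = 0 := by
    intro u
    have h4 := hsk u u
    rw [polar_comm] at h4
    have h5 : 2 * polar QU u (κ u) = 0 := by linear_combination h4
    exact (mul_eq_zero.1 h5).resolve_left S.two
  obtain ⟨u, hu, hku⟩ : ∃ u, QU u = 0 ∧ ∀ c : F, κ u ≠ c • u := by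
    by_contra hcon
    push Not at hcon
    obtain ⟨c, hc⟩ := scalar_of_sing S.two S.ndU hX.dU hxy0 κ hcon
    apply hκ
    have h1 := hsk x0 y0
    rw [hc, hc, polar_smul_left, polar_smul_right, hxy0.pair] at h1
    have h5 : 2 * c = 0 := by
      have : c * 1 = -(c * 1) := h1
      linear_combination this
    have hc0 := (mul_eq_zero.1 h5).resolve_left S.two
    ext v
    rw [hc, hc0, zero_smul]; rfl
  have hu0 : u ≠ 0 := by
    rintro rfl
    exact hku 0 (by simp)
  obtain ⟨u', hyp⟩ := LieClassical.OrthTrans.exists_hyp S.ndU hu hu0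
  obtain ⟨x1, hx1, -, hx1n⟩ := exists_nonsing_perp S.ndU hX.dU hyp
  by_cases hq : QU (κ u) = 0
  · obtain ⟨x', hx', hx'2, hx'n⟩ := hPU u (κ u) hu hq (hself u) hu0 hku
    obtain ⟨x, hx, hx2⟩ := exists_sep S.ndU hku
    have h1 := hX.has_y hw hw0 h hu hx
    have h2 := hX.has_y hw hw0 h hu hx'
    refine hX.E_le_of_has hu hu0 hw hw0 ?_ ?_ ?_ h1 h2
    · rw [polar_sub_right, polar_smul_right, polar_smul_right, hself, hx]; simp
    · rw [polar_sub_right, polar_smul_right, polar_smul_right, hself, hx']; simp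
    · rw [hx'2, hx2]
      simp only [mul_zero, zero_smul, sub_zero, polar_sub_right, polar_smul_left, polar_smul_right, mul_one,
        polar_self_of_sing hq, hx2, smul_eq_mul]
      intro h0
      have : 2 * (2 * QU x') = 0 := by linear_combination -h0
      exact mul_ne_zero S.two (mul_ne_zero S.two hx'n) this
  · have h1 := hX.has_y hw hw0 h hu hx1
    have hp : polar QU u ((2 * QU x1) • κ u - (2 * polar QU (κ u) x1) • x1) = 0 := by
      rw [polar_sub_right, polar_smul_right, polar_smul_right, hself, hx1]; simp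
    refine hX.E_le_of_has hu hu0 hw hw0 hp hp ?_ h1 h1
    have e : polar QU ((2 * QU x1) • κ u - (2 * polar QU (κ u) x1) • x1)
        ((2 * QU x1) • κ u - (2 * polar QU (κ u) x1) • x1) = (2 * QU x1) * (2 * QU x1) * (2 * QU (κ u)) := by
      have e1 := polar_self' (Q := QU) (κ u)
      have e2 := polar_self' (Q := QU) x1
      simp only [polar_sub_left, polar_sub_right, polar_smul_left, polar_smul_right, smul_eq_mul, e1, e2,
        polar_comm QU x1 (κ u)]
      ring
    rw [e]
    exact mul_ne_zero (mul_ne_zero (mul_ne_zero S.two hx1n) (mul_ne_zero S.two hx1n)) (mul_ne_zero S.two hq)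

/-- **All parameters are self-adjoint** if the centre meets `X` trivially. -/
theorem tau_symm {w : W} (hw : QW w = 0) (hw0 : w ≠ 0)
    (hZ : ∀ κ, InZ t QW X w κ → κ = 0) {τ : W →ₗ[F] U →ₗ[F] U} (h : InR t QW X w τ) {x : W}
    (hx : polar QW w x = 0) (u u' : U) : polar QU (τ x u) u' = polar QU u (τ x u') := by
  obtain ⟨g, hg, hgτ⟩ := h
  obtain ⟨w', hyp⟩ := LieClassical.OrthTrans.exists_hyp S.ndW hw hw0
  obtain ⟨κ, hκ, hκ'⟩ := S.rad_comm hX.le hyp hg (hX.rW _ (siegel_mem_E hw hx)) hgτ (S.isR_siegel hw hx)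
  have h0 := hZ κ hκ
  have h1 := hκ' u
  rw [h0, LinearMap.zero_apply, rW_apply] at h1
  have h2 : t u (siegel QW w x hw hx w') - t u w' = t u (x - (polar QW x w' + QW x) • w) := by
    rw [← map_sub]
    congr 1
    rw [siegel_apply, hyp.pair]
    module
  rw [h2, S.hat_t] at h1
  have h3 : ∀ v, S.hat (-(polarBilin QW x).smulRight (LinearMap.id : U →ₗ[F] U)) v = - S.cw x v := by
    have : S.hat (-(polarBilin QW x).smulRight (LinearMap.id : U →ₗ[F] U)) = - S.cw x := by
      refine ext_t S.ten fun u z => ?_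
      rw [S.hat_t, LinearMap.neg_apply, LinearMap.neg_apply, LinearMap.neg_apply, S.cw_t]
      rfl
    intro v
    rw [this]; rfl
  rw [h3] at h1
  have h4 : τ (x - (polar QW x w' + QW x) • w) u = τ x u := by
    rw [map_sub, map_smul, LinearMap.sub_apply, LinearMap.smul_apply, S.tau_self hw hw0 hgτ]
    simp
  rw [h4] at h1
  have h5 := S.cw_s hX.le hyp hg hgτ hx u u'
  have h6 : τ x u = - S.cw x (g (t u w') - t u w') := by
    rw [eq_neg_iff_add_eq_zero]
    rw [sub_neg_eq_add] at h1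
    exact h1.symm
  rw [h6, polar_neg_left, h5, neg_neg]

/-- **Commuting parameters.** -/
theorem tau_commute {w : W} (hw : QW w = 0) (hw0 : w ≠ 0)
    (hZ : ∀ κ, InZ t QW X w κ → κ = 0) {α β : U →ₗ[F] U} {y0 y1 : W} (hy0 : polar QW w y0 = 0)
    (hy1 : polar QW w y1 = 0) (hy : polar QW y0 y1 ≠ 0)
    (h : InR t QW X w ((polarBilin QW y0).smulRight α)) (h' : InR t QW X w ((polarBilin QW y1).smulRight β))
    (hα : ∀ u u', polar QU (α u) u' = polar QU u (α u')) (hβ : ∀ u u', polar QU (β u) u' = polar QU u (β u'))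
    (u : U) : α (β u) = β (α u) := by
  obtain ⟨g, hg, hgτ⟩ := h
  obtain ⟨g', hg', hgτ'⟩ := h'
  obtain ⟨w', hyp⟩ := LieClassical.OrthTrans.exists_hyp S.ndW hw hw0
  obtain ⟨κ, hκ, hκ'⟩ := S.rad_comm hX.le hyp hg hg' hgτ hgτ'
  have h0 := hZ κ hκ
  have h1 := hκ' u
  have h3 : ∀ (γ : U →ₗ[F] U) (x : W) v, S.hat ((polarBilin QW x).smulRight γ) v = γ (S.cw x v) := by
    intro γ x
    have : S.hat ((polarBilin QW x).smulRight γ) = γ ∘ₗ S.cw x := by
      refine ext_t S.ten fun u z => ?_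
      rw [S.hat_t, LinearMap.comp_apply, S.cw_t, map_smul]
      rfl
    intro v
    rw [this]; rfl
  rw [h0, LinearMap.zero_apply, h3, h3] at h1
  have h4 : S.cw y0 (g' (t u w') - t u w') = - (polar QW y0 y1 • β u) := by
    refine S.eq_of_polar fun y => ?_
    rw [S.cw_s hX.le hyp hg' hgτ' hy0 u y, LinearMap.smulRight_apply, LinearMap.smul_apply, polar_smul_right,
      polar_neg_left, polar_smul_left, hβ, polarBilin_apply_apply, polar_comm QW y1 y0]
  have h5 : S.cw y1 (g (t u w') - t u w') = - (polar QW y0 y1 • α u) := by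
    refine S.eq_of_polar fun y => ?_
    rw [S.cw_s hX.le hyp hg hgτ hy1 u y, LinearMap.smulRight_apply, LinearMap.smul_apply, polar_smul_right,
      polar_neg_left, polar_smul_left, hα, polarBilin_apply_apply]
  rw [h4, h5, map_neg, map_neg, map_smul, map_smul] at h1
  have h6 : polar QW y0 y1 • (α (β u) - β (α u)) = 0 := by
    rw [smul_sub]
    have : polar QW y0 y1 • α (β u) - polar QW y0 y1 • β (α u) =
      -(-(polar QW y0 y1 • α (β u)) - -(polar QW y0 y1 • β (α u))) := by abel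
    rw [this, ← h1, neg_zero]
  exact sub_eq_zero.1 ((smul_eq_zero.1 h6).resolve_left hy)

end Ov

end Cfsg.Agent.H932.Three
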