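import Cfsg.Agent.H882.Ten.Form

/-!
Unipotent isometries in odd characteristic.
-/

set_option autoImplicit false
set_option linter.unusedSimpArgs false
set_option linter.unusedSectionVars false

namespace Cfsg.Agent.H932.Three

open QuadraticMap hiding proj
open Cfsg.Agent.LieClassical.OrthCore Cfsg.Agent.LieClassical.OrthTrans
open Cfsg.Agent Cfsg.Agent.H882.Ten

variable {F : Type*} {X : Type*} [Field F] [AddCommGroup X] [Module F X] {R : QuadraticForm F X}

theorem coe_pow_equiv (g : X ≃ₗ[F] X) (k : ℕ) : ((g ^ k : X ≃ₗ[F] X) : X →ₗ[F] X) = (g : X →ₗ[F] X) ^ k :=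
  map_pow (LinearEquiv.automorphismGroup.toLinearMapMonoidHom (R := F) (M := X)) g k

theorem charP_end [Nontrivial X] (p : ℕ) [CharP F p] : CharP (Module.End F X) p :=
  charP_of_injective_algebraMap (FaithfulSMul.algebraMap_injective F (Module.End F X)) p

theorem sub_one_pow [Nontrivial X] {p : ℕ} [hp : Fact p.Prime] [CharP F p] (g : X ≃ₗ[F] X) :
    ((g : X →ₗ[F] X) - 1) ^ p = (g : X →ₗ[F] X) ^ p - 1 := by
  have := charP_end (F := F) (X := X) p
  have h := sub_pow_char_of_commute (p := p) (x := (g : X →ₗ[F] X)) (y := (1 : Module.End F X))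
    (Commute.one_right _)
  rw [one_pow] at h
  exact h

theorem pow_eq_one_iff [Nontrivial X] {p : ℕ} [hp : Fact p.Prime] [CharP F p] (g : X ≃ₗ[F] X) :
    g ^ p = 1 ↔ ((g : X →ₗ[F] X) - 1) ^ p = 0 := by
  rw [sub_one_pow, sub_eq_zero, ← coe_pow_equiv]
  constructor
  · intro h
    rw [h]; rfl
  · intro h
    apply LinearEquiv.toLinearMap_injective
    rw [h]; rfl

theorem odd_of_two_ne {p : ℕ} [hp : Fact p.Prime] [CharP F p] (h2 : (2 : F) ≠ 0) : ∃ k, p = 2 * k + 1 := by
  rcases hp.out.eq_two_or_odd' with h | h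
  · exfalso
    subst h
    exact h2 (CharP.cast_eq_zero F 2)
  · exact h

theorem mem_E_of_pow [FiniteDimensional F X] (hG : Good R) {p k : ℕ} (hp : p = 2 * k + 1) {n : X ≃ₗ[F] X}
    (hn : n ∈ O R) (h : n ^ p = 1) : n ∈ E R := by
  have h1 : n = n ^ (k + 1) * n ^ (k + 1) := by
    rw [← pow_add]
    have : k + 1 + (k + 1) = p + 1 := by omega
    rw [this, pow_succ, h, one_mul]
  rw [h1]
  exact sq_mem_E hG ((O R).pow_mem hn _)

/-- A unipotent isometry is in `E R`. -/
theorem mem_E_of_unip [Finite F] [FiniteDimensional F X] (hG : Good R) (h2 : (2 : F) ≠ 0) {n : X ≃ₗ[F] X}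
    (hn : n ∈ O R) (h3 : ((n : X →ₗ[F] X) - 1) ^ 3 = 0) : n ∈ E R := by
  obtain ⟨p, hp⟩ := CharP.exists F
  have hpp : Fact p.Prime := ⟨(CharP.char_is_prime_or_zero F p).resolve_right
    (fun h => (CharP.char_ne_zero_of_finite F p) h)⟩
  have hnt : Nontrivial X := by
    obtain ⟨x, hx, -⟩ := hG.sing
    exact ⟨x, 0, hx⟩
  obtain ⟨k, hk⟩ := odd_of_two_ne (p := p) h2
  refine mem_E_of_pow hG hk hn ((pow_eq_one_iff n).2 ?_)
  have h4 : 3 ≤ p := by
    have := hpp.out.two_le
    omega
  obtain ⟨m, hm⟩ := Nat.exists_eq_add_of_le h4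
  rw [hm, pow_add, h3, zero_mul]

/-- the relation between `g - 1` and its adjoint -/
theorem polar_sub_one {g : X ≃ₗ[F] X} (hg : g ∈ O R) (x y : X) :
    polar R (g x - x) (g y) = - polar R x (g y - y) := by
  rw [polar_sub_left, polar_map hg, polar_sub_right]
  ring

/-- For a unipotent isometry with `(g - 1)³ = 0` the image of `(g - 1)²` is totally isotropic. -/
theorem polar_sq_sub_one {g : X ≃ₗ[F] X} (hg : g ∈ O R) (h3 : ((g : X →ₗ[F] X) - 1) ^ 3 = 0) (x y : X) :
    polar R ((((g : X →ₗ[F] X) - 1 : Module.End F X) ^ 2 : Module.End F X) x)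
      ((((g : X →ₗ[F] X) - 1 : Module.End F X) ^ 2 : Module.End F X) y) = 0 := by
  set N : Module.End F X := (g : X →ₗ[F] X) - 1 with hN
  have hNa : ∀ x, N x = g x - x := fun x => rfl
  have hN3 : ∀ x, N (N (N x)) = 0 := by
    intro x
    have := LinearMap.congr_fun h3 x
    rw [pow_succ, pow_two] at this
    exact this
  have e2 : ∀ x, (N ^ 2) x = N (N x) := by
    intro x
    rw [pow_two]; rfl
  rw [e2, e2]
  obtain ⟨y', hy'⟩ := g.surjective (N (N y))
  rw [← hy', hNa, polar_sub_one hg]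
  have h1 : g y' - y' = 0 := by
    have h2 : g (g y' - y') = 0 := by
      rw [map_sub, hy']
      have := hN3 y
      rw [hNa] at this
      exact this
    exact (LinearEquiv.map_eq_zero_iff g).1 h2
  rw [h1, polar_zero_right, neg_zero]

/-- A unipotent isometry with `(g - 1)² = 0` of a three-dimensional space is trivial. -/
theorem eq_one_of_sq (h2 : (2 : F) ≠ 0) (hQ : Nondeg R) (hPU : ∀ u v : X, R u = 0 → R v = 0 → polar R u v = 0 →
    u ≠ 0 → ∃ c : F, v = c • u) {g : X ≃ₗ[F] X} (hg : g ∈ O R)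
    (h : ∀ x, g (g x - x) - (g x - x) = 0) : g = 1 := by
  have hz : ∀ x y, polar R (g x - x) (g y - y) = 0 := by
    intro x y
    have h1 := polar_sub_one hg x (g y - y)
    rw [h y, polar_zero_right, neg_zero] at h1
    have h3 : g (g y - y) = g y - y := sub_eq_zero.1 (h y)
    rw [h3] at h1
    exact h1
  have hs : ∀ x y, polar R (g x - x) y = - polar R x (g y - y) := by
    intro x y
    have h1 := polar_sub_one hg x y
    have h3 := hz x y
    rw [polar_sub_right, h1] at h3
    linear_combination -h3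
  have hx : ∀ x, polar R (g x - x) x = 0 := by
    intro x
    have h1 := hs x x
    rw [polar_comm R x] at h1
    have h3 : 2 * polar R (g x - x) x = 0 := by linear_combination h1
    exact (mul_eq_zero.1 h3).resolve_left h2
  have hsing : ∀ x, R (g x - x) = 0 := by
    intro x
    rw [Q_zero_iff h2]
    exact hz x x
  by_contra hne
  obtain ⟨x, hx0⟩ : ∃ x, g x - x ≠ 0 := by
    by_contra hcon
    push Not at hcon
    apply hne
    ext x
    exact sub_eq_zero.1 (hcon x)
  obtain ⟨y, hy⟩ := hQ.exists_polar_eq hx0 1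
  obtain ⟨c, hc⟩ := hPU (g x - x) (g y - y) (hsing x) (hsing y) (hz x y) hx0
  have h1 := hs x y
  rw [hy, hc, polar_smul_right, polar_comm, hx, smul_zero, neg_zero] at h1
  exact one_ne_zero h1

end Cfsg.Agent.H932.Three
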