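import Cfsg.Agent.H932.TwelveBase
import Cfsg.Agent.H925.EvenFine

/-!
Irreducible subgroups of the twelve-dimensional orthogonal groups (H932).
-/

set_option autoImplicit false
set_option linter.unusedSectionVars false

namespace Cfsg.Agent.H932

open Cfsg Cfsg.Geo Module
open QuadraticMap hiding proj
open Cfsg.Agent.LieClassical.OrthCore Cfsg.Agent.LieClassical.OrthTrans Cfsg.Agent.LieClassical.OrthFinite
open Cfsg.Agent.H919 (HermForm)
open Cfsg.Agent.H925 Cfsg.Agent.H922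
open Cfsg.Agent.H912 (pt tens form_pt)
open scoped Matrix MatrixGroups

variable {ι : Type} [Fintype ι] [DecidableEq ι] {F : Type*} [Field F] {Q : (ι → F) → F}

/-- alternating nondegenerate forms do not exist in odd dimension -/
theorem not_alt_of_odd {n : ℕ} (hn : Odd n) {ε : F} {f : (Fin n → F) → (Fin n → F) → F}
    (hf : HermForm (RingEquiv.refl F) ε f) (halt : ∀ v, f v v = 0) : False := by
  have h1 := Cfsg.Agent.H926.even_of_alt n (Fin n → F)
    (by rw [Module.finrank_fintype_fun_eq_card, Fintype.card_fin]) (toBilin (isBilinearForm_of_herm hf)) halt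
    (fun v hv => by
      by_contra h0
      obtain ⟨-, x, hx⟩ := hf.nondegenerate v h0
      exact hx (hv x))
  exact (Nat.not_even_iff_odd.2 hn) h1

theorem eq_two_or_three {r : ℕ} (hr : r.Prime) (h : r ∣ 12) : r = 2 ∨ r = 3 := by
  have h1 : r ∣ 2 ^ 2 * 3 := h
  rcases (Nat.Prime.dvd_mul hr).1 h1 with h2 | h2
  · left
    exact (Nat.prime_dvd_prime_iff_eq hr Nat.prime_two).1 (hr.dvd_of_dvd_pow h2)
  · right
    exact (Nat.prime_dvd_prime_iff_eq hr Nat.prime_three).1 h2

/-- the classes of irreducible groups in dimension twelve -/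
inductive IrrCase (Q : (ι → F) → F) (H : Subgroup (GL ι F)) [Fintype F] : Prop where
  | orth (t m : ℕ) (D : Fin t → Submodule F (ι → F)) (htm : t * m = 12)
      (hD : IsOrthogonalMDecomposition Q m D) (hH : H ≤ decompositionStabilizer D)
  | pair (D : Fin 2 → Submodule F (ι → F)) (hD : IsMDecomposition 6 D) (hs : ∀ i, IsTotallySingularQuad Q (D i))
      (hH : H ≤ decompositionStabilizer D)
  | field (r : ℕ) (K : Subalgebra F (Matrix ι ι F)) (hr : r = 2 ∨ r = 3) (hK : IsFieldSubalgebra r K)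
      (hH : H ≤ subalgebraNormalizer K)
  | alt (e : ι ≃ Fin 2 × Fin 6) (P : GL ι F) (f₁ : (Fin 2 → F) → (Fin 2 → F) → F)
      (f₂ : (Fin 6 → F) → (Fin 6 → F) → F) (ε : F) (hq : 3 ≤ Fintype.card F)
      (h1 : HermForm (RingEquiv.refl F) ε f₁) (h2 : HermForm (RingEquiv.refl F) ε f₂)
      (ha1 : ∀ v, f₁ v v = 0) (ha2 : ∀ v, f₂ v v = 0)
      (hT : IsTensorFormStructure (RingEquiv.refl F) (polar Q) f₁ f₂ e P)
      (hpure : ∀ (v : Fin 2 → F) (w : Fin 6 → F),
        Q ((P : Matrix ι ι F) *ᵥ ((fun a : Fin 2 × Fin 6 => v a.1 * w a.2) ∘ e)) = 0)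
      (hH : H ≤ tensorProductSubgroup 2 6 e P)
  | symm (e : ι ≃ Fin 3 × Fin 4) (P : GL ι F) (f₁ : (Fin 3 → F) → (Fin 3 → F) → F)
      (f₂ : (Fin 4 → F) → (Fin 4 → F) → F) (hodd : (2 : F) ≠ 0)
      (h1 : HermForm (RingEquiv.refl F) 1 f₁) (h2 : HermForm (RingEquiv.refl F) 1 f₂)
      (hm : ¬ IsPlusTypeOn (fun v : Fin 4 → F => f₂ v v) ⊤)
      (hT : IsTensorFormStructure (RingEquiv.refl F) (polar Q) f₁ f₂ e P)
      (hH : H ≤ tensorProductSubgroup 3 4 e P)
  | sub (F₀ : Subfield F) (r : ℕ) (P : GL ι F) (ζ : F) (hr : r.Prime) (hcard : Fintype.card F = Nat.card F₀ ^ r)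
      (hζ : ζ ≠ 0) (hR : IsQuadFormRationalStructure (fun v => ζ * Q v) F₀ P) (hH : H ≤ subfieldSubgroup F₀ P)
  | res (h : InOrthogonalResidualClass H)

theorem cases_alt [Fintype F] (hQ : IsNondegenerateQuadraticForm Q)
    {H : Subgroup (GL ι F)} (hI : H ≤ isometryGroup F Q) (hirr : ActsIrreducibly (matrixSet H))
    {e : ι ≃ Fin 2 × Fin 6} {P : GL ι F} {f₁ : (Fin 2 → F) → (Fin 2 → F) → F}
    {f₂ : (Fin 6 → F) → (Fin 6 → F) → F} {ε : F}
    (h1 : HermForm (RingEquiv.refl F) ε f₁) (h2 : HermForm (RingEquiv.refl F) ε f₂)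
    (ha1 : ∀ v, f₁ v v = 0) (ha2 : ∀ v, f₂ v v = 0)
    (hT : IsTensorFormStructure (RingEquiv.refl F) (polar Q) f₁ f₂ e P)
    (hH : H ≤ tensorProductSubgroup 2 6 e P) : IrrCase Q H := by
  by_cases hq : Fintype.card F = 2
  · obtain ⟨K, hK, hle⟩ := exists_field_of_two hq (by norm_num) e P
    exact IrrCase.field 2 K (Or.inl rfl) hK (hH.trans hle)
  · have h3 : 3 ≤ Fintype.card F := by
      have := Fintype.one_lt_card (α := F)
      omega
    exact IrrCase.alt e P f₁ f₂ ε h3 h1 h2 ha1 ha2 hT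
      (fun v w => quad_pure_eq_zero hQ (by norm_num) (by norm_num) h1 h2 ha1 ha2 hT hirr hI hH v w) hH

theorem cases_two_six [Fintype F] (hcard : Fintype.card ι = 12) (hQ : IsNondegenerateQuadraticForm Q)
    {H : Subgroup (GL ι F)} (hI : H ≤ isometryGroup F Q) (hirr : ActsIrreducibly (matrixSet H))
    {e : ι ≃ Fin 2 × Fin 6} {P : GL ι F} {f₁ : (Fin 2 → F) → (Fin 2 → F) → F}
    {f₂ : (Fin 6 → F) → (Fin 6 → F) → F} {ε : F} (hε : ε = 1 ∨ ε = -1)
    (h1 : HermForm (RingEquiv.refl F) ε f₁) (h2 : HermForm (RingEquiv.refl F) ε f₂)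
    (hT : IsTensorFormStructure (RingEquiv.refl F) (polar Q) f₁ f₂ e P)
    (hH : H ≤ tensorProductSubgroup 2 6 e P) : IrrCase Q H := by
  have hne : Nonempty ι := Fintype.card_pos_iff.1 (by omega)
  have hIp : ∀ g ∈ H, ∀ u v, polar Q ((g : Matrix ι ι F) *ᵥ u) ((g : Matrix ι ι F) *ᵥ v) = polar Q u v :=
    fun g hg => polar_iso (hI hg)
  have hsw := Cfsg.Agent.H912.isTensorFormStructure_swap hT
  have hHsw : H ≤ tensorProductSubgroup 6 2 (e.trans (Equiv.prodComm (Fin 2) (Fin 6))) P := by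
    rw [Cfsg.Agent.H912.tensorProductSubgroup_swap]; exact hH
  by_cases h20 : (2 : F) = 0
  · have ha2 := Cfsg.Agent.H912.second_alternating h20 (by norm_num) (by norm_num) h1 h2 hT hirr hH hIp
    have ha1 := Cfsg.Agent.H912.second_alternating h20 (by norm_num) (by norm_num) h2 h1 hsw hirr hHsw hIp
    exact cases_alt hQ hI hirr h1 h2 ha1 ha2 hT hH
  rcases hε with rfl | rfl
  · -- symmetric
    rcases Cfsg.Agent.H924.cases_of_tensor_two h20 (hermForm_polar hQ) hirr hIp (by norm_num) h2 h1 hsw hHsw with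
      ⟨t, m, D, hD, hHD, -⟩ | ⟨m, D, hD, hs, hHD⟩ | ⟨r, K, hr, hK, -, hHK⟩
    · have htm := mul_eq_card hD.decomp
      rw [hcard] at htm
      exact IrrCase.orth t m D htm (isOrthogonalMDecomposition_of_irreducible hirr hI hD hHD) hHD
    · have htm := mul_eq_card hD
      have hm : m = 6 := by omega
      subst hm
      exact IrrCase.pair D hD (quad_pair hQ hI hirr (by omega) hD hs hHD) hHD
    · have hdvd := Cfsg.Agent.H912.finrank_dvd_of_fieldSub hK
      rw [hcard] at hdvd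
      exact IrrCase.field r K (eq_two_or_three hr hdvd) hK hHK
  · exact cases_alt hQ hI hirr h1 h2 (alternating_of_herm h20 h1) (alternating_of_herm h20 h2) hT hH

theorem cases_three_four [Fintype F] (hcard : Fintype.card ι = 12) (hQ : IsNondegenerateQuadraticForm Q)
    {H : Subgroup (GL ι F)} (hΩ : H ≤ omegaGL Q) (hirr : ActsIrreducibly (matrixSet H))
    {e : ι ≃ Fin 3 × Fin 4} {P : GL ι F} {f₁ : (Fin 3 → F) → (Fin 3 → F) → F}
    {f₂ : (Fin 4 → F) → (Fin 4 → F) → F} {ε : F} (hε : ε = 1 ∨ ε = -1)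
    (h1 : HermForm (RingEquiv.refl F) ε f₁) (h2 : HermForm (RingEquiv.refl F) ε f₂)
    (hT : IsTensorFormStructure (RingEquiv.refl F) (polar Q) f₁ f₂ e P)
    (hH : H ≤ tensorProductSubgroup 3 4 e P) : IrrCase Q H := by
  have hI : H ≤ isometryGroup F Q := hΩ.trans (H925.omegaGL_le_iso Q)
  have hIp : ∀ g ∈ H, ∀ u v, polar Q ((g : Matrix ι ι F) *ᵥ u) ((g : Matrix ι ι F) *ᵥ v) = polar Q u v :=
    fun g hg => polar_iso (hI hg)
  have hsw := Cfsg.Agent.H912.isTensorFormStructure_swap hT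
  have hHsw : H ≤ tensorProductSubgroup 4 3 (e.trans (Equiv.prodComm (Fin 3) (Fin 4))) P := by
    rw [Cfsg.Agent.H912.tensorProductSubgroup_swap]; exact hH
  have h3odd : Odd 3 := ⟨1, rfl⟩
  by_cases h20 : (2 : F) = 0
  · have ha1 := Cfsg.Agent.H912.second_alternating h20 (by norm_num) (by norm_num) h2 h1 hsw hirr hHsw hIp
    exact (not_alt_of_odd h3odd h1 ha1).elim
  rcases hε with rfl | rfl
  · by_cases hp : IsPlusTypeOn (fun v : Fin 4 → F => f₂ v v) ⊤
    · obtain ⟨e', P', g₁, g₂, hg1, hg2, hT', hle⟩ := exists_regroup h20 h3odd h1 h2 hp hT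
      refine cases_alt (e := e') (P := P') (f₁ := g₁) (f₂ := g₂) hQ hI hirr hg1 hg2 (alternating_of_herm h20 hg1)
        (alternating_of_herm h20 hg2) hT' ?_
      intro x hx
      exact hle x (hH hx) (hIp x hx) (by
        have h3 : x.det = 1 := omegaGL_le_specialLinear Q (hΩ hx)
        exact congrArg Units.val h3)
    · exact IrrCase.symm e P f₁ f₂ h20 h1 h2 hp hT hH
  · exact (not_alt_of_odd h3odd h1 (alternating_of_herm h20 h1)).elim

/-- **Irreducible subgroups of `Ω` in dimension twelve.** -/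
theorem irr_cases [Fintype F] (hcard : Fintype.card ι = 12) (hQ : IsNondegenerateQuadraticForm Q)
    {H : Subgroup (GL ι F)} (hΩ : H ≤ omegaGL Q) (hirr : ActsIrreducibly (matrixSet H)) : IrrCase Q H := by
  have hI : H ≤ isometryGroup F Q := hΩ.trans (H925.omegaGL_le_iso Q)
  rcases orth_irreducible_fine (by omega) hQ hI hirr with
    ⟨t, m, D, htm, hD, hHD, -⟩ | ⟨m, D, hm, hD, hs, hHD⟩ | ⟨r, K, hr, hdvd, hK, -, hHK⟩ |
    ⟨n₁, n₂, e, P, ε, f₁, f₂, hn1, hn2, hn, hε, h1, h2, hT, hHT⟩ |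
    ⟨F₁, r, B, ζ, hF₁, hr, hc, hζ, hR, hHF⟩ | ⟨r, m, R, -, -, -, -, hR, -, hm, hc, -⟩ |
    ⟨m, t, e, P, E, hmt, hw⟩ | h
  · exact IrrCase.orth t m D (htm.trans hcard) hD hHD
  · have : m = 6 := by omega
    subst this
    exact IrrCase.pair D hD hs hHD
  · rw [hcard] at hdvd
    exact IrrCase.field r K (eq_two_or_three hr hdvd) hK hHK
  · rw [hcard] at hn
    have hT' : IsTensorFormStructure (RingEquiv.refl F) (polar Q) f₁ f₂ e P := hT
    have hsw := Cfsg.Agent.H912.isTensorFormStructure_swap hT'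
    have hHsw : H ≤ tensorProductSubgroup n₂ n₁ (e.trans (Equiv.prodComm (Fin n₁) (Fin n₂))) P := by
      rw [Cfsg.Agent.H912.tensorProductSubgroup_swap]; exact hHT
    have hle : n₁ ≤ 6 := by
      by_contra hc
      have : 7 * 2 ≤ n₁ * n₂ := Nat.mul_le_mul (by omega) hn2
      omega
    interval_cases n₁
    · have : n₂ = 6 := by omega
      subst this
      exact cases_two_six hcard hQ hI hirr hε h1 h2 hT' hHT
    · have : n₂ = 4 := by omega
      subst this
      exact cases_three_four hcard hQ hΩ hirr hε h1 h2 hT' hHT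
    · have : n₂ = 3 := by omega
      subst this
      exact cases_three_four hcard hQ hΩ hirr hε h2 h1 hsw hHsw
    · omega
    · have : n₂ = 2 := by omega
      subst this
      exact cases_two_six hcard hQ hI hirr hε h2 h1 hsw hHsw
  · have hc' : Fintype.card F = Nat.card F₁ ^ r := by rw [← hc, Nat.card_eq_fintype_card]
    exact IrrCase.sub F₁ r B ζ hr hc' hζ
      (Cfsg.Agent.H926.quadRational_of_formRational hQ (by omega) hI hirr hHF hζ hR) hHF
  · exfalso
    have hrp : r.Prime := hR.prime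
    rw [hcard] at hc
    have hdvd : r ∣ 12 := by
      rw [hc]
      exact dvd_pow_self r (by omega)
    have hm4 : m ≤ 4 := by
      by_contra hcon
      have h3 : r ^ 5 ≤ r ^ m := Nat.pow_le_pow_right hrp.pos (by omega)
      have h4 : 2 ^ 5 ≤ r ^ 5 := Nat.pow_le_pow_left hrp.two_le 5
      omega
    rcases eq_two_or_three hrp hdvd with rfl | rfl <;> interval_cases m <;> omega
  · exfalso
    rw [hcard] at hmt
    have h2m := hw.two_le_m
    have h2t := hw.two_le_t
    have hm4 : m < 4 := by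
      by_contra hcon
      have h3 : m ^ 2 ≤ m ^ t := Nat.pow_le_pow_right (by omega) h2t
      have h4 : 4 ^ 2 ≤ m ^ 2 := Nat.pow_le_pow_left (by omega) 2
      omega
    have ht4 : t < 4 := by
      by_contra hcon
      have h3 : m ^ 4 ≤ m ^ t := Nat.pow_le_pow_right (by omega) (by omega)
      have h4 : 2 ^ 4 ≤ m ^ 4 := Nat.pow_le_pow_left (by omega) 4
      omega
    interval_cases m <;> interval_cases t <;> omega
  · exact IrrCase.res h

end Cfsg.Agent.H932
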